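import Cfsg.Agent.Lib.Dickson.Binary
import Cfsg.Agent.Lib.Linear.SLBasic
import Cfsg.Agent.Lib.Invol.Quaternion
import Cfsg.Agent.Lib.Small.SimpleOrder
import Mathlib.GroupTheory.PresentedGroup

/-!
# The icosahedral group and its double cover

`⟨a, b ∣ a³, b⁵, (ab)²⟩` is `A₅`; its double cover presentation gives `SL(2, 5)`, which is the only
insoluble group of order 120 with quaternion Sylow 2-subgroups.
-/

set_option autoImplicit false
set_option linter.style.haveILetI false

namespace Cfsg.Lib.Recog.Icosa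

open Matrix
open scoped MatrixGroups

universe u

section Enumeration

variable {G : Type u} [Group G]

/-- A labelled edge of the coset graph of `⟨b⟩`. -/
def Step (b t w t' : G) : Prop := ∃ k : ℤ, t * w = b ^ k * t'

theorem Step.refl (b t : G) : Step b t 1 t := ⟨0, by simp⟩

theorem Step.trans {b t t' t'' v w : G} (h : Step b t v t') (h' : Step b t' w t'') :
    Step b t (v * w) t'' := by
  obtain ⟨k, hk⟩ := h
  obtain ⟨l, hl⟩ := h'
  exact ⟨k + l, by rw [← mul_assoc, hk, mul_assoc, hl, ← mul_assoc, ← _root_.zpow_add]⟩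

theorem Step.deduce {b ti tp tq pre suf g : G} (h1 : Step b ti pre tp) (h2 : Step b tq suf ti)
    (hr : pre * g * suf = 1) : Step b tp g tq := by
  obtain ⟨k, hk⟩ := h1
  obtain ⟨l, hl⟩ := h2
  refine ⟨-k + -l, ?_⟩
  have hg : pre * g = suf⁻¹ := eq_inv_of_mul_eq_one_left hr
  calc tp * g = b ^ (-k) * (b ^ k * tp) * g := by rw [← mul_assoc, ← _root_.zpow_add, neg_add_cancel, zpow_zero, one_mul]
    _ = b ^ (-k) * ti * suf⁻¹ := by rw [← hk, mul_assoc, mul_assoc, hg, ← mul_assoc]
    _ = b ^ (-k) * (b ^ (-l) * (b ^ l * ti)) * suf⁻¹ := by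
      rw [← mul_assoc (b ^ (-l)), ← _root_.zpow_add, neg_add_cancel, zpow_zero, one_mul]
    _ = b ^ (-k + -l) * tq := by rw [← hl, _root_.zpow_add]; group

/-- The twelve cosets of `⟨b⟩`. -/
theorem exists_twelve_cosets (a b : G) (ha : a ^ 3 = 1) (hb : b ^ 5 = 1) (hab : (a * b) ^ 2 = 1) :
    ∃ t : Fin 12 → G, t 0 = 1 ∧ ∀ i, (∃ j, Step b (t i) a (t j)) ∧ ∃ j, Step b (t i) b (t j) := by
  have ra3 : a * (a * a) = 1 := by simpa [pow_succ, mul_assoc] using ha
  have rb5 : b * (b * (b * (b * b))) = 1 := by simpa [pow_succ, mul_assoc] using hb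
  have ra4 : a * (b * (a * b)) = 1 := by simpa [pow_succ, mul_assoc] using hab
  let t0 : G := 1
  have e0b : Step b t0 b t0 := ⟨1, by simp [t0]⟩
  let t1 : G := t0 * a
  have e0a : Step b t0 a t1 := ⟨0, by simp [t1]⟩
  let t2 : G := t1 * a
  have e1a : Step b t1 a t2 := ⟨0, by simp [t2]⟩
  have e2a : Step b t2 a t0 := Step.deduce (e0a.trans e1a) (Step.refl b t0) (by simpa [mul_assoc] using ra3)
  have e1b : Step b t1 b t2 := Step.deduce e0a (e2a.trans e0b) (by simpa [mul_assoc] using ra4)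
  let t3 : G := t2 * b
  have e2b : Step b t2 b t3 := ⟨0, by simp [t3]⟩
  let t4 : G := t3 * a
  have e3a : Step b t3 a t4 := ⟨0, by simp [t4]⟩
  have e4b : Step b t4 b t1 := Step.deduce ((e1a.trans e2b).trans e3a) (Step.refl b t1) (by simpa [mul_assoc] using ra4)
  let t5 : G := t3 * b
  have e3b : Step b t3 b t5 := ⟨0, by simp [t5]⟩
  have e5b : Step b t5 b t4 := Step.deduce ((e1b.trans e2b).trans e3b) e4b (by simpa [mul_assoc] using rb5)
  let t6 : G := t4 * a
  have e4a : Step b t4 a t6 := ⟨0, by simp [t6]⟩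
  have e6a : Step b t6 a t3 := Step.deduce (e3a.trans e4a) (Step.refl b t3) (by simpa [mul_assoc] using ra3)
  let t7 : G := t5 * a
  have e5a : Step b t5 a t7 := ⟨0, by simp [t7]⟩
  have e7b : Step b t7 b t6 := Step.deduce e5a (e6a.trans e3b) (by simpa [mul_assoc] using ra4)
  let t8 : G := t6 * b
  have e6b : Step b t6 b t8 := ⟨0, by simp [t8]⟩
  have e8a : Step b t8 a t5 := Step.deduce (e4a.trans e6b) e5b (by simpa [mul_assoc] using ra4)
  have e7a : Step b t7 a t8 := Step.deduce e5a e8a (by simpa [mul_assoc] using ra3)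
  let t9 : G := t8 * b
  have e8b : Step b t8 b t9 := ⟨0, by simp [t9]⟩
  let t10 : G := t9 * a
  have e9a : Step b t9 a t10 := ⟨0, by simp [t10]⟩
  have e10b : Step b t10 b t7 := Step.deduce ((e7a.trans e8b).trans e9a) (Step.refl b t7) (by simpa [mul_assoc] using ra4)
  have e9b : Step b t9 b t10 := Step.deduce (e6b.trans e8b) (e10b.trans e7b) (by simpa [mul_assoc] using rb5)
  let t11 : G := t10 * a
  have e10a : Step b t10 a t11 := ⟨0, by simp [t11]⟩
  have e11a : Step b t11 a t9 := Step.deduce (e9a.trans e10a) (Step.refl b t9) (by simpa [mul_assoc] using ra3)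
  have e11b : Step b t11 b t11 := Step.deduce e10a (e11a.trans e9b) (by simpa [mul_assoc] using ra4)
  refine ⟨![t0, t1, t2, t3, t4, t5, t6, t7, t8, t9, t10, t11], rfl, ?_⟩
  intro i
  fin_cases i
  · exact ⟨⟨1, e0a⟩, ⟨0, e0b⟩⟩
  · exact ⟨⟨2, e1a⟩, ⟨2, e1b⟩⟩
  · exact ⟨⟨0, e2a⟩, ⟨3, e2b⟩⟩
  · exact ⟨⟨4, e3a⟩, ⟨5, e3b⟩⟩
  · exact ⟨⟨6, e4a⟩, ⟨1, e4b⟩⟩
  · exact ⟨⟨7, e5a⟩, ⟨4, e5b⟩⟩
  · exact ⟨⟨3, e6a⟩, ⟨8, e6b⟩⟩
  · exact ⟨⟨8, e7a⟩, ⟨6, e7b⟩⟩
  · exact ⟨⟨5, e8a⟩, ⟨9, e8b⟩⟩
  · exact ⟨⟨10, e9a⟩, ⟨10, e9b⟩⟩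
  · exact ⟨⟨11, e10a⟩, ⟨7, e10b⟩⟩
  · exact ⟨⟨9, e11a⟩, ⟨11, e11b⟩⟩

theorem finite_card_le_sixty {a b : G} (hgen : Subgroup.closure {a, b} = ⊤) (ha : a ^ 3 = 1)
    (hb : b ^ 5 = 1) (hab : (a * b) ^ 2 = 1) : Finite G ∧ Nat.card G ≤ 60 := by
  obtain ⟨t, ht0, ht⟩ := exists_twelve_cosets a b ha hb hab
  let f : Fin 5 × Fin 12 → G := fun x => b ^ (x.1 : ℕ) * t x.2
  have hmem : ∀ (k : ℤ) (i : Fin 12), b ^ k * t i ∈ Set.range f := by
    intro k i
    refine ⟨(⟨(k % 5).toNat, by omega⟩, i), ?_⟩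
    show b ^ (k % 5).toNat * t i = _
    congr 1
    have h5 : (5 : ℤ) = ((5 : ℕ) : ℤ) := rfl
    conv_rhs => rw [← Int.emod_add_mul_ediv k 5, _root_.zpow_add, _root_.zpow_mul, h5, zpow_natCast, hb,
      _root_.one_zpow, mul_one, ← Int.toNat_of_nonneg (Int.emod_nonneg k (by norm_num : ((5 : ℕ) : ℤ) ≠ 0)),
      zpow_natCast]
    rfl
  have hstep : ∀ x ∈ Set.range f, x * a ∈ Set.range f ∧ x * b ∈ Set.range f := by
    rintro _ ⟨⟨e, i⟩, rfl⟩
    obtain ⟨⟨j, k, hk⟩, ⟨j', k', hk'⟩⟩ := ht i
    constructor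
    · show b ^ (e : ℕ) * t i * a ∈ _
      rw [mul_assoc, hk, ← mul_assoc, ← zpow_natCast, ← _root_.zpow_add]
      exact hmem _ _
    · show b ^ (e : ℕ) * t i * b ∈ _
      rw [mul_assoc, hk', ← mul_assoc, ← zpow_natCast, ← _root_.zpow_add]
      exact hmem _ _
  have hsurj : Function.Surjective f := by
    intro g
    have hg : g ∈ Subgroup.closure ({a, b} : Set G) := hgen ▸ Subgroup.mem_top g
    induction hg using Subgroup.closure_induction_right with
    | one => exact ⟨(0, 0), by simp [f, ht0]⟩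
    | mul_right x _ y hy ih =>
      rcases hy with rfl | rfl
      · exact (hstep _ ih).1
      · exact (hstep _ ih).2
    | mul_inv_cancel x _ y hy ih =>
      rcases hy with rfl | rfl
      · rw [inv_eq_of_mul_eq_one_right (show y * (y * y) = 1 by simpa [pow_succ, mul_assoc] using ha),
          ← mul_assoc]
        exact (hstep _ (hstep _ ih).1).1
      · rw [inv_eq_of_mul_eq_one_right (show y * (y * (y * (y * y))) = 1 by
          simpa [pow_succ, mul_assoc] using hb), ← mul_assoc, ← mul_assoc, ← mul_assoc]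
        exact (hstep _ (hstep _ (hstep _ (hstep _ ih).2).2).2).2
  haveI : Finite G := Finite.of_surjective f hsurj
  refine ⟨this, ?_⟩
  have := Nat.card_le_card_of_surjective f hsurj
  simpa using this

/-- The double cover relations give order at most 120. -/
theorem finite_card_le_one_twenty {a b z : G} (hgen : Subgroup.closure {a, b, z} = ⊤) (ha : a ^ 3 = 1)
    (hb : b ^ 5 = 1) (hz : z ^ 2 = 1) (hza : z * a = a * z) (hzb : z * b = b * z)
    (hab : (a * b) ^ 2 = z) : Finite G ∧ Nat.card G ≤ 120 := by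
  have hzc : z ∈ Subgroup.center G := by
    rw [← Subgroup.centralizer_univ, ← Subgroup.coe_top, ← hgen, Subgroup.centralizer_closure,
      Subgroup.mem_centralizer_iff]
    rintro y (rfl | rfl | rfl)
    · exact hza.symm
    · exact hzb.symm
    · rfl
  set Z := Subgroup.zpowers z with hZ
  haveI : Z.Normal := ⟨fun n hn g => by
    rw [Subgroup.mem_center_iff.1 (Subgroup.zpowers_le.2 hzc hn) g, mul_inv_cancel_right]; exact hn⟩
  set π := QuotientGroup.mk' Z
  have hπz : π z = 1 := (QuotientGroup.eq_one_iff z).2 (Subgroup.mem_zpowers z)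
  have hgen' : Subgroup.closure {π a, π b} = ⊤ := by
    rw [eq_top_iff, ← Subgroup.map_top_of_surjective π (QuotientGroup.mk'_surjective Z), ← hgen,
      MonoidHom.map_closure, Subgroup.closure_le]
    rintro _ ⟨y, (rfl | rfl | rfl), rfl⟩
    · exact Subgroup.subset_closure (Or.inl rfl)
    · exact Subgroup.subset_closure (Or.inr rfl)
    · rw [hπz]; exact one_mem _
  obtain ⟨hfin, hle⟩ := finite_card_le_sixty hgen' (by rw [← map_pow, ha, map_one])
    (by rw [← map_pow, hb, map_one]) (by rw [← map_mul, ← map_pow, hab, hπz])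
  haveI := hfin
  have hzfin : IsOfFinOrder z := isOfFinOrder_iff_pow_eq_one.2 ⟨2, two_pos, hz⟩
  haveI : Finite Z := Nat.finite_of_card_ne_zero (by rw [Nat.card_zpowers]; exact hzfin.orderOf_pos.ne')
  have hZ2 : Nat.card Z ≤ 2 := by
    rw [Nat.card_zpowers]
    exact Nat.le_of_dvd two_pos (orderOf_dvd_of_pow_eq_one hz)
  haveI : Finite G := Finite.of_subgroup_quotient Z
  refine ⟨this, ?_⟩
  rw [Subgroup.card_eq_card_quotient_mul_card_subgroup Z]
  exact Nat.mul_le_mul hle hZ2

end Enumeration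

section Groups

/-- The relators of `A₅`. -/
def rels5 : Set (FreeGroup (Fin 2)) :=
  {FreeGroup.of (0 : Fin 2) ^ 3, FreeGroup.of (1 : Fin 2) ^ 5, (FreeGroup.of (0 : Fin 2) * FreeGroup.of 1) ^ 2}

theorem iso_presented_five : Nonempty (PresentedGroup rels5 ≃* alternatingGroup (Fin 5)) := by
  set P := PresentedGroup rels5
  set a : P := PresentedGroup.of 0 with ha'
  set b : P := PresentedGroup.of 1 with hb'
  have hrel : ∀ r ∈ rels5, (PresentedGroup.mk rels5 r : P) = 1 := fun r hr =>
    PresentedGroup.one_of_mem hr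
  have ha : a ^ 3 = 1 := by
    rw [ha', PresentedGroup.of, ← map_pow]; exact hrel _ (Or.inl rfl)
  have hb : b ^ 5 = 1 := by
    rw [hb', PresentedGroup.of, ← map_pow]; exact hrel _ (Or.inr (Or.inl rfl))
  have hab : (a * b) ^ 2 = 1 := by
    rw [ha', hb', PresentedGroup.of, PresentedGroup.of, ← map_mul, ← map_pow]
    exact hrel _ (Or.inr (Or.inr rfl))
  have hgen : Subgroup.closure {a, b} = ⊤ := by
    rw [eq_top_iff, ← PresentedGroup.closure_range_of, Subgroup.closure_le]
    rintro _ ⟨i, rfl⟩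
    fin_cases i
    · exact Subgroup.subset_closure (Or.inl rfl)
    · exact Subgroup.subset_closure (Or.inr rfl)
  obtain ⟨hfin, hcard⟩ := finite_card_le_sixty hgen ha hb hab
  haveI := hfin
  -- a homomorphism onto a nontrivial group
  let u : Fin 2 → Equiv.Perm (Fin 5) := ![c[0, 3, 2], c[0, 1, 2, 3, 4]]
  have hu : ∀ r ∈ rels5, FreeGroup.lift u r = 1 := by
    rintro r (rfl | rfl | rfl) <;> simp only [map_pow, map_mul, FreeGroup.lift_apply_of] <;> decide +kernel
  have hne : a * b ≠ 1 := by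
    intro h
    have h' := congrArg (PresentedGroup.toGroup hu) h
    rw [map_mul, map_one, ha', hb', PresentedGroup.toGroup.of, PresentedGroup.toGroup.of] at h'
    exact absurd h' (by decide +kernel)
  have hgen2 : Subgroup.closure {a * b, a} = ⊤ := by
    rw [eq_top_iff, ← hgen, Subgroup.closure_le]
    rintro y (rfl | rfl)
    · exact Subgroup.subset_closure (Or.inr rfl)
    · have h := Subgroup.mul_mem (Subgroup.closure {a * b, a})
        (inv_mem (Subgroup.subset_closure (Or.inr rfl))) (Subgroup.subset_closure (Or.inl rfl))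
      rwa [inv_mul_cancel_left] at h
  have habab : a * b * a = b⁻¹ := eq_inv_of_mul_eq_one_left (by rw [mul_assoc _ a b, ← sq, hab])
  exact Cfsg.Lib.Dickson.iso_alternating_five_of_relations hgen2 hab ha
    (by rw [habab, inv_pow, hb, inv_one]) hne hcard

/-- The relators of the double cover. -/
def rels120 : Set (FreeGroup (Fin 3)) :=
  {FreeGroup.of (0 : Fin 3) ^ 3, FreeGroup.of (1 : Fin 3) ^ 5, FreeGroup.of (2 : Fin 3) ^ 2,
    (FreeGroup.of (2 : Fin 3))⁻¹ * FreeGroup.of 0 * FreeGroup.of 2 * (FreeGroup.of (0 : Fin 3))⁻¹,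
    (FreeGroup.of (2 : Fin 3))⁻¹ * FreeGroup.of 1 * FreeGroup.of 2 * (FreeGroup.of (1 : Fin 3))⁻¹,
    (FreeGroup.of (0 : Fin 3) * FreeGroup.of 1) ^ 2 * (FreeGroup.of (2 : Fin 3))⁻¹}

theorem comm_of_rel {G : Type u} [Group G] {a z : G} (h : z⁻¹ * a * z * a⁻¹ = 1) : z * a = a * z := by
  have h' := mul_inv_eq_one.1 h
  rw [mul_assoc, inv_mul_eq_iff_eq_mul] at h'
  exact h'.symm

/-- Evaluation of the relators. -/
theorem lift_rels120 {G : Type u} [Group G] (u : Fin 3 → G) (ha : u 0 ^ 3 = 1) (hb : u 1 ^ 5 = 1)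
    (hz : u 2 ^ 2 = 1) (hza : u 2 * u 0 = u 0 * u 2) (hzb : u 2 * u 1 = u 1 * u 2)
    (hab : (u 0 * u 1) ^ 2 = u 2) : ∀ r ∈ rels120, FreeGroup.lift u r = 1 := by
  rintro r (rfl | rfl | rfl | rfl | rfl | rfl) <;>
    simp only [map_pow, map_mul, map_inv, FreeGroup.lift_apply_of]
  · exact ha
  · exact hb
  · exact hz
  · rw [mul_assoc (u 2)⁻¹, ← hza, inv_mul_cancel_left, mul_inv_cancel]
  · rw [mul_assoc (u 2)⁻¹, ← hzb, inv_mul_cancel_left, mul_inv_cancel]
  · rw [hab, mul_inv_cancel]

theorem finite_presented_120 :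
    Finite (PresentedGroup rels120) ∧ Nat.card (PresentedGroup rels120) ≤ 120 := by
  have hrel : ∀ r ∈ rels120, (PresentedGroup.mk rels120 r : PresentedGroup rels120) = 1 := fun r hr =>
    PresentedGroup.one_of_mem hr
  refine finite_card_le_one_twenty (a := PresentedGroup.of 0) (b := PresentedGroup.of 1)
    (z := PresentedGroup.of 2) ?_ ?_ ?_ ?_ (comm_of_rel ?_) (comm_of_rel ?_) (mul_inv_eq_one.1 ?_)
  · rw [eq_top_iff, ← PresentedGroup.closure_range_of, Subgroup.closure_le]
    rintro _ ⟨i, rfl⟩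
    fin_cases i
    · exact Subgroup.subset_closure (Or.inl rfl)
    · exact Subgroup.subset_closure (Or.inr (Or.inl rfl))
    · exact Subgroup.subset_closure (Or.inr (Or.inr rfl))
  all_goals simp only [PresentedGroup.of, ← map_pow, ← map_mul, ← map_inv]
  · exact hrel _ (Or.inl rfl)
  · exact hrel _ (Or.inr (Or.inl rfl))
  · exact hrel _ (Or.inr (Or.inr (Or.inl rfl)))
  · exact hrel _ (Or.inr (Or.inr (Or.inr (Or.inl rfl))))
  · exact hrel _ (Or.inr (Or.inr (Or.inr (Or.inr (Or.inl rfl)))))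
  · exact hrel _ (Or.inr (Or.inr (Or.inr (Or.inr (Or.inr rfl)))))

abbrev SL25 := Matrix.SpecialLinearGroup (Fin 2) (ZMod 5)

instance fact_prime_five_icosa : Fact (Nat.Prime 5) := ⟨by norm_num⟩

/-- Generators of `SL(2, 5)` satisfying the relations. -/
def gensSL : Fin 3 → SL25 :=
  ![⟨!![0, 4; 1, 4], by decide⟩, ⟨!![1, 1; 0, 1], by decide⟩, ⟨!![4, 0; 0, 4], by decide⟩]

theorem gensSL_rels : ∀ r ∈ rels120, FreeGroup.lift gensSL r = 1 :=
  lift_rels120 gensSL (by decide +kernel) (by decide +kernel) (by decide +kernel) (by decide +kernel)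
    (by decide +kernel) (by decide +kernel)

theorem transvection_eq_pow (c : ZMod 5) :
    (Matrix.SpecialLinearGroup.transvection (zero_ne_one : (0 : Fin 2) ≠ 1) c : SL25) = gensSL 1 ^ c.val ∧
    (Matrix.SpecialLinearGroup.transvection (one_ne_zero : (1 : Fin 2) ≠ 0) c : SL25) =
      (gensSL 0 * gensSL 1) * gensSL 1 ^ (-c).val * (gensSL 0 * gensSL 1)⁻¹ := by
  revert c; decide +kernel

theorem toGroup_surjective : Function.Surjective (PresentedGroup.toGroup gensSL_rels) := by
  rw [← MonoidHom.range_eq_top, eq_top_iff, ← Cfsg.Lib.Linear.closure_transvection_eq_top,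
    Subgroup.closure_le]
  have hg : ∀ i, gensSL i ∈ (PresentedGroup.toGroup gensSL_rels).range :=
    fun i => ⟨_, PresentedGroup.toGroup.of gensSL_rels⟩
  rintro _ ⟨i, j, hij, c, rfl⟩
  fin_cases i <;> fin_cases j
  · exact absurd rfl hij
  · exact (transvection_eq_pow c).1 ▸ Subgroup.pow_mem _ (hg 1) _
  · exact (transvection_eq_pow c).2 ▸ Subgroup.mul_mem _
      (Subgroup.mul_mem _ (Subgroup.mul_mem _ (hg 0) (hg 1)) (Subgroup.pow_mem _ (hg 1) _))
      (Subgroup.inv_mem _ (Subgroup.mul_mem _ (hg 0) (hg 1)))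
  · exact absurd rfl hij

theorem card_sl_two_five : Nat.card SL25 = 120 := by
  rw [Nat.card_eq_fintype_card]
  decide +kernel

theorem iso_presented_120 : Nonempty (PresentedGroup rels120 ≃* SL25) := by
  obtain ⟨hfin, hle⟩ := finite_presented_120
  haveI := hfin
  have h := Nat.card_le_card_of_surjective _ toGroup_surjective
  rw [card_sl_two_five] at h
  exact ⟨MulEquiv.ofBijective _ ((Nat.bijective_iff_surjective_and_card _).2
    ⟨toGroup_surjective, by rw [card_sl_two_five]; omega⟩)⟩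

end Groups

section Recognition

theorem solvable_of_lt_sixty : ∀ (n : ℕ) (G : Type u) [Group G] [Finite G], Nat.card G = n → n < 60 →
    Group.IsSolvable G := by
  intro n
  induction n using Nat.strong_induction_on with
  | h n ih =>
  intro G _ _ hn hlt
  rcases subsingleton_or_nontrivial G with hs | hnt
  · exact isSolvable_of_comm fun a b => Subsingleton.elim _ _
  by_cases hsimple : IsSimpleGroup G
  · by_cases hc : IsCyclic G
    · letI := hc.commGroup; exact isSolvable_of_comm mul_comm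
    · have := Cfsg.Lib.OrderLeHundred.card_eq_sixty hc (by omega)
      omega
  · obtain ⟨N, hN, hNb, hNt⟩ : ∃ N : Subgroup G, N.Normal ∧ N ≠ ⊥ ∧ N ≠ ⊤ := by
      by_contra hno
      push Not at hno
      exact hsimple ⟨fun H hH => or_iff_not_imp_left.2 (hno H hH)⟩
    haveI := hN
    have hmul := Subgroup.card_eq_card_quotient_mul_card_subgroup N
    have hq : 1 < Nat.card (G ⧸ N) := by
      rw [← Subgroup.index_eq_card]
      exact N.one_lt_index_of_ne_top hNt
    have hN2 : 1 < Nat.card N := N.one_lt_card_iff_ne_bot.2 hNb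
    have hNlt : Nat.card N < n := by rw [← hn, hmul]; exact (lt_mul_iff_one_lt_left (by omega)).2 hq
    have hQlt : Nat.card (G ⧸ N) < n := by rw [← hn, hmul]; exact (lt_mul_iff_one_lt_right (by omega)).2 hN2
    haveI := ih _ hNlt N rfl (by omega)
    haveI := ih _ hQlt (G ⧸ N) rfl (by omega)
    exact Group.isSolvable_of_ker_le_range N.subtype (QuotientGroup.mk' N)
      (by rw [QuotientGroup.ker_mk', Subgroup.range_subtype])

theorem simple_of_sixty {G : Type u} [Group G] [Finite G] (h : Nat.card G = 60)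
    (hs : ¬ Group.IsSolvable G) : IsSimpleGroup G := by
  haveI : Nontrivial G := Finite.one_lt_card_iff_nontrivial.1 (by omega)
  refine ⟨fun N hN => ?_⟩
  by_contra hne
  push Not at hne
  haveI := hN
  have hmul := Subgroup.card_eq_card_quotient_mul_card_subgroup N
  have hq : 1 < Nat.card (G ⧸ N) := by
    rw [← Subgroup.index_eq_card]; exact N.one_lt_index_of_ne_top hne.2
  have hN2 : 1 < Nat.card N := N.one_lt_card_iff_ne_bot.2 hne.1
  haveI := solvable_of_lt_sixty _ N rfl (by nlinarith)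
  haveI := solvable_of_lt_sixty _ (G ⧸ N) rfl (by nlinarith)
  exact hs (Group.isSolvable_of_ker_le_range N.subtype (QuotientGroup.mk' N)
    (by rw [QuotientGroup.ker_mk', Subgroup.range_subtype]))

theorem not_simple_one_twenty {G : Type u} [Group G] [Finite G] [IsSimpleGroup G]
    (h : Nat.card G = 120) : False := by
  classical
  haveI := Fact.mk (show Nat.Prime 5 by norm_num)
  have hc : ¬ IsCyclic G := Cfsg.Lib.Small.not_isCyclic_of_card (by rw [h]; norm_num)
  obtain ⟨hd, hmod⟩ := Cfsg.Lib.Small.sylow_facts (p := 5) 1 24 (by omega) (by norm_num) (G := G)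
  have hne := Cfsg.Lib.OrderLeHundred.sylow_ne_one (G := G) hc 5 (k := 1) (m := 24) (by omega)
    (by norm_num) (by norm_num) (by norm_num)
  have h6 : Nat.card (Sylow 5 G) = 6 := by
    have hle := Nat.le_of_dvd (by norm_num) hd
    generalize Nat.card (Sylow 5 G) = k at hd hmod hne hle
    interval_cases k <;> first | rfl | omega | (norm_num at hd)
  obtain ⟨P⟩ : Nonempty (Sylow 5 G) := inferInstance
  set H := Subgroup.normalizer ((P : Subgroup G) : Set G)
  have hidx : H.index = 6 := by rw [← h6]; exact P.card_eq_index_normalizer.symm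
  have hH : H ≠ ⊤ := fun e => by rw [e, Subgroup.index_top] at hidx; omega
  have hinj := (Cfsg.Lib.OrderLeHundred.card_dvd_factorial_index hH).2
  set φ := MulAction.toPermHom G (G ⧸ H)
  haveI : Fintype (G ⧸ H) := Fintype.ofFinite _
  have hcard6 : Fintype.card (G ⧸ H) = 6 := by
    rw [← Nat.card_eq_fintype_card, ← Subgroup.index_eq_card, hidx]
  have hev : ∀ g : G, φ g ∈ alternatingGroup (G ⧸ H) := by
    intro g
    rw [Equiv.Perm.mem_alternatingGroup]
    rcases (MonoidHom.normal_ker (Equiv.Perm.sign.comp φ)).eq_bot_or_eq_top with hk | hk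
    · exfalso
      have hle := Nat.card_le_card_of_injective _ ((MonoidHom.ker_eq_bot_iff _).1 hk)
      rw [h, Nat.card_eq_fintype_card (α := ℤˣ), Fintype.card_units_int] at hle
      omega
    · exact (MonoidHom.mem_ker (f := Equiv.Perm.sign.comp φ)).1 (hk ▸ Subgroup.mem_top g)
  set R : Subgroup (alternatingGroup (G ⧸ H)) := (φ.codRestrict _ hev).range
  have hA : Nat.card (alternatingGroup (G ⧸ H)) = 360 := by
    haveI : Nontrivial (G ⧸ H) := Fintype.one_lt_card_iff_nontrivial.1 (by omega)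
    rw [nat_card_alternatingGroup, Nat.card_eq_fintype_card, hcard6]
    rfl
  have hR : Nat.card R = 120 := by
    rw [← h]
    exact (Nat.card_congr (Equiv.ofInjective _ fun x y e => hinj (congrArg Subtype.val e))).symm
  haveI : IsSimpleGroup (alternatingGroup (G ⧸ H)) := alternatingGroup.isSimpleGroup (by rw [Nat.card_eq_fintype_card, hcard6]; norm_num)
  have hidx3 : R.index = 3 := by
    have := Subgroup.card_mul_index R
    rw [hR, hA] at this
    omega
  have hRt : R ≠ ⊤ := fun e => by rw [e, Subgroup.index_top] at hidx3; omega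
  have := Nat.le_of_dvd (Nat.factorial_pos _) (Cfsg.Lib.Small.card_dvd_factorial hRt)
  rw [hA, hidx3] at this
  norm_num [Nat.factorial] at this

theorem involution_unique {G : Type u} [Group G] [Finite G]
    (hQ : ∀ P : Sylow 2 G, Nonempty ((P : Subgroup G) ≃* QuaternionGroup 2)) {x y : G}
    (hx : orderOf x = 2) (hy : orderOf y = 2) (hxy : x * y = y * x) : x = y := by
  set V := Subgroup.closure ({x, y} : Set G)
  haveI : Fact (Nat.Prime 2) := ⟨Nat.prime_two⟩
  have hcomm : ∀ g ∈ V, g ^ 2 = 1 ∧ g * x = x * g ∧ g * y = y * g := by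
    intro g hg
    have hx2 : x ^ 2 = 1 := hx ▸ pow_orderOf_eq_one x
    have hy2 : y ^ 2 = 1 := hy ▸ pow_orderOf_eq_one y
    have hxi : x⁻¹ = x := inv_eq_of_mul_eq_one_left (by rw [← pow_two, hx2])
    have hyi : y⁻¹ = y := inv_eq_of_mul_eq_one_left (by rw [← pow_two, hy2])
    induction hg using Subgroup.closure_induction_right with
    | one => simp
    | mul_right a _ s hs ih =>
      obtain ⟨h1, h2, h3⟩ := ih
      rcases hs with rfl | rfl
      · exact ⟨by rw [(show Commute a s from h2).mul_pow, h1, hx2, one_mul],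
          by rw [h2, mul_assoc, h2], by rw [mul_assoc, hxy, ← mul_assoc, h3, mul_assoc]⟩
      · exact ⟨by rw [(show Commute a s from h3).mul_pow, h1, hy2, one_mul],
          by rw [mul_assoc, ← hxy, ← mul_assoc, h2, mul_assoc], by rw [h3, mul_assoc, h3]⟩
    | mul_inv_cancel a _ s hs ih =>
      obtain ⟨h1, h2, h3⟩ := ih
      rcases hs with rfl | rfl
      · rw [hxi]
        exact ⟨by rw [(show Commute a s from h2).mul_pow, h1, hx2, one_mul],
          by rw [h2, mul_assoc, h2], by rw [mul_assoc, hxy, ← mul_assoc, h3, mul_assoc]⟩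
      · rw [hyi]
        exact ⟨by rw [(show Commute a s from h3).mul_pow, h1, hy2, one_mul],
          by rw [mul_assoc, ← hxy, ← mul_assoc, h2, mul_assoc], by rw [h3, mul_assoc, h3]⟩
  have hV : IsPGroup 2 V := fun g => ⟨1, Subtype.ext (by simpa using (hcomm g g.2).1)⟩
  obtain ⟨P, hP⟩ := hV.exists_le_sylow
  obtain ⟨e⟩ := hQ P
  have key : ∀ w : G, orderOf w = 2 → ∀ hw : w ∈ (P : Subgroup G),
      e ⟨w, hw⟩ = QuaternionGroup.a ((2 : ℕ) : ZMod (2 * 2)) := fun w hw hwP =>
    Cfsg.Lib.Invol.quaternion_eq_of_orderOf_two (by rw [e.orderOf_eq, Subgroup.orderOf_mk, hw])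
  have hxP : x ∈ (P : Subgroup G) := hP (Subgroup.subset_closure (Or.inl rfl))
  have hyP : y ∈ (P : Subgroup G) := hP (Subgroup.subset_closure (Or.inr rfl))
  exact congrArg Subtype.val (e.injective ((key x hx hxP).trans (key y hy hyP).symm))

/-- An insoluble group of order 120 with quaternion Sylow 2-subgroups is `SL(2, 5)`. -/
theorem iso_sl_two_five {G : Type u} [Group G] [Finite G] (h : Nat.card G = 120)
    (hs : ¬ Group.IsSolvable G)
    (hQ : ∀ P : Sylow 2 G, Nonempty ((P : Subgroup G) ≃* QuaternionGroup 2)) :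
    Nonempty (G ≃* SL25) := by
  have hV4 : ∀ N : Subgroup G, ¬ Nonempty (N ≃* alternatingGroup (Fin 5)) := by
    rintro N ⟨e⟩
    let x : alternatingGroup (Fin 5) := ⟨Equiv.swap 0 1 * Equiv.swap 2 3, Equiv.Perm.mem_alternatingGroup.2 (by decide +kernel)⟩
    let y : alternatingGroup (Fin 5) := ⟨Equiv.swap 0 2 * Equiv.swap 1 3, Equiv.Perm.mem_alternatingGroup.2 (by decide +kernel)⟩
    have ho : ∀ w : alternatingGroup (Fin 5), w ^ 2 = 1 → w ≠ 1 → orderOf ((e.symm w : N) : G) = 2 := by
      intro w hw hw1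
      rw [Subgroup.orderOf_coe, e.symm.orderOf_eq]
      exact orderOf_eq_prime hw hw1
    have h1 := involution_unique hQ (ho x (by decide) (by decide)) (ho y (by decide) (by decide))
      (by rw [← Subgroup.coe_mul, ← Subgroup.coe_mul, ← map_mul, ← map_mul,
        show x * y = y * x by decide])
    exact absurd (e.symm.injective (Subtype.ext h1)) (by decide)
  have hnsimple : ¬ IsSimpleGroup G := fun hsg => not_simple_one_twenty h
  haveI : Nontrivial G := Finite.one_lt_card_iff_nontrivial.1 (by omega)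
  obtain ⟨N, hN, hNb, hNt⟩ : ∃ N : Subgroup G, N.Normal ∧ N ≠ ⊥ ∧ N ≠ ⊤ := by
    by_contra hno
    push Not at hno
    exact hnsimple ⟨fun H hH => or_iff_not_imp_left.2 (hno H hH)⟩
  haveI := hN
  have hmul := Subgroup.card_eq_card_quotient_mul_card_subgroup N
  have hq : 1 < Nat.card (G ⧸ N) := by
    rw [← Subgroup.index_eq_card]; exact N.one_lt_index_of_ne_top hNt
  have hN2 : 1 < Nat.card N := N.one_lt_card_iff_ne_bot.2 hNb
  rw [h] at hmul
  obtain ⟨hQns, hN2⟩ : ¬ Group.IsSolvable (G ⧸ N) ∧ Nat.card N = 2 := by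
    by_cases hN60 : Nat.card N < 60
    · haveI := solvable_of_lt_sixty _ N rfl hN60
      have hns : ¬ Group.IsSolvable (G ⧸ N) := fun hq => hs (by
        haveI := hq
        exact Group.isSolvable_of_ker_le_range N.subtype (QuotientGroup.mk' N)
          (by rw [QuotientGroup.ker_mk', Subgroup.range_subtype]))
      refine ⟨hns, ?_⟩
      by_contra hne
      have h3 : 3 ≤ Nat.card N := by omega
      exact hns (solvable_of_lt_sixty _ _ rfl (by nlinarith))
    · exfalso
      have hN60' : Nat.card N = 60 := by nlinarith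
      haveI := solvable_of_lt_sixty _ (G ⧸ N) rfl (by nlinarith)
      haveI := simple_of_sixty hN60' fun hsN => hs (by
        haveI := hsN
        exact Group.isSolvable_of_ker_le_range N.subtype (QuotientGroup.mk' N)
          (by rw [QuotientGroup.ker_mk', Subgroup.range_subtype]))
      exact hV4 N (Cfsg.Lib.OrderLeHundred.iso_alternating_five hN60')
  have hQ60 : Nat.card (G ⧸ N) = 60 := by rw [hN2] at hmul; omega
  haveI := simple_of_sixty hQ60 hQns
  obtain ⟨e⟩ := Cfsg.Lib.OrderLeHundred.iso_alternating_five hQ60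
  obtain ⟨⟨z, hzN⟩, hzne⟩ : ∃ z : N, z ≠ 1 := by
    haveI : Nontrivial N := Finite.one_lt_card_iff_nontrivial.1 (by omega)
    exact exists_ne 1
  have hz1 : z ≠ 1 := fun e => hzne (Subtype.ext e)
  haveI : Fact (Nat.Prime 2) := ⟨Nat.prime_two⟩
  have hzo : orderOf z = 2 := by
    have hd := Subgroup.orderOf_dvd_natCard _ hzN
    rw [hN2] at hd
    exact (Nat.dvd_prime Nat.prime_two).1 hd |>.resolve_left fun e => hz1 (orderOf_eq_one_iff.1 e)
  have hNz : ∀ w ∈ N, w = 1 ∨ w = z := by
    intro w hw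
    by_contra hne
    push Not at hne
    classical
    haveI := Fintype.ofFinite G
    have : ({1, z, w} : Finset G).card ≤ 2 := by
      rw [← hN2, Nat.card_eq_fintype_card, Fintype.card_subtype]
      refine Finset.card_le_card ?_
      intro v hv
      simp only [Finset.mem_insert, Finset.mem_singleton] at hv
      simp only [Finset.mem_filter, Finset.mem_univ, true_and]
      rcases hv with rfl | rfl | rfl
      · exact one_mem N
      · exact hzN
      · exact hw
    rw [Finset.card_eq_three.2 ⟨1, z, w, hz1.symm, hne.1.symm, hne.2.symm, rfl⟩] at this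
    omega
  have hzc : ∀ g : G, g * z = z * g := by
    intro g
    rcases hNz _ (hN.conj_mem z hzN g) with h' | h'
    · exact absurd (conj_eq_one_iff.1 h') hz1
    · exact mul_inv_eq_iff_eq_mul.1 h'
  set π : G →* alternatingGroup (Fin 5) := e.toMonoidHom.comp (QuotientGroup.mk' N)
  have hπs : Function.Surjective π := e.surjective.comp (QuotientGroup.mk'_surjective N)
  have hker : ∀ g, π g = 1 ↔ g ∈ N := fun g => by simp [π, QuotientGroup.eq_one_iff]
  have hlift : ∀ (n : ℕ) (w : alternatingGroup (Fin 5)), w ^ n = 1 → n % 2 = 1 →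
      ∃ g : G, g ^ n = 1 ∧ π g = w := by
    intro n w hw hn
    obtain ⟨g, rfl⟩ := hπs w
    refine ⟨g ^ (n + 1), ?_, by rw [map_pow, pow_succ, hw, one_mul]⟩
    have hm : g ^ n ∈ N := (hker _).1 (by rw [map_pow, hw])
    have h2 : (g ^ n) ^ 2 = 1 := by
      rcases hNz _ hm with h' | h' <;> rw [h']
      · exact one_pow 2
      · rw [← hzo, pow_orderOf_eq_one]
    obtain ⟨k, hk⟩ : 2 ∣ n + 1 := by omega
    rw [← pow_mul, mul_comm, pow_mul, hk, pow_mul, h2, one_pow]
  let a₀ : alternatingGroup (Fin 5) := ⟨c[0, 3, 2], Equiv.Perm.mem_alternatingGroup.2 (by decide +kernel)⟩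
  let b₀ : alternatingGroup (Fin 5) := ⟨c[0, 1, 2, 3, 4], Equiv.Perm.mem_alternatingGroup.2 (by decide +kernel)⟩
  obtain ⟨a, ha, hπa⟩ := hlift 3 a₀ (by decide +kernel) rfl
  obtain ⟨b, hb, hπb⟩ := hlift 5 b₀ (by decide +kernel) rfl
  have hπab : π (a * b) = a₀ * b₀ := by rw [map_mul, hπa, hπb]
  have hab : (a * b) ^ 2 = z := by
    refine (hNz _ ((hker _).1 ?_)).resolve_left fun h1 => ?_
    · rw [map_pow, hπab]; decide
    · have hne : a * b ≠ z := fun e => by
        have := (hker _).2 (e ▸ hzN)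
        rw [hπab] at this
        exact absurd this (by decide)
      refine hne (involution_unique hQ (orderOf_eq_prime h1 fun e => ?_) hzo (hzc _))
      rw [e, map_one] at hπab
      exact absurd hπab (by decide)
  let u : Fin 3 → G := ![a, b, z]
  have hu := lift_rels120 u ha hb (by show z ^ 2 = 1; rw [← hzo, pow_orderOf_eq_one]) (hzc a).symm
    (hzc b).symm hab
  set f := PresentedGroup.toGroup hu
  have hmemf : ∀ i, u i ∈ f.range := fun i => ⟨_, PresentedGroup.toGroup.of hu⟩
  set R := f.range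
  have hRN : N ≤ R := fun w hw => by
    rcases hNz w hw with rfl | rfl
    · exact one_mem R
    · exact hmemf 2
  have hsurj : Function.Surjective f := by
    rw [← MonoidHom.range_eq_top]
    have hmap : R.map π = ⊤ := by
      obtain ⟨i5⟩ := iso_presented_five
      refine Subgroup.eq_top_of_card_eq _ ?_
      have hA : Nat.card (alternatingGroup (Fin 5)) = 60 := by rw [← hQ60, Nat.card_congr e.toEquiv]
      rw [hA]
      have hd : Nat.card (R.map π) ∣ 60 := hA ▸ Subgroup.card_subgroup_dvd_card _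
      have hao : orderOf a₀ = 3 := orderOf_eq_prime (p := 3) (by decide) (by decide)
      have hbo : orderOf b₀ = 5 := orderOf_eq_prime (p := 5) (by decide) (by decide)
      have hco : orderOf (a₀ * b₀) = 2 := orderOf_eq_prime (p := 2) (by decide) (by decide)
      have ma : a₀ ∈ R.map π := ⟨a, hmemf 0, hπa⟩
      have mb : b₀ ∈ R.map π := ⟨b, hmemf 1, hπb⟩
      have h30 : 30 ∣ Nat.card (R.map π) := by
        have h3 := hao ▸ Subgroup.orderOf_dvd_natCard _ ma
        have h5 := hbo ▸ Subgroup.orderOf_dvd_natCard _ mb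
        have h2 := hco ▸ Subgroup.orderOf_dvd_natCard _ (mul_mem ma mb)
        exact Nat.Coprime.mul_dvd_of_dvd_of_dvd (m := 6) (n := 5) (by norm_num)
          (Nat.Coprime.mul_dvd_of_dvd_of_dvd (m := 2) (n := 3) (by norm_num) h2 h3) h5
      by_contra hne
      have h30' : Nat.card (R.map π) = 30 := by
        have hle := Nat.le_of_dvd (by norm_num) hd
        have hpos : 0 < Nat.card (R.map π) := Nat.card_pos
        obtain ⟨c, hc⟩ := h30
        omega
      haveI : IsSimpleGroup (alternatingGroup (Fin 5)) := alternatingGroup.isSimpleGroup (by simp)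
      have hi := Subgroup.card_mul_index (R.map π)
      rw [h30', hA] at hi
      exact Cfsg.Lib.OrderLeHundred.no_index_two
        (Cfsg.Lib.Small.not_isCyclic_of_card (by rw [hA]; norm_num)) (R.map π) (by omega)
    rw [eq_top_iff]
    intro g _
    obtain ⟨r, hr, hrg⟩ : π g ∈ R.map π := hmap ▸ Subgroup.mem_top _
    have : r⁻¹ * g ∈ N := (hker _).1 (by rw [map_mul, map_inv, hrg, inv_mul_cancel])
    have h2 := mul_mem hr (hRN this)
    rwa [mul_inv_cancel_left] at h2
  obtain ⟨hfin, hle⟩ := finite_presented_120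
  haveI := hfin
  have hle' := Nat.card_le_card_of_surjective f hsurj
  have ef : PresentedGroup rels120 ≃* G := MulEquiv.ofBijective f
    ((Nat.bijective_iff_surjective_and_card _).2 ⟨hsurj, by omega⟩)
  obtain ⟨eS⟩ := iso_presented_120
  exact ⟨ef.symm.trans eS⟩

end Recognition

end Cfsg.Lib.Recog.Icosa
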