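import Mathlib.GroupTheory.GroupAction.MultipleTransitivity
import Mathlib.GroupTheory.GroupAction.Quotient
import Mathlib.GroupTheory.Index
import Mathlib.LinearAlgebra.Matrix.NonsingularInverse
import Mathlib.Tactic.FieldSimp
import Mathlib.Tactic.Ring
import Mathlib.Tactic.LinearCombination

/-!
# A subgroup of index `n` in a two-transitive group of degree `n` has at most two orbits

The incidence matrices of the orbits against the cosets are square and invertible, and any two of
them differ by an element of the centraliser algebra, which is spanned by the identity and the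
all-ones matrix.
-/

set_option autoImplicit false
set_option linter.style.haveILetI false
set_option linter.unusedSectionVars false

namespace Cfsg.Lib.Recog.TwoOrbits

open MulAction Matrix

variable {G Ω : Type*} [Group G] [MulAction G Ω]

open Classical in
/-- The incidence matrix of the translates of a set. -/
noncomputable def inc (H : Subgroup G) (O : Set Ω) : Matrix Ω (G ⧸ H) ℚ :=
  fun x q => if q.out⁻¹ • x ∈ O then 1 else 0

variable {H : Subgroup G} {O : Set Ω}

theorem mem_iff (hO : ∀ h ∈ H, ∀ x ∈ O, h • x ∈ O) (g : G) (x : Ω) :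
    (QuotientGroup.mk g : G ⧸ H).out⁻¹ • x ∈ O ↔ g⁻¹ • x ∈ O := by
  obtain ⟨h, hh⟩ := QuotientGroup.mk_out_eq_mul H g
  rw [hh, _root_.mul_inv_rev, mul_smul]
  constructor
  · intro hx
    simpa using hO h h.2 _ hx
  · intro hx
    exact hO _ (inv_mem h.2) _ hx

open Classical in
theorem inc_smul (hO : ∀ h ∈ H, ∀ x ∈ O, h • x ∈ O) (g : G) (x : Ω) (q : G ⧸ H) :
    inc H O (g • x) (g • q) = inc H O x q := by
  induction q using QuotientGroup.induction_on with
  | H c =>
    have h1 : g • (QuotientGroup.mk c : G ⧸ H) = QuotientGroup.mk (g * c) := rfl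
    simp only [inc, h1, mem_iff hO]
    rw [smul_smul, show (g * c)⁻¹ * g = c⁻¹ by group]

variable [Fintype Ω] [DecidableEq Ω] [Fintype (G ⧸ H)]

theorem gram_smul {O' : Set Ω} (hO : ∀ h ∈ H, ∀ x ∈ O, h • x ∈ O)
    (hO' : ∀ h ∈ H, ∀ x ∈ O', h • x ∈ O') (g : G) (x y : Ω) :
    (inc H O * (inc H O')ᵀ) (g • x) (g • y) = (inc H O * (inc H O')ᵀ) x y := by
  simp only [Matrix.mul_apply, Matrix.transpose_apply]
  refine (Fintype.sum_equiv (MulAction.toPerm g) _ _ fun q => ?_).symm
  rw [MulAction.toPerm_apply, inc_smul hO, inc_smul hO']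

variable (h2 : MulAction.IsMultiplyPretransitive G Ω 2) [MulAction.IsPretransitive G Ω]

include h2 in
theorem gram_eq {O' : Set Ω} (hO : ∀ h ∈ H, ∀ x ∈ O, h • x ∈ O)
    (hO' : ∀ h ∈ H, ∀ x ∈ O', h • x ∈ O') {a b : Ω} (hab : a ≠ b) (x y : Ω) :
    (inc H O * (inc H O')ᵀ) x y = if x = y then (inc H O * (inc H O')ᵀ) a a
      else (inc H O * (inc H O')ᵀ) a b := by
  split_ifs with hxy
  · subst hxy
    obtain ⟨g, hg⟩ := exists_smul_eq G a x
    rw [← gram_smul hO hO' g a a, hg]
  · obtain ⟨g, hga, hgb⟩ := MulAction.is_two_pretransitive_iff.1 h2 hab hxy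
    rw [← gram_smul hO hO' g a b, hga, hgb]

theorem row_sum (hO : ∀ h ∈ H, ∀ x ∈ O, h • x ∈ O) (x y : Ω) :
    ∑ q : G ⧸ H, inc H O x q = ∑ q : G ⧸ H, inc H O y q := by
  obtain ⟨g, hg⟩ := exists_smul_eq G x y
  refine Fintype.sum_equiv (MulAction.toPerm g) _ _ fun q => ?_
  rw [MulAction.toPerm_apply, ← hg, inc_smul hO]

omit [MulAction.IsPretransitive G Ω] in
include h2 in
theorem off_lt_diag (hO : ∀ h ∈ H, ∀ x ∈ O, h • x ∈ O) {a b : Ω} (hab : a ≠ b) {u v : Ω} (hu : u ∈ O)
    (hv : v ∉ O) : (inc H O * (inc H O)ᵀ) a b < (inc H O * (inc H O)ᵀ) a a := by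
  classical
  have hne : u ≠ v := fun h => hv (h ▸ hu)
  obtain ⟨g, hga, hgb⟩ := MulAction.is_two_pretransitive_iff.1 h2 hne hab
  have hle : ∀ q, inc H O a q * inc H O b q ≤ inc H O a q * inc H O a q := by
    intro q
    simp only [inc]
    split_ifs <;> norm_num
  simp only [Matrix.mul_apply, Matrix.transpose_apply]
  refine Finset.sum_lt_sum (fun q _ => hle q) ⟨QuotientGroup.mk g, Finset.mem_univ _, ?_⟩
  simp only [inc, mem_iff hO]
  rw [← hga, ← hgb, inv_smul_smul, inv_smul_smul, if_pos hu, if_neg hv]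
  norm_num

include h2 in
theorem no_three (hcard : Fintype.card (G ⧸ H) = Fintype.card Ω) {u v w : Ω}
    (huv : v ∉ orbit H u) (huw : w ∉ orbit H u) (hvw : w ∉ orbit H v) : False := by
  classical
  have hinv : ∀ z : Ω, ∀ h ∈ H, ∀ x ∈ orbit H z, h • x ∈ orbit H z := by
    rintro z h hh x ⟨k, rfl⟩
    exact ⟨⟨h, hh⟩ * k, mul_smul _ _ _⟩
  have hab : u ≠ v := fun h => huv (h ▸ mem_orbit_self u)
  set A := inc H (orbit H u) with hA
  set B := inc H (orbit H v) with hB
  set c := (A * Aᵀ) u u - (A * Aᵀ) u v with hc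
  set d := (A * Aᵀ) u v with hd
  set a' := (B * Aᵀ) u u - (B * Aᵀ) u v with ha'
  set b' := (B * Aᵀ) u v with hb'
  set r := ∑ q : G ⧸ H, A u q with hr
  have hc0 : 0 < c := sub_pos.2 (off_lt_diag h2 (hinv u) hab (mem_orbit_self u) huv)
  have hd0 : 0 ≤ d := Finset.sum_nonneg fun q _ => mul_nonneg
    (by simp only [A, inc]; split_ifs <;> norm_num)
    (by simp only [Matrix.transpose_apply, A, inc]; split_ifs <;> norm_num)
  have hAA : ∀ x y, (A * Aᵀ) x y = (if x = y then c else 0) + d := by
    intro x y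
    rw [gram_eq h2 (hinv u) (hinv u) hab x y]
    split_ifs <;> simp [c, d, A]
  have hBA : ∀ x y, (B * Aᵀ) x y = (if x = y then a' else 0) + b' := by
    intro x y
    rw [gram_eq h2 (hinv v) (hinv u) hab x y]
    split_ifs <;> simp [a', b', A, B]
  have hr0 : 0 < r := by
    refine Finset.sum_pos' (fun q _ => by simp only [A, inc]; split_ifs <;> norm_num)
      ⟨QuotientGroup.mk 1, Finset.mem_univ _, ?_⟩
    simp only [A, inc, mem_iff (hinv u), inv_one, one_smul, if_pos (mem_orbit_self u)]
    norm_num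
  set α := a' / c with hα
  set β := (b' - α * d) / r with hβ
  set D : Matrix Ω (G ⧸ H) ℚ := fun x q => B x q - α * A x q - β with hD
  have hDA : ∀ x y, (D * Aᵀ) x y = 0 := by
    intro x y
    have h1 : (D * Aᵀ) x y = (B * Aᵀ) x y - α * (A * Aᵀ) x y - β * ∑ q : G ⧸ H, A y q := by
      simp only [Matrix.mul_apply, Matrix.transpose_apply, D, Finset.mul_sum, ← Finset.sum_sub_distrib]
      exact Finset.sum_congr rfl fun q _ => by simp only [Matrix.transpose_apply]; ring
    rw [h1, hBA, hAA, row_sum (hinv u) y u, ← hr, hβ, hα]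
    split_ifs <;> field_simp <;> ring
  -- `Aᵀ` has no kernel on the left
  let e : G ⧸ H ≃ Ω := Fintype.equivOfCardEq hcard
  set A' : Matrix Ω Ω ℚ := A.submatrix id e.symm with hA'
  have hAA' : A' * A'ᵀ = A * Aᵀ := by
    rw [hA', Matrix.transpose_submatrix, Matrix.submatrix_mul_equiv]
    rfl
  have hunit : IsUnit (A * Aᵀ) := by
    rw [← Matrix.mulVec_injective_iff_isUnit]
    intro v₁ v₂ hvv
    have h0 : (A * Aᵀ) *ᵥ (v₁ - v₂) = 0 := by rw [Matrix.mulVec_sub, hvv, sub_self]
    set z := v₁ - v₂ with hz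
    have hx : ∀ x, c * z x + d * ∑ y, z y = 0 := fun x => by
      have := congrFun h0 x
      simp only [Matrix.mulVec, dotProduct, hAA, add_mul, Finset.sum_add_distrib, ite_mul, zero_mul,
        Finset.sum_ite_eq, Finset.mem_univ, if_true, ← Finset.mul_sum, Pi.zero_apply] at this
      exact this
    have hS : ∑ y, z y = 0 := by
      have := Finset.sum_congr rfl fun x (_ : x ∈ Finset.univ) => hx x
      simp only [Finset.sum_add_distrib, ← Finset.mul_sum, Finset.sum_const_zero, Finset.sum_const,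
        nsmul_eq_mul] at this
      have hpos : 0 < c + (Fintype.card Ω : ℚ) * d :=
        lt_of_lt_of_le hc0 (le_add_of_nonneg_right (mul_nonneg (Nat.cast_nonneg _) hd0))
      refine (mul_eq_zero.1 (show (c + (Fintype.card Ω : ℚ) * d) * ∑ y, z y = 0 from ?_)).resolve_left hpos.ne'
      rw [Finset.card_univ] at this
      linear_combination this
    funext x
    have := hx x
    rw [hS, mul_zero, add_zero, mul_eq_zero] at this
    exact sub_eq_zero.1 (this.resolve_left hc0.ne')
  have hu' : IsUnit A'ᵀ := by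
    rw [← hAA'] at hunit
    rw [Matrix.isUnit_iff_isUnit_det] at hunit ⊢
    rw [Matrix.det_mul] at hunit
    exact isUnit_of_mul_isUnit_right hunit
  have hD0 : ∀ x q, D x q = 0 := by
    have hmul : D.submatrix id e.symm * A'ᵀ = 0 := by
      rw [hA', Matrix.transpose_submatrix, Matrix.submatrix_mul_equiv]
      ext x y
      simpa using hDA x y
    intro x q
    have h1 : D.submatrix id e.symm = 0 := by
      obtain ⟨U, hU⟩ := hu'
      rw [← hU] at hmul
      simpa using congrArg (fun M => M * (↑U⁻¹ : Matrix Ω Ω ℚ)) hmul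
    simpa using congrFun (congrFun h1 x) (e q)
  have hw := hD0 w (QuotientGroup.mk 1)
  have hv := hD0 v (QuotientGroup.mk 1)
  simp only [D, A, B, inc, mem_iff (hinv u), mem_iff (hinv v), inv_one, one_smul, if_neg huw, if_neg hvw,
    if_neg huv, if_pos (mem_orbit_self v), mul_zero, sub_zero, zero_sub, neg_eq_zero] at hw hv
  rw [hw] at hv
  norm_num at hv

end Cfsg.Lib.Recog.TwoOrbits
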