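import Mathlib

/-!
# The group `3^3 : V4` inside `Sym(3)^3`, with its character table data
-/

set_option autoImplicit false
set_option maxRecDepth 100000
set_option synthInstance.maxSize 2000
set_option synthInstance.maxHeartbeats 200000

namespace Cfsg.Lib.Recog.ThreeCubed

open Equiv

/-- `Sym(3)^3`. -/
abbrev P3 : Type := Perm (Fin 3) × Perm (Fin 3) × Perm (Fin 3)

/-- The product of the three signs. -/
def sgn3 : P3 →* ℤˣ where
  toFun x := Perm.sign x.1 * Perm.sign x.2.1 * Perm.sign x.2.2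
  map_one' := by simp
  map_mul' x y := by
    simp only [Prod.fst_mul, Prod.snd_mul, map_mul]
    ac_rfl

/-- The subgroup of index two. -/
abbrev Model : Type := (sgn3.ker : Subgroup P3)

instance modelDecMem : DecidablePred (· ∈ sgn3.ker) := fun x =>
  decidable_of_iff (sgn3 x = 1) MonoidHom.mem_ker.symm

/-- Three blocks of three points inside nine points. -/
def place (p : Fin 9) : Fin 3 × Fin 3 := (⟨p.val / 3, by omega⟩, ⟨p.val % 3, by omega⟩)

/-- The position of a point. -/
def point (a : Fin 3 × Fin 3) : Fin 9 := ⟨3 * a.1.val + a.2.val, by omega⟩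

/-- The component of a triple. -/
def comp (x : P3) : Fin 3 → Perm (Fin 3) := ![x.1, x.2.1, x.2.2]

theorem comp_mul (x y : P3) (j : Fin 3) : comp (x * y) j = comp x j * comp y j := by
  fin_cases j <;> rfl

/-- The embedding in `Sym(9)`. -/
def toSym (x : P3) : Perm (Fin 9) where
  toFun p := point ((place p).1, comp x (place p).1 (place p).2)
  invFun p := point ((place p).1, (comp x (place p).1).symm (place p).2)
  left_inv p := by
    have h : ∀ a, place (point a) = a := by decide
    have h' : ∀ a, point (place a) = a := by decide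
    simp [h, h']
  right_inv p := by
    have h : ∀ a, place (point a) = a := by decide
    have h' : ∀ a, point (place a) = a := by decide
    simp [h, h']

theorem toSym_mul (x y : P3) : toSym (x * y) = toSym x * toSym y := by
  have h : ∀ a, place (point a) = a := by decide
  refine Equiv.ext fun p => ?_
  show point _ = point ((place (point _)).1, comp x (place (point _)).1 (place (point _)).2)
  rw [h, comp_mul]
  rfl

/-- The embedding as a homomorphism. -/
def toSymHom : P3 →* Perm (Fin 9) := MonoidHom.mk' toSym toSym_mul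

theorem toSymHom_injective : Function.Injective toSymHom := by
  have h : ∀ a, place (point a) = a := by decide
  intro x y hxy
  have h1 : ∀ j a, comp x j a = comp y j a := by
    intro j a
    have := congrArg place (Equiv.congr_fun hxy (point (j, a)))
    change place (point _) = place (point _) at this
    rw [h, h, h] at this
    exact (Prod.mk.inj this).2
  exact Prod.ext (Equiv.ext (h1 0)) (Prod.ext (Equiv.ext (h1 1)) (Equiv.ext (h1 2)))

/-- The two standard elements of `Sym(3)`. -/
def cyc : Perm (Fin 3) := swap 0 1 * swap 1 2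

/-- A transposition. -/
def tra : Perm (Fin 3) := swap 0 1

/-- The five generators. -/
def gens : List P3 := [(cyc, 1, 1), (1, cyc, 1), (1, 1, cyc), (tra, tra, 1), (tra, 1, tra)]

theorem gens_mem : ∀ x ∈ gens, x ∈ sgn3.ker := by decide

theorem model_normal_form : ∀ x : P3, x ∈ sgn3.ker →
    ∃ a b c : Fin 3, ∃ p q : Fin 2, x = ((cyc, 1, 1) : P3) ^ (a : ℕ) * (1, cyc, 1) ^ (b : ℕ) *
      (1, 1, cyc) ^ (c : ℕ) * (tra, tra, 1) ^ (p : ℕ) * (tra, 1, tra) ^ (q : ℕ) := by
  decide +kernel

theorem map_model_eq_closure :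
    Subgroup.map toSymHom sgn3.ker =
      Subgroup.closure ({swap (0 : Fin 9) 1 * swap 1 2, swap (3 : Fin 9) 4 * swap 4 5,
        swap (6 : Fin 9) 7 * swap 7 8, swap (0 : Fin 9) 1 * swap 3 4,
        swap (0 : Fin 9) 1 * swap 6 7} : Set (Perm (Fin 9))) := by
  have e1 : toSym (cyc, 1, 1) = swap (0 : Fin 9) 1 * swap 1 2 := by decide +kernel
  have e2 : toSym (1, cyc, 1) = swap (3 : Fin 9) 4 * swap 4 5 := by decide +kernel
  have e3 : toSym (1, 1, cyc) = swap (6 : Fin 9) 7 * swap 7 8 := by decide +kernel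
  have e4 : toSym (tra, tra, 1) = swap (0 : Fin 9) 1 * swap 3 4 := by decide +kernel
  have e5 : toSym (tra, 1, tra) = swap (0 : Fin 9) 1 * swap 6 7 := by decide +kernel
  refine le_antisymm ?_ ((Subgroup.closure_le _).mpr ?_)
  · rintro _ ⟨x, hx, rfl⟩
    obtain ⟨a, b, c, p, q, rfl⟩ := model_normal_form x hx
    simp only [map_mul, map_pow]
    refine mul_mem (mul_mem (mul_mem (mul_mem (pow_mem ?_ _) (pow_mem ?_ _)) (pow_mem ?_ _))
      (pow_mem ?_ _)) (pow_mem ?_ _) <;> apply Subgroup.subset_closure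
    all_goals simp [toSymHom, e1, e2, e3, e4, e5]
  · rintro x (rfl | rfl | rfl | rfl | rfl)
    · exact ⟨_, gens_mem (cyc, 1, 1) (by simp [gens]), e1⟩
    · exact ⟨_, gens_mem (1, cyc, 1) (by simp [gens]), e2⟩
    · exact ⟨_, gens_mem (1, 1, cyc) (by simp [gens]), e3⟩
    · exact ⟨_, gens_mem (tra, tra, 1) (by simp [gens]), e4⟩
    · exact ⟨_, gens_mem (tra, 1, tra) (by simp [gens]), e5⟩

/-- The model is the group generated by the five permutations. -/
noncomputable def modelEquiv :
    ↥(Subgroup.closure ({swap (0 : Fin 9) 1 * swap 1 2, swap (3 : Fin 9) 4 * swap 4 5,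
      swap (6 : Fin 9) 7 * swap 7 8, swap (0 : Fin 9) 1 * swap 3 4,
      swap (0 : Fin 9) 1 * swap 6 7} : Set (Perm (Fin 9)))) ≃* Model :=
  ((sgn3.ker.equivMapOfInjective toSymHom toSymHom_injective).trans
    (MulEquiv.subgroupCongr map_model_eq_closure)).symm

/-- The projection to a factor. -/
def proj (j : Fin 3) : Model →* Perm (Fin 3) :=
  MonoidHom.mk' (fun x => comp x.1 j) fun x y => comp_mul x.1 y.1 j

/-- The sign on a factor. -/
def sg (j : Fin 3) (x : Model) : ℤ := (Perm.sign (proj j x) : ℤ)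

/-- The number of fixed points on a factor. -/
def fx (j : Fin 3) (x : Model) : ℤ := ((Finset.univ.filter fun i => proj j x i = i).card : ℤ)

/-- The function `B`. -/
def funB (j : Fin 3) (x : Model) : ℤ := 2 + sg j x - fx j x

/-- The function `C`. -/
def funC (j : Fin 3) (x : Model) : ℤ :=
  sg (j + 1) x + sg (j + 2) x - sg (j + 1) x * (fx j x - 1)

/-- The function `D`. -/
def funD (x : Model) : ℤ := 1 + sg 0 x + sg 1 x + sg 2 x - (fx 0 x - 1) * (fx 1 x - 1)

/-- The function `Δ`. -/
def funΔ (x : Model) : ℤ :=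
  (fx 0 x - 1) * (fx 1 x - 1) - (fx 0 x - 1) * (fx 2 x - 1)

theorem fun_vanish : ∀ x : Model, x * x = 1 →
    (∀ j, funB j x = 0) ∧ (∀ j, funC j x = 0) ∧ funD x = 0 ∧ funΔ x = 0 := by
  decide +kernel

theorem sum_one : (∀ j, ∑ x, funB j x = 108) ∧ (∀ j, ∑ x, funC j x = 0) ∧
    ∑ x, funD x = 108 ∧ ∑ x, funΔ x = 0 := by
  decide +kernel

theorem inner_BB : ∀ j k, ∑ x, funB j x * funB k x = if j = k then 324 else 108 := by
  decide +kernel

theorem inner_BC : ∀ j k, ∑ x, funC j x * funB k x = if j = k then 0 else 108 := by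
  decide +kernel

theorem inner_C : ∀ j, ∑ x, funC j x * funC j x = 324 ∧ ∑ x, funC j x * funD x = 216 ∧
    ∑ x, funC j x * funΔ x = 0 := by
  decide +kernel

theorem inner_D : (∀ j, ∑ x, funD x * funB j x = 216) ∧ ∑ x, funD x * funD x = 540 := by
  decide +kernel

theorem inner_Δ : (∀ j, ∑ x, funΔ x * funB j x = 0) ∧ ∑ x, funΔ x * funΔ x = 216 ∧
    ∑ x, funΔ x * funD x = -108 := by
  decide +kernel

theorem inner_Bsg : ∀ j k, ∑ x, funB j x * sg k x = if j = k then 108 else 0 := by
  decide +kernel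

/-- The involutions of the model. -/
def invols : Finset Model := Finset.univ.filter fun x => x ≠ 1 ∧ x * x = 1

theorem pair_sums : (∀ j, ∑ x ∈ invols, ∑ y ∈ invols, funB j (x * y) = 648) ∧
    (∀ j, ∑ x ∈ invols, ∑ y ∈ invols, funC j (x * y) = 0) ∧
    ∑ x ∈ invols, ∑ y ∈ invols, funD (x * y) = 972 := by
  decide +kernel

theorem pow_six : ∀ x : Model, x ^ 6 = 1 := by decide +kernel

theorem card_cube : (Finset.univ.filter fun x : Model => x ^ 3 = 1).card = 27 := by decide +kernel

theorem cube_comm : ∀ x : Model, x ^ 3 = 1 → ∀ y : Model, y ^ 3 = 1 → x * y = y * x := by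
  decide +kernel

theorem cube_iff : ∀ x : Model, (sg 0 x = 1 ∧ sg 1 x = 1) ↔ x ^ 3 = 1 := by decide +kernel

/-- The two standard involutions. -/
def invA : Model := ⟨(tra, tra, 1), by decide⟩

/-- The second standard involution. -/
def invB : Model := ⟨(tra, 1, tra), by decide⟩

theorem decompose : ∀ x : Model, ∃ t : Model, t ^ 3 = 1 ∧
    ∃ p q : Fin 2, x = t * invA ^ (p : ℕ) * invB ^ (q : ℕ) := by
  decide +kernel

/-- The third standard involution. -/
def invC : Model := ⟨(1, tra, tra), by decide⟩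

theorem cube_commutator : ∀ t : Model, t ^ 3 = 1 → ∃ y : Model, y ^ 3 = 1 ∧
    ∃ w : Model, w ^ 3 = 1 ∧ t = invA * y * invA⁻¹ * y⁻¹ * (invC * w * invC⁻¹ * w⁻¹) := by
  decide +kernel

theorem invol_facts : invA * invA = 1 ∧ invB * invB = 1 ∧
    (sg 0 invA = -1 ∧ sg 1 invA = -1 ∧ sg 2 invA = 1) ∧
    (sg 0 invB = -1 ∧ sg 1 invB = 1 ∧ sg 2 invB = -1) ∧
    ∀ j, ∀ t : Model, t ^ 3 = 1 → sg j t = 1 := by
  decide +kernel

end Cfsg.Lib.Recog.ThreeCubed
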