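import Mathlib

/-!
# Integer coefficient vectors of the induced characters of `3^3 : V4`
-/

set_option autoImplicit false
set_option linter.unusedSectionVars false
set_option linter.unusedSimpArgs false

namespace Cfsg.Lib.Recog.ThreeCubed

open Matrix

universe u

variable {ι : Type u} [Fintype ι] [DecidableEq ι]

/-- The weighted sum of an integer vector. -/
def wsum (v : ι → ℤ) (w : ι → ℂ) : ℂ := ∑ x, (v x : ℂ) * w x

theorem wsum_add (v v' : ι → ℤ) (w : ι → ℂ) : wsum (v + v') w = wsum v w + wsum v' w := by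
  simp [wsum, add_mul, Finset.sum_add_distrib]

theorem wsum_single (x : ι) (a : ℤ) (w : ι → ℂ) : wsum (Pi.single x a) w = a * w x := by
  simp [wsum, Pi.single_apply]

theorem sq_le_dotProduct {κ : Type*} [Fintype κ] {g : κ → ι} (hg : Function.Injective g)
    (v : ι → ℤ) : ∑ k, v (g k) * v (g k) ≤ v ⬝ᵥ v := by
  rw [← Finset.sum_image (f := fun x => v x * v x) (fun a _ b _ h => hg h)]
  exact Finset.sum_le_univ_sum_of_nonneg fun x => mul_self_nonneg _

theorem sub_single_norm (v : ι → ℤ) (x : ι) :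
    (v - Pi.single x (v x)) ⬝ᵥ (v - Pi.single x (v x)) = v ⬝ᵥ v - v x * v x := by
  simp [sub_dotProduct, dotProduct_sub, dotProduct_single, single_dotProduct]

theorem norm_one_eq_single {v : ι → ℤ} (h : v ⬝ᵥ v = 1) :
    ∃ x ε, (ε = 1 ∨ ε = -1) ∧ v = Pi.single x ε := by
  obtain ⟨x, hx⟩ : ∃ x, v x ≠ 0 := by
    by_contra h'
    push Not at h'
    simp [dotProduct, h'] at h
  have hle : v x * v x ≤ 1 := h ▸ Finset.single_le_sum (f := fun y => v y * v y)
    (fun _ _ => mul_self_nonneg _) (Finset.mem_univ x)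
  have h1 : v x = 1 ∨ v x = -1 := by
    have : v x ≤ 1 := by nlinarith
    have : -1 ≤ v x := by nlinarith
    omega
  refine ⟨x, v x, h1, ?_⟩
  have h0 := sub_single_norm v x
  rw [h, show v x * v x = 1 by rcases h1 with e | e <;> simp [e], sub_self] at h0
  exact sub_eq_zero.mp (dotProduct_self_eq_zero.mp h0)

theorem norm_two_eq_singles {v : ι → ℤ} (h : v ⬝ᵥ v = 2) :
    ∃ x y ε η, x ≠ y ∧ (ε = 1 ∨ ε = -1) ∧ (η = 1 ∨ η = -1) ∧
      v = Pi.single x ε + Pi.single y η := by
  obtain ⟨x, hx⟩ : ∃ x, v x ≠ 0 := by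
    by_contra h'
    push Not at h'
    simp [dotProduct, h'] at h
  have hle : v x * v x ≤ 2 := h ▸ Finset.single_le_sum (f := fun y => v y * v y)
    (fun _ _ => mul_self_nonneg _) (Finset.mem_univ x)
  have h1 : v x = 1 ∨ v x = -1 := by
    have : v x ≤ 1 := by nlinarith
    have : -1 ≤ v x := by nlinarith
    omega
  have h0 := sub_single_norm v x
  rw [h, show v x * v x = 1 by rcases h1 with e | e <;> simp [e]] at h0
  obtain ⟨y, η, hη, hy⟩ := norm_one_eq_single (v := v - Pi.single x (v x)) (by rw [h0]; rfl)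
  refine ⟨x, y, v x, η, fun hxy => ?_, h1, hη, ?_⟩
  · subst hxy
    have := congrFun hy x
    simp only [Pi.sub_apply, Pi.single_eq_same, sub_self] at this
    rcases hη with e | e <;> omega
  · rw [← hy]; abel

/-- The coefficient data: `B` three vectors of norm three, `D` of norm five, `Δ` of norm two. -/
structure Data (ι : Type u) [Fintype ι] [DecidableEq ι] where
  o : ι
  d : ι → ℤ
  B : Fin 3 → ι → ℤ
  D : ι → ℤ
  Δ : ι → ℤ
  d_pos : ∀ x, 0 < d x
  d_o : d o = 1
  B_deg : ∀ j, B j ⬝ᵥ d = 0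
  B_o : ∀ j, B j o = 1
  BB : ∀ j k, B j ⬝ᵥ B k = if j = k then 3 else 1
  D_o : D o = 1
  DD : D ⬝ᵥ D = 5
  DB : ∀ j, D ⬝ᵥ B j = 2
  Δ_o : Δ o = 0
  Δ_deg : Δ ⬝ᵥ d = 0
  ΔΔ : Δ ⬝ᵥ Δ = 2
  ΔB : ∀ j, Δ ⬝ᵥ B j = 0
  ΔD : Δ ⬝ᵥ D = -1

namespace Data

variable (X : Data ι)

theorem exists_pairs : ∃ (P : Fin 3 × Bool → ι) (S : Fin 3 × Bool → ℤ),
    Function.Injective P ∧ (∀ a, P a ≠ X.o) ∧ (∀ a, S a = 1 ∨ S a = -1) ∧
    ∀ j, X.B j = Pi.single X.o 1 + Pi.single (P (j, false)) (S (j, false)) +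
      Pi.single (P (j, true)) (S (j, true)) := by
  have h : ∀ j, ∃ x y ε η, x ≠ y ∧ (ε = 1 ∨ ε = -1) ∧ (η = 1 ∨ η = -1) ∧
      X.B j - Pi.single X.o (X.B j X.o) = Pi.single x ε + Pi.single y η :=
    fun j => norm_two_eq_singles (by rw [sub_single_norm, X.BB, if_pos rfl, X.B_o]; rfl)
  choose x y ε η hxy hε hη hB using h
  have hB' : ∀ j, X.B j = Pi.single X.o 1 + Pi.single (x j) (ε j) + Pi.single (y j) (η j) := by
    intro j
    have := hB j
    rw [X.B_o, sub_eq_iff_eq_add] at this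
    rw [this]; abel
  have hne : ∀ j, x j ≠ X.o ∧ y j ≠ X.o := by
    intro j
    have h0 := congrFun (hB j) X.o
    simp only [Pi.sub_apply, Pi.single_eq_same, sub_self, Pi.add_apply, Pi.single_apply] at h0
    have := hxy j
    rcases hε j with e | e <;> rcases hη j with e' | e' <;> rw [e, e'] at h0 <;>
      refine ⟨?_, ?_⟩ <;> intro h1 <;> simp [h1, this, this.symm] at h0 <;> grind
  have hdeg : ∀ j, 1 + ε j * X.d (x j) + η j * X.d (y j) = 0 := by
    intro j
    have := X.B_deg j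
    simpa [hB' j, add_dotProduct, single_dotProduct, X.d_o] using this
  have hdis : ∀ i k, i ≠ k → x i ≠ x k ∧ x i ≠ y k ∧ y i ≠ x k ∧ y i ≠ y k := by
    intro i k hik
    have h0 := X.BB i k
    rw [if_neg hik, hB' i, add_dotProduct, add_dotProduct, single_dotProduct, single_dotProduct,
      single_dotProduct, X.B_o, hB' k] at h0
    simp only [Pi.add_apply, Pi.single_apply, if_neg (hne i).1, if_neg (hne i).2] at h0
    have h1 := hdeg i
    have h2 := hdeg k
    have := X.d_pos (x i)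
    have := X.d_pos (y i)
    have := X.d_pos (x k)
    have := X.d_pos (y k)
    have := hxy i
    have := hxy k
    rcases hε i with a | a <;> rcases hη i with b | b <;> rcases hε k with c | c <;>
      rcases hη k with e | e <;> rw [a, b, c, e] at h0 <;> rw [a, b] at h1 <;> rw [c, e] at h2 <;>
      grind
  refine ⟨fun a => bif a.2 then y a.1 else x a.1, fun a => bif a.2 then η a.1 else ε a.1,
    ?_, ?_, ?_, fun j => hB' j⟩
  · rintro ⟨i, b⟩ ⟨k, b'⟩ heq
    by_cases hik : i = k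
    · subst hik
      cases b <;> cases b' <;> simp_all
      exact hxy i heq.symm
    · obtain ⟨h1, h2, h3, h4⟩ := hdis i k hik
      cases b <;> cases b' <;> simp_all
  · rintro ⟨i, b⟩; cases b <;> simp [hne i]
  · rintro ⟨i, b⟩; cases b <;> simp [hε i, hη i]

/-- The distinguished constituents. -/
theorem exists_shape : ∃ (l q : Fin 3 → ι) (σ τ : Fin 3 → ℤ) (e f : ι) (ε : ℤ),
    Function.Injective (Sum.elim (fun a : Fin 3 × Bool => bif a.2 then q a.1 else l a.1)
      (fun b : Option Bool => b.elim X.o (fun c => bif c then f else e))) ∧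
    (∀ j, σ j = 1 ∨ σ j = -1) ∧ (∀ j, τ j = 1 ∨ τ j = -1) ∧ (ε = 1 ∨ ε = -1) ∧
    (∀ j, X.B j = Pi.single X.o 1 + Pi.single (l j) (σ j) + Pi.single (q j) (τ j)) ∧
    X.D = Pi.single X.o 1 + Pi.single (l 0) (σ 0) + Pi.single (l 1) (σ 1) +
      Pi.single (l 2) (σ 2) + Pi.single e ε ∧
    ∃ η : ℤ, (η = 1 ∨ η = -1) ∧ X.Δ = Pi.single e (-ε) + Pi.single f η := by
  obtain ⟨P, S, hP, hPo, hS, hB⟩ := X.exists_pairs
  have hsum : ∀ (v : ι → ℤ) (j : Fin 3), v ⬝ᵥ X.B j =
      v X.o + v (P (j, false)) * S (j, false) + v (P (j, true)) * S (j, true) := by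
    intro v j
    simp [hB, dotProduct_add, dotProduct_single]
  have hb : ∀ j, ∃ b : Bool, X.D (P (j, b)) = S (j, b) ∧ X.D (P (j, !b)) = 0 := by
    have hle := sq_le_dotProduct (g := fun a : Option (Fin 3 × Bool) => a.elim X.o P)
      (by
        rintro (_ | a) (_ | a') h
        · rfl
        · exact absurd h.symm (hPo a')
        · exact absurd h (hPo a)
        · exact congrArg some (hP h)) X.D
    simp only [Fintype.sum_option, Fintype.sum_prod_type, Fin.sum_univ_three, Fintype.sum_bool,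
      Option.elim_none, Option.elim_some, X.D_o, X.DD] at hle
    have h2 : ∀ j, X.D (P (j, false)) * S (j, false) + X.D (P (j, true)) * S (j, true) = 1 := by
      intro j
      have := hsum X.D j
      rw [X.DB, X.D_o] at this
      omega
    have hge : ∀ j, 1 ≤ X.D (P (j, false)) * X.D (P (j, false)) +
        X.D (P (j, true)) * X.D (P (j, true)) := by
      intro j
      by_contra hlt
      have h3 : X.D (P (j, false)) = 0 := by nlinarith
      have h4 : X.D (P (j, true)) = 0 := by nlinarith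
      have := h2 j
      rw [h3, h4] at this
      simp at this
    intro j
    have hj : X.D (P (j, false)) * X.D (P (j, false)) +
        X.D (P (j, true)) * X.D (P (j, true)) ≤ 2 := by
      have := hge 0
      have := hge 1
      have := hge 2
      rcases (show ∀ k : Fin 3, k = 0 ∨ k = 1 ∨ k = 2 by decide) j with rfl | rfl | rfl
      all_goals omega
    have h5 := h2 j
    have hS0 := hS (j, false)
    have hS1 := hS (j, true)
    suffices (X.D (P (j, false)) = S (j, false) ∧ X.D (P (j, true)) = 0) ∨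
        (X.D (P (j, true)) = S (j, true) ∧ X.D (P (j, false)) = 0) by
      rcases this with h | h
      · exact ⟨false, h⟩
      · exact ⟨true, h⟩
    generalize X.D (P (j, false)) = a, X.D (P (j, true)) = b, S (j, false) = s₀,
      S (j, true) = s₁ at *
    have : -1 ≤ a ∧ a ≤ 1 ∧ -1 ≤ b ∧ b ≤ 1 :=
      ⟨by nlinarith, by nlinarith, by nlinarith, by nlinarith⟩
    obtain ⟨_, _, _, _⟩ := this
    interval_cases a <;> interval_cases b <;> omega
  choose b hDl hDq using hb
  obtain ⟨l, hl⟩ : ∃ l : Fin 3 → ι, ∀ j, l j = P (j, b j) := ⟨_, fun _ => rfl⟩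
  obtain ⟨q, hq⟩ : ∃ q : Fin 3 → ι, ∀ j, q j = P (j, !b j) := ⟨_, fun _ => rfl⟩
  obtain ⟨σ, hσ⟩ : ∃ σ : Fin 3 → ℤ, ∀ j, σ j = S (j, b j) := ⟨_, fun _ => rfl⟩
  obtain ⟨τ, hτ⟩ : ∃ τ : Fin 3 → ℤ, ∀ j, τ j = S (j, !b j) := ⟨_, fun _ => rfl⟩
  have hσ' : ∀ j, σ j = 1 ∨ σ j = -1 := fun j => hσ j ▸ hS _
  have hτ' : ∀ j, τ j = 1 ∨ τ j = -1 := fun j => hτ j ▸ hS _
  have hB' : ∀ j, X.B j = Pi.single X.o 1 + Pi.single (l j) (σ j) + Pi.single (q j) (τ j) := by
    intro j
    rw [hB j]
    cases hbj : b j <;> simp [hl, hq, hσ, hτ, hbj] <;> abel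
  have hRo : ∀ j, l j ≠ X.o ∧ q j ≠ X.o := fun j => ⟨hl j ▸ hPo _, hq j ▸ hPo _⟩
  have hll : ∀ i k, i ≠ k → l i ≠ l k := fun i k hik h =>
    hik (congrArg Prod.fst (hP ((hl i).symm.trans (h.trans (hl k)))))
  have hlq : ∀ i k, l i ≠ q k := fun i k h => by
    have h' := hP ((hl i).symm.trans (h.trans (hq k)))
    simp only [Prod.mk.injEq] at h'
    obtain ⟨rfl, h''⟩ := h'
    cases hb' : b i <;> simp [hb'] at h''
  have hR : Function.Injective (fun a : Fin 3 × Bool => bif a.2 then q a.1 else l a.1) := by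
    rintro ⟨i, c⟩ ⟨k, c'⟩ h
    cases c <;> cases c' <;> simp only [cond_true, cond_false] at h
    · rw [hl, hl] at h
      rw [(Prod.mk.inj (hP h)).1]
    · exact absurd h (hlq i k)
    · exact absurd h.symm (hlq k i)
    · rw [hq, hq] at h
      rw [(Prod.mk.inj (hP h)).1]
  have hDq' : ∀ j, X.D (q j) = 0 := fun j => (hq j).symm ▸ hDq j
  have hDl' : ∀ j, X.D (l j) = σ j := fun j => by rw [hl, hσ]; exact hDl j
  obtain ⟨Y, hY⟩ : ∃ Y : ι → ℤ, Y = Pi.single X.o 1 + Pi.single (l 0) (σ 0) +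
    Pi.single (l 1) (σ 1) + Pi.single (l 2) (σ 2) := ⟨_, rfl⟩
  have hσσ : ∀ j, σ j * σ j = 1 := fun j => by rcases hσ' j with e | e <;> simp [e]
  have hDY : (X.D - Y) ⬝ᵥ (X.D - Y) = 1 := by
    simp [hY, sub_dotProduct, dotProduct_sub, add_dotProduct, dotProduct_add, single_dotProduct,
      dotProduct_single, Pi.single_apply, X.DD, X.D_o, hDl', hσσ, (hRo 0).1, (hRo 1).1, (hRo 2).1,
      (hRo 0).1.symm, (hRo 1).1.symm, (hRo 2).1.symm, hll 0 1, hll 0 2, hll 1 0, hll 1 2, hll 2 0,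
      hll 2 1]
  obtain ⟨e, ε, hε, he⟩ := norm_one_eq_single hDY
  have heo : e ≠ X.o := by
    rintro rfl
    have := congrFun he X.o
    simp [hY, X.D_o, Pi.single_apply, (hRo 0).1.symm, (hRo 1).1.symm, (hRo 2).1.symm] at this
    omega
  have hel : ∀ j, e ≠ l j ∧ e ≠ q j := by
    intro j
    constructor <;> rintro rfl
    · have := congrFun he (l j)
      rcases (show ∀ k : Fin 3, k = 0 ∨ k = 1 ∨ k = 2 by decide) j with rfl | rfl | rfl
      all_goals
        simp [hY, hDl', Pi.single_apply, hRo, hll] at this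
        omega
    · have := congrFun he (q j)
      simp [hY, hDq', Pi.single_apply, hRo, (hlq 0 j).symm, (hlq 1 j).symm,
        (hlq 2 j).symm] at this
      omega
  have hDeq : X.D = Y + Pi.single e ε := by rw [← he]; abel
  have hΔl : ∀ j, X.Δ (l j) = 0 ∧ X.Δ (q j) = 0 := by
    intro j
    have h1 : X.Δ (l j) * σ j + X.Δ (q j) * τ j = 0 := by
      have := X.ΔB j
      rw [hB' j, dotProduct_add, dotProduct_add, dotProduct_single, dotProduct_single,
        dotProduct_single, X.Δ_o] at this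
      omega
    by_contra hne
    have hτj := hτ' j
    have hσj := hσ' j
    have hne' : X.Δ (l j) ≠ 0 ∧ X.Δ (q j) ≠ 0 := by
      rcases hσj with a | a <;> rcases hτj with a' | a' <;> rw [a, a'] at h1 <;> omega
    have hle := sq_le_dotProduct (g := fun c : Bool => bif c then q j else l j)
      (by
        rintro (_ | _) (_ | _) h
        · rfl
        · exact absurd h (hlq j j)
        · exact absurd h.symm (hlq j j)
        · rfl) X.Δ
    simp only [Fintype.sum_bool, cond_true, cond_false, X.ΔΔ] at hle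
    have hl1 : X.Δ (l j) = 1 ∨ X.Δ (l j) = -1 := by
      have : X.Δ (q j) * X.Δ (q j) ≥ 1 := mul_self_pos.mpr hne'.2
      have : X.Δ (l j) ≤ 1 := by nlinarith
      have : -1 ≤ X.Δ (l j) := by nlinarith
      omega
    have hq1 : X.Δ (q j) = 1 ∨ X.Δ (q j) = -1 := by
      rcases hl1 with a | a <;> rcases hσj with a' | a' <;> rcases hτj with a'' | a'' <;>
        rw [a, a', a''] at h1 <;> omega
    have hΔ : X.Δ - Pi.single (l j) (X.Δ (l j)) - Pi.single (q j) (X.Δ (q j)) = 0 := by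
      apply dotProduct_self_eq_zero.mp
      simp [sub_dotProduct, dotProduct_sub, single_dotProduct, dotProduct_single, Pi.single_apply,
        X.ΔΔ, hlq j j, (hlq j j).symm]
      rcases hl1 with a | a <;> rcases hq1 with a' | a' <;> simp [a, a']
    rw [sub_sub, sub_eq_zero] at hΔ
    have h2 := X.Δ_deg
    have h3 := X.B_deg j
    rw [hΔ, add_dotProduct, single_dotProduct, single_dotProduct] at h2
    rw [hB' j, add_dotProduct, add_dotProduct, single_dotProduct, single_dotProduct,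
      single_dotProduct, X.d_o] at h3
    have := X.d_pos (l j)
    have := X.d_pos (q j)
    rcases hl1 with a | a <;> rcases hq1 with a' | a' <;> rcases hσj with s | s <;>
      rcases hτj with t | t <;> simp only [a, a', s, t] at h1 h2 h3 <;> omega
  have hΔe : X.Δ e = -ε := by
    have := X.ΔD
    simp [hDeq, hY, dotProduct_add, dotProduct_single, X.Δ_o, hΔl] at this
    rcases hε with a | a <;> rw [a] at this ⊢ <;> omega
  obtain ⟨f, η, hη, hf⟩ := norm_one_eq_single (v := X.Δ - Pi.single e (X.Δ e)) (by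
    rw [sub_single_norm, X.ΔΔ, hΔe]
    rcases hε with a | a <;> simp [a])
  have hΔeq : X.Δ = Pi.single e (-ε) + Pi.single f η := by rw [← hΔe, ← hf]; abel
  have hf0 : f ≠ e ∧ f ≠ X.o ∧ ∀ j, f ≠ l j ∧ f ≠ q j := by
    refine ⟨?_, ?_, fun j => ⟨?_, ?_⟩⟩ <;> rintro rfl
    · have := congrFun hf f
      simp at this
      omega
    · have := congrFun hf X.o
      simp [X.Δ_o, Pi.single_apply, heo.symm] at this
      omega
    · have := congrFun hf (l j)
      simp [(hΔl j).1, Pi.single_apply, (hel j).1.symm] at this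
      omega
    · have := congrFun hf (q j)
      simp [(hΔl j).2, Pi.single_apply, (hel j).2.symm] at this
      omega
  refine ⟨l, q, σ, τ, e, f, ε, ?_, hσ', hτ', hε, hB', hY ▸ hDeq, η, hη, hΔeq⟩
  refine Function.Injective.sumElim hR ?_ ?_
  · obtain ⟨hfe, hfo, _⟩ := hf0
    rintro (_ | _ | _) (_ | _ | _) h <;>
      simp only [Option.elim_none, Option.elim_some, cond_true, cond_false] at h <;>
      (first
        | rfl
        | exact absurd h heo
        | exact absurd h.symm heo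
        | exact absurd h hfo
        | exact absurd h.symm hfo
        | exact absurd h hfe
        | exact absurd h.symm hfe)
  · rintro ⟨j, c⟩ (_ | _ | _)
    all_goals cases c
    all_goals simp only [Option.elim_none, Option.elim_some, cond_true, cond_false]
    exacts [(hRo j).1, (hRo j).2, (hel j).1.symm, (hel j).2.symm, (hf0.2.2 j).1.symm,
      (hf0.2.2 j).2.symm]

/-- A norm three vector meeting two of the pairs. -/
theorem c_shape {l q : Fin 3 → ι} {σ τ : Fin 3 → ℤ} {e f : ι} {ε η : ℤ}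
    (hinj : Function.Injective (Sum.elim (fun a : Fin 3 × Bool => bif a.2 then q a.1 else l a.1)
      (fun b : Option Bool => b.elim X.o (fun c => bif c then f else e))))
    (hσ : ∀ j, σ j = 1 ∨ σ j = -1) (hτ : ∀ j, τ j = 1 ∨ τ j = -1) (hε : ε = 1 ∨ ε = -1)
    (hη : η = 1 ∨ η = -1)
    (hB : ∀ j, X.B j = Pi.single X.o 1 + Pi.single (l j) (σ j) + Pi.single (q j) (τ j))
    (hD : X.D = Pi.single X.o 1 + Pi.single (l 0) (σ 0) + Pi.single (l 1) (σ 1) +
      Pi.single (l 2) (σ 2) + Pi.single e ε)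
    (hΔ : X.Δ = Pi.single e (-ε) + Pi.single f η) {C : ι → ℤ} (hC0 : C X.o = 0)
    (hCC : C ⬝ᵥ C = 3) (j k m : Fin 3) (hjk : j ≠ k) (hjm : j ≠ m) (hkm : k ≠ m)
    (hj : C ⬝ᵥ X.B j = 0) (hk : C ⬝ᵥ X.B k = 1) (hm : C ⬝ᵥ X.B m = 1) (hCD : C ⬝ᵥ X.D = 2)
    (hCΔ : C ⬝ᵥ X.Δ = 0) :
    ∃ h κ, C = Pi.single (l k) (σ k) + Pi.single (l m) (σ m) + Pi.single h κ := by
  simp only [hB, hD, hΔ, dotProduct_add, dotProduct_single, hC0, zero_mul, zero_add, mul_one]
    at hj hk hm hCD hCΔ
  have h3 : ∀ g : Fin 3 → ℤ, g 0 + g 1 + g 2 = g j + g k + g m := by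
    intro g
    have : ({j, k, m} : Finset (Fin 3)) = Finset.univ :=
      (show ∀ a b c : Fin 3, a ≠ b → a ≠ c → b ≠ c → ({a, b, c} : Finset (Fin 3)) = Finset.univ by
        decide) j k m hjk hjm hkm
    rw [← Fin.sum_univ_three g, ← this, Finset.sum_insert (by simp [hjk, hjm]),
      Finset.sum_insert (by simp [hkm]), Finset.sum_singleton]
    ring
  have hle := sq_le_dotProduct hinj C
  simp only [Fintype.sum_sum_type, Sum.elim_inl, Sum.elim_inr, Fintype.sum_prod_type,
    Fin.sum_univ_three, Fintype.sum_bool, Fintype.sum_option, Option.elim_none,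
    Option.elim_some, cond_true, cond_false, hC0, hCC, mul_zero, zero_add] at hle
  rw [h3 (fun i => C (q i) * C (q i) + C (l i) * C (l i))] at hle
  rw [h3 (fun i => C (l i) * σ i)] at hCD
  have hj' := hσ j
  have hj'' := hτ j
  have hk' := hσ k
  have hk'' := hτ k
  have hm' := hσ m
  have hm'' := hτ m
  have hk2 : 1 ≤ C (q k) * C (q k) + C (l k) * C (l k) := by
    by_contra hc
    have h1 : C (q k) = 0 := by nlinarith
    have h2 : C (l k) = 0 := by nlinarith
    rw [h1, h2] at hk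
    simp at hk
  have hm2 : 1 ≤ C (q m) * C (q m) + C (l m) * C (l m) := by
    by_contra hc
    have h1 : C (q m) = 0 := by nlinarith
    have h2 : C (l m) = 0 := by nlinarith
    rw [h1, h2] at hm
    simp at hm
  have he : C e = 0 := by
    by_contra hc
    have h1 : C f ≠ 0 := by
      intro h0
      rw [h0, zero_mul, add_zero] at hCΔ
      rcases hε with a | a <;> rw [a] at hCΔ <;> omega
    have h4 : 1 ≤ C e * C e := mul_self_pos.mpr hc
    have h5 : 1 ≤ C f * C f := mul_self_pos.mpr h1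
    nlinarith [mul_self_nonneg (C (q j)), mul_self_nonneg (C (l j))]
  rw [he, zero_mul, add_zero] at hCD
  have hlj : C (l j) = 0 := by
    by_contra hc
    have h1 : C (q j) ≠ 0 := by
      intro h0
      rw [h0, zero_mul, add_zero] at hj
      rcases hj' with a | a <;> rw [a] at hj <;> omega
    have h4 : 1 ≤ C (l j) * C (l j) := mul_self_pos.mpr hc
    have h5 : 1 ≤ C (q j) * C (q j) := mul_self_pos.mpr h1
    nlinarith [mul_self_nonneg (C e), mul_self_nonneg (C f)]
  rw [hlj, zero_mul, zero_add] at hCD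
  have hval : C (l k) = σ k ∧ C (l m) = σ m := by
    have b1 : -1 ≤ C (l k) ∧ C (l k) ≤ 1 := ⟨by nlinarith, by nlinarith⟩
    have b2 : -1 ≤ C (l m) ∧ C (l m) ≤ 1 := ⟨by nlinarith, by nlinarith⟩
    generalize C (l k) = a, C (l m) = b at *
    obtain ⟨_, _⟩ := b1
    obtain ⟨_, _⟩ := b2
    interval_cases a <;> interval_cases b <;> omega
  have hlkm : l k ≠ l m := fun h =>
    hkm (congrArg Prod.fst (Sum.inl_injective (hinj (a₁ := Sum.inl (k, false))
      (a₂ := Sum.inl (m, false)) (by simpa using h))))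
  obtain ⟨v, hv⟩ : ∃ v : ι → ℤ, v = C - Pi.single (l k) (σ k) := ⟨_, rfl⟩
  have e1 : v (l m) = σ m := by
    rw [hv, Pi.sub_apply, Pi.single_eq_of_ne hlkm.symm, sub_zero, hval.2]
  have e2 : v ⬝ᵥ v = 2 := by
    rw [hv, ← hval.1, sub_single_norm, hval.1, hCC]
    rcases hk' with a | a <;> rw [a] <;> rfl
  obtain ⟨h, κ, -, hh⟩ := norm_one_eq_single (v := v - Pi.single (l m) (σ m)) (by
    rw [← e1, sub_single_norm, e1, e2]
    rcases hm' with a | a <;> rw [a] <;> rfl)
  subst hv
  exact ⟨h, κ, by rw [← hh]; abel⟩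

end Data

end Cfsg.Lib.Recog.ThreeCubed
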