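import Cfsg.Agent.Lib.Recog.TwoSymFourMain
import Cfsg.Agent.Lib.Core.Cores

/-!
# The noncentral case: the symmetric group of degree six
-/

set_option autoImplicit false
set_option linter.style.haveILetI false
set_option linter.unusedSectionVars false

namespace Cfsg.Lib.Recog.TwoSymFour

open Subgroup Equiv

universe u

variable {G : Type u} [Group G] [Finite G]

theorem card_sl_three_two : Nat.card (Matrix.SpecialLinearGroup (Fin 3) (ZMod 2)) = 168 := by
  rw [Nat.card_eq_fintype_card]
  decide +kernel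

namespace Setup

variable {t : G} (d : Setup t)
include d

theorem equiv_perm_six (hcen : centralizer ({t} : Set G) ≠ ⊤) : Nonempty (G ≃* Perm (Fin 6)) := by
  classical
  obtain ⟨M, hM, hMi, htM⟩ := d.exists_index_two
  haveI := hM
  have hbig : 8 ≤ (centralizer ({t} : Set G)).index := d.central_or_class_large.resolve_left hcen
  have hMcard : 192 ≤ Nat.card M := by
    have h := M.card_mul_index
    rw [hMi, d.hsyl] at h
    omega
  have hmul : ∀ {x y : G}, x * y ∈ M ↔ (x ∈ M ↔ y ∈ M) := fun {x y} => mul_mem_iff_of_index_two hMi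
  -- the complement of `t` in its centralizer
  let av : Perm (Fin 4) → Multiplicative (ZMod 2) := fun p =>
    if d.emb (1, p) ∈ M then 1 else Multiplicative.ofAdd 1
  have hsplit : ∀ (a : Multiplicative (ZMod 2)) (p : Perm (Fin 4)),
      d.emb (a, p) ∈ M ↔ a = av p := by
    intro a p
    have ha : a = 1 ∨ a = Multiplicative.ofAdd 1 := (by decide : ∀ a : Multiplicative (ZMod 2), a = 1 ∨ a = Multiplicative.ofAdd 1) a
    have hne : (1 : Multiplicative (ZMod 2)) ≠ Multiplicative.ofAdd 1 := by decide
    rcases ha with rfl | rfl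
    · by_cases h : d.emb (1, p) ∈ M <;> simp [av, h, hne]
    · have h1 : d.emb (Multiplicative.ofAdd 1, p) = t * d.emb (1, p) := by
        conv_lhs => rw [show ((Multiplicative.ofAdd 1, p) : W) = c * (1, p) by simp [c]]
        rw [map_mul, d.emb_c]
      rw [h1, hmul]
      by_cases h : d.emb (1, p) ∈ M <;> simp [av, h, htM, hne.symm]
  have hav : ∀ p q, av (p * q) = av p * av q := fun p q => by
    refine ((hsplit _ _).1 ?_).symm
    rw [show ((av p * av q, p * q) : W) = (av p, p) * (av q, q) from rfl, map_mul]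
    exact M.mul_mem ((hsplit _ _).2 rfl) ((hsplit _ _).2 rfl)
  let θ : Perm (Fin 4) →* M := MonoidHom.mk' (fun p => ⟨d.emb (av p, p), (hsplit _ _).2 rfl⟩)
    fun p q => Subtype.ext (by rw [Subgroup.coe_mul, ← map_mul, Prod.mk_mul_mk, ← hav])
  have hθv : ∀ p, (θ p : G) = d.emb (av p, p) := fun p => rfl
  have hθi : Function.Injective θ := fun p q h => by
    have h' := congrArg Subtype.val h
    rw [hθv, hθv] at h'
    exact congrArg Prod.snd (d.emb_injective h')
  have hz0 : d.z ∈ M := by
    obtain ⟨a, ha⟩ := z0_fact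
    rw [z, ← ha, map_mul]
    exact hmul.2 Iff.rfl
  let zM : M := ⟨d.z, hz0⟩
  -- its centralizer in `M`
  let δ : DihedralGroup 4 →* centralizer ({zM} : Set M) :=
    (θ.comp delta).codRestrict _ fun x => by
      rw [mem_centralizer_singleton_iff]
      refine Subtype.ext ?_
      show d.emb (av (delta x), delta x) * d.z = d.z * d.emb (av (delta x), delta x)
      rw [z, ← map_mul, ← map_mul, z0_comm _ ⟨x, rfl⟩]
  have hδ : Function.Bijective δ := by
    refine ⟨fun x y h => delta_injective x y (hθi (congrArg Subtype.val h)), fun y => ?_⟩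
    have hy : ((y : M) : G) ∈ d.T := by
      rw [← d.centralizer_z, mem_centralizer_singleton_iff]
      exact congrArg Subtype.val (mem_centralizer_singleton_iff.1 y.2)
    obtain ⟨w, hw, he⟩ := hy
    obtain ⟨x, hx⟩ := mem_T0.1 hw
    refine ⟨x, Subtype.ext (Subtype.ext ?_)⟩
    show d.emb (av (delta x), delta x) = _
    rw [← he, hx]
    congr 1
    exact Prod.ext ((hsplit w.1 w.2).1 (by rw [← show d.emb w = d.emb (w.1, w.2) from rfl, he]; exact (y : M).2)).symm rfl
  have hzM : orderOf zM = 2 := by
    rw [← Subgroup.orderOf_coe]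
    exact orderOf_eq_prime (by rw [pow_two]; exact d.z_mul) d.z_ne
  have hOM : oddCore M = ⊥ := by
    haveI : (oddCore M).Characteristic := by unfold oddCore; infer_instance
    haveI : ((oddCore M).map M.subtype).Normal := inferInstance
    have hle : (oddCore M).map M.subtype ≤ oddCore G := ZStar.le_oddCore inferInstance (by
      rw [Nat.card_congr ((oddCore M).equivMapOfInjective _ M.subtype_injective).toEquiv.symm]
      exact ZStar.odd_card_oddCore)
    rw [d.oddCore_eq_bot, le_bot_iff, map_eq_bot_iff_of_injective _ M.subtype_injective] at hle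
    exact hle
  have hD : Nat.card (centralizer ({zM} : Set M)) = 8 := by
    rw [← Nat.card_congr (MulEquiv.ofBijective δ hδ).toEquiv, DihedralGroup.nat_card]
  have heA : Nonempty (M ≃* alternatingGroup (Fin 6)) := by
    rcases Cfsg.Agent.S3035.result zM hzM ⟨(MulEquiv.ofBijective δ hδ).symm⟩ with h | ⟨⟨e⟩⟩ | ⟨⟨e⟩⟩ | ⟨⟨e⟩⟩ | h
    · rw [hOM, sup_bot_eq] at h
      rw [h, Subgroup.card_top] at hD
      omega
    · rw [Nat.card_congr e.toEquiv, Nat.card_perm, Nat.card_fin] at hMcard
      norm_num [Nat.factorial] at hMcard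
    · rw [Nat.card_congr e.toEquiv, Nat.card_perm, Nat.card_fin] at hMcard
      norm_num [Nat.factorial] at hMcard
    · rw [Nat.card_congr e.toEquiv, card_sl_three_two] at hMcard
      omega
    · exact h
  obtain ⟨e⟩ := heA
  -- the automorphism induced by `t`
  let φ : MulAut (alternatingGroup (Fin 6)) := (e.symm.trans (MulAut.conjNormal t)).trans e
  have htt : t * t = 1 := by rw [← pow_two, ← d.ht, pow_orderOf_eq_one]
  have htinv : t⁻¹ = t := inv_eq_of_mul_eq_one_right htt
  have hφ : ∀ m : M, φ (e m) = e (MulAut.conjNormal t m) := fun m => by simp [φ]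
  obtain ⟨p, hp3, hp1⟩ := three_cycle_four
  set y : alternatingGroup (Fin 6) := e (θ p) with hy
  have hyφ : φ y = y := by
    rw [hy, hφ]
    congr 1
    refine Subtype.ext ?_
    rw [MulAut.conjNormal_apply, hθv, ← d.emb_comm, mul_inv_cancel_right]
  have hyo : orderOf y = 3 := by
    haveI : Fact (Nat.Prime 3) := ⟨Nat.prime_three⟩
    refine orderOf_eq_prime ?_ fun h => hp1 (hθi (e.injective (h.trans (by rw [map_one, map_one]))))
    rw [hy, ← map_pow, ← map_pow, hp3, map_one, map_one]
  have h3 : ∀ u : alternatingGroup (Fin 6), Perm.IsThreeCycle (u : Perm (Fin 6)) →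
      Perm.IsThreeCycle (φ u : Perm (Fin 6)) := by
    have hthree : ∀ u : alternatingGroup (Fin 6), orderOf u = 3 →
        Perm.IsThreeCycle (u : Perm (Fin 6)) ∨ Perm.cycleType (u : Perm (Fin 6)) = {3, 3} := by
      intro u hu
      obtain ⟨n, hn⟩ := Perm.cycleType_prime_order (σ := (u : Perm (Fin 6)))
        (by rw [Subgroup.orderOf_coe, hu]; exact Nat.prime_three)
      rw [Subgroup.orderOf_coe, hu] at hn
      have hle := Perm.sum_cycleType (u : Perm (Fin 6))
      have h6 := Finset.card_le_univ (Perm.support (u : Perm (Fin 6)))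
      rw [hn, Multiset.sum_replicate, smul_eq_mul] at hle
      rw [Fintype.card_fin] at h6
      have : n = 0 ∨ n = 1 := by omega
      rcases this with rfl | rfl
      · exact Or.inl hn
      · exact Or.inr hn
    have hclass : ∀ u : alternatingGroup (Fin 6),
        Perm.cycleType (u : Perm (Fin 6)) = Perm.cycleType (y : Perm (Fin 6)) → IsConj y u := by
      intro u hu
      rcases hthree y hyo with h | h
      · exact alternatingGroup.isThreeCycle_isConj (by simp) h (hu.trans h)
      · obtain ⟨σ, hσ⟩ := isConj_iff.1 ((Perm.isConj_iff_cycleType_eq).2 hu.symm)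
        obtain ⟨d0, τ0, hd3, hd6, hτs, hτc⟩ := double_three_std
        have hd0 : Perm.cycleType d0 = {3, 3} := by
          obtain ⟨n, hn⟩ := Perm.cycleType_prime_order (σ := d0) (by
            haveI : Fact (Nat.Prime 3) := ⟨Nat.prime_three⟩
            rw [orderOf_eq_prime hd3 fun h1 => by rw [h1, Perm.support_one] at hd6; simp at hd6]
            exact Nat.prime_three)
          have ho : orderOf d0 = 3 := by
            haveI : Fact (Nat.Prime 3) := ⟨Nat.prime_three⟩
            exact orderOf_eq_prime hd3 fun h1 => by rw [h1, Perm.support_one] at hd6; simp at hd6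
          rw [ho] at hn
          have hsum := Perm.sum_cycleType d0
          rw [hn, Multiset.sum_replicate, smul_eq_mul, hd6] at hsum
          obtain rfl : n = 1 := by omega
          exact hn
        obtain ⟨ρ, hρ⟩ := isConj_iff.1 ((Perm.isConj_iff_cycleType_eq).2 (hd0.trans h.symm))
        set τ := ρ * τ0 * ρ⁻¹ with hτ
        have hτy : τ * (y : Perm (Fin 6)) * τ⁻¹ = y := by
          rw [hτ, ← hρ]
          calc ρ * τ0 * ρ⁻¹ * (ρ * d0 * ρ⁻¹) * (ρ * τ0 * ρ⁻¹)⁻¹ = ρ * (τ0 * d0) * τ0⁻¹ * ρ⁻¹ := by group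
            _ = ρ * d0 * ρ⁻¹ := by rw [hτc]; group
        rcases Int.units_eq_one_or (Perm.sign σ) with hs | hs
        · exact isConj_iff.2 ⟨⟨σ, Perm.mem_alternatingGroup.2 hs⟩, Subtype.ext hσ⟩
        · refine isConj_iff.2 ⟨⟨σ * τ, Perm.mem_alternatingGroup.2 ?_⟩, Subtype.ext ?_⟩
          · rw [map_mul, hs, hτ, map_mul, map_mul, map_inv, mul_comm (Perm.sign ρ) (Perm.sign τ0),
              mul_inv_cancel_right, hτs]
            rfl
          · show σ * τ * (y : Perm (Fin 6)) * (σ * τ)⁻¹ = u
            rw [← hσ]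
            conv_rhs => rw [← hτy]
            group
    have hpres : ∀ u : alternatingGroup (Fin 6), IsConj y u → IsConj y (φ u) := fun u hu => by
      have h := φ.toMonoidHom.map_isConj hu
      change IsConj (φ y) (φ u) at h
      rwa [hyφ] at h
    have hct : ∀ u : alternatingGroup (Fin 6), IsConj y u →
        Perm.cycleType (u : Perm (Fin 6)) = Perm.cycleType (y : Perm (Fin 6)) := fun u hu => by
      have h := (alternatingGroup (Fin 6)).subtype.map_isConj hu
      exact ((Perm.isConj_iff_cycleType_eq).1 h).symm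
    intro u hu
    rcases hthree y hyo with h | h
    · exact (hct _ (hpres u (hclass u (hu.trans h.symm)))).trans h
    · rcases hthree (φ u) (by
        rw [MulEquiv.orderOf_eq, ← Subgroup.orderOf_coe, hu.orderOf]) with h' | h'
      · exact h'
      · exfalso
        have h1 : IsConj y (φ u) := hclass _ (h'.trans h.symm)
        have h2 := φ.symm.toMonoidHom.map_isConj h1
        change IsConj (φ.symm y) (φ.symm (φ u)) at h2
        rw [MulEquiv.symm_apply_apply, show φ.symm y = y by conv_lhs => rw [← hyφ, MulEquiv.symm_apply_apply]] at h2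
        have h4 : Perm.cycleType (u : Perm (Fin 6)) = {3} := hu
        have h3 := congrArg Multiset.card ((hct u h2).trans h)
        rw [h4] at h3
        simp at h3
  obtain ⟨σ, hσ⟩ := NineSC.exists_conj_of_preserves 6 (by norm_num) φ h3
  have hσm : ∀ m : M, σ * (e m : Perm (Fin 6)) * σ⁻¹ = (e (MulAut.conjNormal t m) : Perm (Fin 6)) := fun m => by
    rw [← hφ, ← hσ, MulAut.conjNormal_apply]
  have hcent : ∀ π : Perm (Fin 6),
      (∀ u : alternatingGroup (Fin 6), π * (u : Perm (Fin 6)) = u * π) → π = 1 := fun π hπ =>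
    centralizer_alt_six π (hπ ⟨_, Perm.mem_alternatingGroup.2 (by decide +kernel)⟩)
      (hπ ⟨_, Perm.mem_alternatingGroup.2 (by decide +kernel)⟩)
  have hσ2 : σ * σ = 1 := hcent _ fun u => by
    obtain ⟨m, rfl⟩ := e.surjective u
    have hm : MulAut.conjNormal t (MulAut.conjNormal t m) = m := Subtype.ext (by
      rw [MulAut.conjNormal_apply, MulAut.conjNormal_apply, htinv]
      calc t * (t * (m : G) * t) * t = t * t * m * (t * t) := by group
        _ = m := by rw [htt, one_mul, mul_one])
    have h := hσm (MulAut.conjNormal t m)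
    rw [hm, ← hσm m] at h
    calc σ * σ * (e m : Perm (Fin 6)) = σ * (σ * (e m : Perm (Fin 6)) * σ⁻¹) * σ⁻¹ * (σ * σ) := by group
      _ = _ := by rw [h]
  have hσodd : Perm.sign σ = -1 := by
    refine (Int.units_eq_one_or _).resolve_left fun hs => ?_
    obtain ⟨m, hm⟩ := e.surjective ⟨σ, Perm.mem_alternatingGroup.2 hs⟩
    set x := (m : G)⁻¹ * t with hx
    have hxM : x ∉ M := fun h => htM (by simpa [hx] using M.mul_mem m.2 h)
    have hcomm : ∀ n : M, x * n = n * x := by
      intro n
      have h1 : MulAut.conjNormal t n = m * n * m⁻¹ := e.injective (Subtype.ext (by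
        rw [← hσm, map_mul, map_mul, map_inv, Subgroup.coe_mul, Subgroup.coe_mul, Subgroup.coe_inv, hm]))
      have h2 := congrArg Subtype.val h1
      rw [MulAut.conjNormal_apply] at h2
      push_cast at h2
      calc x * n = (m : G)⁻¹ * (t * n * t⁻¹) * t := by rw [hx]; group
        _ = _ := by rw [h2, hx]; group
    have htm : (m : G) * t = t * m := by
      have h1 : MulAut.conjNormal t m = m := e.injective (Subtype.ext (by rw [← hσm, hm]; simp))
      have h2 := congrArg Subtype.val h1
      rw [MulAut.conjNormal_apply] at h2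
      exact (mul_inv_eq_iff_eq_mul.1 h2).symm
    have hxt : x * t = t * x := (Commute.mul_left (Commute.inv_left htm) (Commute.refl t)).eq
    have hall : ∀ g : G, x * g = g * x := by
      intro g
      by_cases hg : g ∈ M
      · exact hcomm ⟨g, hg⟩
      · have hgt : g * t ∈ M := hmul.2 ⟨fun h => absurd h hg, fun h => absurd h htM⟩
        have h2 : Commute x (g * t) := hcomm ⟨_, hgt⟩
        have h3 := h2.mul_right (Commute.inv_right (show Commute x t from hxt))
        rw [mul_inv_cancel_right] at h3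
        exact h3.eq
    obtain ⟨w, hw⟩ := d.exists_emb hxt
    rcases central_eq w (fun k => d.emb_injective (by rw [map_mul, map_mul, hw, hall])) with rfl | rfl
    · rw [map_one] at hw; exact hxM (hw ▸ one_mem M)
    · refine hcen (eq_top_iff.2 fun g _ => mem_centralizer_singleton_iff.2 ?_)
      have h1 : x = t := hw.symm.trans d.emb_c
      have h2 := hall g
      rw [h1] at h2
      exact h2.symm
  -- the isomorphism
  let Φ : G → Perm (Fin 6) := fun g =>
    if h : g ∈ M then (e ⟨g, h⟩ : Perm (Fin 6))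
    else (e ⟨g * t, hmul.2 ⟨fun h' => absurd h' h, fun h' => absurd h' htM⟩⟩ : Perm (Fin 6)) * σ
  have hΦM : ∀ m : M, Φ m = e m := fun m => dif_pos m.2
  have hnotM : ∀ g : G, g ∉ M → ∃ m : M, g = (m : G) * t := fun g h =>
    ⟨⟨g * t, hmul.2 ⟨fun h' => absurd h' h, fun h' => absurd h' htM⟩⟩, by
      show g = g * t * t
      rw [mul_assoc, htt, mul_one]⟩
  have hmt : ∀ m : M, (m : G) * t ∉ M := fun m h => htM ((hmul.1 h).1 m.2)
  have hΦt : ∀ m : M, Φ ((m : G) * t) = e m * σ := fun m => by
    show dite _ _ _ = _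
    rw [dif_neg (hmt m)]
    congr 3
    exact Subtype.ext (by show (m : G) * t * t = m; rw [mul_assoc, htt, mul_one])
  have hΦmul : ∀ a b, Φ (a * b) = Φ a * Φ b := by
    intro a b
    by_cases ha : a ∈ M
    · obtain ⟨m, rfl⟩ : ∃ m : M, a = m := ⟨⟨a, ha⟩, rfl⟩
      by_cases hb : b ∈ M
      · obtain ⟨n, rfl⟩ : ∃ n : M, b = n := ⟨⟨b, hb⟩, rfl⟩
        rw [← Subgroup.coe_mul, hΦM, hΦM, hΦM, map_mul, Subgroup.coe_mul]
      · obtain ⟨n, rfl⟩ := hnotM b hb
        rw [← mul_assoc, ← Subgroup.coe_mul, hΦt, hΦt, hΦM, map_mul, Subgroup.coe_mul, mul_assoc]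
    · obtain ⟨m, rfl⟩ := hnotM a ha
      by_cases hb : b ∈ M
      · obtain ⟨n, rfl⟩ : ∃ n : M, b = n := ⟨⟨b, hb⟩, rfl⟩
        rw [show (m : G) * t * n = ((m * MulAut.conjNormal t n : M) : G) * t by
          rw [Subgroup.coe_mul, MulAut.conjNormal_apply]; group, hΦt, hΦt, hΦM, map_mul, Subgroup.coe_mul, ← hσm]
        group
      · obtain ⟨n, rfl⟩ := hnotM b hb
        rw [show (m : G) * t * (n * t) = ((m * MulAut.conjNormal t n : M) : G) by
          rw [Subgroup.coe_mul, MulAut.conjNormal_apply]
          calc (m : G) * t * (n * t) = m * (t * n * t⁻¹) * (t * t) := by group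
            _ = _ := by rw [htt, mul_one], hΦt, hΦt, hΦM, map_mul, Subgroup.coe_mul, ← hσm]
        calc (e m : Perm (Fin 6)) * (σ * (e n : Perm (Fin 6)) * σ⁻¹)
            = (e m : Perm (Fin 6)) * σ * (e n : Perm (Fin 6)) * σ * (σ * σ)⁻¹ := by group
          _ = _ := by rw [hσ2, inv_one, mul_one]; group
  let F : G →* Perm (Fin 6) := MonoidHom.mk' Φ hΦmul
  have hFi : Function.Injective F := (injective_iff_map_eq_one F).2 fun g hg => by
    by_cases h : g ∈ M
    · have h' : ((e ⟨g, h⟩ : alternatingGroup (Fin 6)) : Perm (Fin 6)) = 1 := (hΦM ⟨g, h⟩).symm.trans hg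
      exact congrArg Subtype.val (e.injective ((Subtype.ext h').trans e.map_one.symm))
    · obtain ⟨m, rfl⟩ := hnotM g h
      have h' := congrArg Perm.sign ((hΦt m).symm.trans hg)
      rw [map_mul, Perm.mem_alternatingGroup.1 (e m).2, hσodd, map_one] at h'
      exact absurd h' (by decide)
  refine ⟨MulEquiv.ofBijective F ((Nat.bijective_iff_injective_and_card F).2 ⟨hFi, ?_⟩)⟩
  have hA : Nat.card M = 360 := by
    rw [Nat.card_congr e.toEquiv, nat_card_alternatingGroup, Nat.card_fin]
    rfl
  rw [← M.card_mul_index, hMi, hA, Nat.card_perm, Nat.card_fin]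
  rfl

end Setup

end Cfsg.Lib.Recog.TwoSymFour
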