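import Cfsg.Agent.Lib.Recog.Icosahedral
import Cfsg.Agent.Lib.TwoGroup.MaximalClass
import Cfsg.Agent.Lib.ZStar.Basic
import Cfsg.Agent.Lib.OrderLeHundred
import Mathlib

/-!
# Perfect groups over `A₅` with an element whose centralizer has order four

If `G` is perfect, `G ⧸ K` has order `60` and `u ∉ K`, `u ^ 2 ∈ K` has centralizer of order `4`, then
`O(G)` is abelian and `G ⧸ O(G)` is `A₅` (with `u` an involution) or `SL(2, 5)` (with `u` of
order `4`).
-/

set_option autoImplicit false
set_option linter.style.haveILetI false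
set_option linter.unusedSectionVars false

namespace Cfsg.Lib.Recog.CentFour

open Cfsg Subgroup
open scoped commutatorElement

universe u v

/-- The alternating group of degree five. -/
abbrev A5 := alternatingGroup (Fin 5)

theorem a5_card_commuting : ∀ x : A5, x ^ 2 = 1 → x ≠ 1 →
    (Finset.univ.filter fun y => x * y = y * x).card = 4 := by
  decide +kernel

theorem a5_sq_commuting : ∀ x : A5, x ^ 2 = 1 → x ≠ 1 → ∀ y, x * y = y * x → y ^ 2 = 1 := by
  decide +kernel

theorem a5_exists_commuting : ∀ x : A5, x ^ 2 = 1 → x ≠ 1 →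
    ∃ y, y ^ 2 = 1 ∧ y ≠ 1 ∧ y ≠ x ∧ x * y = y * x := by
  decide +kernel

theorem a5_involution (x : A5) (h2 : x ^ 2 = 1) (h1 : x ≠ 1) :
    (Finset.univ.filter fun y => x * y = y * x).card = 4 ∧ (∀ y, x * y = y * x → y ^ 2 = 1) ∧
      ∃ y, y ^ 2 = 1 ∧ y ≠ 1 ∧ y ≠ x ∧ x * y = y * x :=
  ⟨a5_card_commuting x h2 h1, a5_sq_commuting x h2 h1, a5_exists_commuting x h2 h1⟩

theorem a5_conj : ∀ x y : A5, x ^ 2 = 1 → x ≠ 1 → y ^ 2 = 1 → y ≠ 1 → ∃ c, c * x * c⁻¹ = y := by
  decide +kernel

theorem a5_gens : ∃ a b : A5, a ^ 3 = 1 ∧ b ^ 5 = 1 ∧ (a * b) ^ 2 = 1 ∧ closure {a, b} = ⊤ := by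
  obtain ⟨e⟩ := Icosa.iso_presented_five
  have hrel : ∀ r ∈ Icosa.rels5, e (PresentedGroup.mk Icosa.rels5 r) = 1 := fun r hr => by
    rw [PresentedGroup.one_of_mem hr, map_one]
  refine ⟨e (PresentedGroup.of 0), e (PresentedGroup.of 1), ?_, ?_, ?_, ?_⟩
  · rw [← map_pow]; exact hrel _ (Or.inl rfl)
  · rw [← map_pow]; exact hrel _ (Or.inr (Or.inl rfl))
  · rw [← map_mul, ← map_pow]; exact hrel _ (Or.inr (Or.inr rfl))
  · rw [eq_top_iff, ← Subgroup.map_top_of_surjective e.toMonoidHom e.surjective,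
      ← PresentedGroup.closure_range_of, MonoidHom.map_closure, closure_le]
    rintro _ ⟨_, ⟨i, rfl⟩, rfl⟩
    fin_cases i
    · exact subset_closure (Or.inl rfl)
    · exact subset_closure (Or.inr rfl)

theorem sl_involution_central : ∀ x y : Icosa.SL25, x ^ 2 = 1 → x * y = y * x := by
  decide +kernel

/-- A `2`-group whose derived subgroup has index four has cyclic derived subgroup. -/
theorem isCyclic_commutator_of_index_four {T : Type u} [Group T] [Finite T] (hT : IsPGroup 2 T)
    (h4 : (commutator T).index = 4) : IsCyclic (commutator T) := by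
  haveI : Fact (Nat.Prime 2) := ⟨Nat.prime_two⟩
  obtain ⟨n, hn⟩ := IsPGroup.iff_card.1 hT
  by_cases h3 : 3 ≤ n
  · have hc := Cfsg.Lib.TwoGroup.MaximalClass.class_of_index_four n h3 T hn h4
    obtain ⟨a, b, ha, -⟩ := Cfsg.Lib.TwoGroup.MaximalClass.exists_generators_of_class h3 hn hc
    have hidx : (zpowers a).index = 2 := by
      have h := (zpowers a).card_mul_index
      rw [Nat.card_zpowers, ha, hn] at h
      refine Nat.eq_of_mul_eq_mul_left (pow_pos two_pos (n - 1)) (h.trans ?_)
      rw [← pow_succ]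
      congr 1
      omega
    haveI : (zpowers a).Normal := Subgroup.normal_of_index_eq_two hidx
    have hle : commutator T ≤ zpowers a := by
      have : IsCyclic (T ⧸ zpowers a) :=
        isCyclic_of_prime_card (p := 2) (by rw [← Subgroup.index_eq_card]; exact hidx)
      letI := this.commGroup
      have := Abelianization.commutator_subset_ker (QuotientGroup.mk' (zpowers a))
      rwa [QuotientGroup.ker_mk'] at this
    exact Subgroup.isCyclic_of_le hle
  · have h := (commutator T).card_mul_index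
    rw [h4, hn] at h
    have h' : 2 ^ n ≤ 4 := (Nat.pow_le_pow_right two_pos (show n ≤ 2 by omega)).trans (by norm_num)
    have h1 : Nat.card (commutator T) = 1 := by
      have := Nat.card_pos (α := commutator T)
      omega
    haveI := (Nat.card_eq_one_iff_unique.1 h1).1
    exact isCyclic_of_subsingleton

/-- Commutators square to one in a group whose squares and commutators are central. -/
theorem commutatorElement_sq {T : Type u} [Group T] (h2 : ∀ x : T, x ^ 2 ∈ center T)
    (hc : ∀ x y : T, ⁅x, y⁆ ∈ center T) (x y : T) : ⁅x, y⁆ ^ 2 = 1 := by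
  have h := Subgroup.mem_center_iff.1 (hc x y) x
  calc ⁅x, y⁆ ^ 2 = x * ⁅x, y⁆ * x⁻¹ * ⁅x, y⁆ := by
        rw [h, mul_inv_cancel_right, sq]
    _ = ⁅x ^ 2, y⁆ := by simp only [commutatorElement_def, sq]; group
    _ = 1 := commutatorElement_eq_one_iff_mul_comm.2 (Subgroup.mem_center_iff.1 (h2 x) y).symm

/-- A group is abelian if an element acts on it as a fixed-point-free involutive automorphism. -/
theorem inverts {G : Type u} [Group G] [Finite G] (M : Subgroup G) (y : G)
    (hn : ∀ m ∈ M, y * m * y⁻¹ ∈ M) (hy2 : ∀ m ∈ M, y ^ 2 * m = m * y ^ 2)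
    (hfix : ∀ m ∈ M, y * m = m * y → m = 1) :
    (∀ m ∈ M, y * m * y⁻¹ = m⁻¹) ∧ IsMulCommutative M := by
  let φ : M →* M :=
    { toFun := fun m => ⟨y * m * y⁻¹, hn m m.2⟩
      map_one' := Subtype.ext (by simp)
      map_mul' := fun a b => Subtype.ext (by simp [mul_assoc]) }
  have hff : MonoidHom.FixedPointFree φ := fun m hm => Subtype.ext (hfix m m.2 (by
    have h : y * (m : G) * y⁻¹ = m := congrArg Subtype.val hm
    exact mul_inv_eq_iff_eq_mul.1 h))
  have hinv : Function.Involutive φ := fun m => Subtype.ext (by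
    show y * (y * (m : G) * y⁻¹) * y⁻¹ = m
    rw [show y * (y * (m : G) * y⁻¹) * y⁻¹ = y ^ 2 * m * (y ^ 2)⁻¹ by rw [sq]; group, hy2 m m.2,
      mul_inv_cancel_right])
  have heq := hff.coe_eq_inv_of_involutive hinv
  exact ⟨fun m hm => congrArg Subtype.val (congrFun heq ⟨m, hm⟩),
    ⟨⟨fun a b => (hff.commute_all_of_involutive hinv a b).eq⟩⟩⟩

variable {G : Type u} [Group G] [Finite G]

/-- Every element which is an involution modulo `K` is conjugate to `u`. -/
theorem isConj_of_involution_mod {K : Subgroup G} [K.Normal] (e : G ⧸ K ≃* A5) {u : G} (hu : u ∉ K)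
    (hu2 : u ^ 2 ∈ K) (hc : Nat.card (centralizer ({u} : Set G)) = 4) {g : G} (hg : g ∉ K)
    (hg2 : g ^ 2 ∈ K) : IsConj u g := by
  classical
  set f : G →* A5 := e.toMonoidHom.comp (QuotientGroup.mk' K) with hf
  have hfs : Function.Surjective f := e.surjective.comp (QuotientGroup.mk'_surjective K)
  have hker : ∀ x, f x = 1 ↔ x ∈ K := fun x => by
    simp [hf]
  have hx2 : f u ^ 2 = 1 := by rw [← map_pow, hker]; exact hu2
  have hx1 : f u ≠ 1 := fun h => hu ((hker u).1 h)
  -- it is enough to treat the coset of `u`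
  obtain ⟨c, hcc⟩ := a5_conj (f u) (f g) hx2 hx1 (by rw [← map_pow, hker]; exact hg2)
    fun h => hg ((hker g).1 h)
  obtain ⟨c, rfl⟩ := hfs c
  suffices h : ∀ k ∈ K, IsConj u (u * k) by
    have hk : u⁻¹ * (c⁻¹ * g * c) ∈ K := by
      rw [← hker]
      simp only [map_mul, map_inv, ← hcc]
      group
    have h1 := h _ hk
    rw [mul_inv_cancel_left] at h1
    exact h1.trans (isConj_iff.2 ⟨c, by group⟩)
  set W : Subgroup G := (centralizer ({f u} : Set A5)).comap f with hW
  have hC4 : Nat.card (centralizer ({f u} : Set A5)) = 4 := by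
    rw [← (a5_involution _ hx2 hx1).1, ← Fintype.card_subtype, ← Nat.card_eq_fintype_card]
    exact Nat.card_congr (Equiv.subtypeEquivRight fun y => mem_centralizer_singleton_iff.trans eq_comm)
  have hCW : centralizer ({u} : Set G) ≤ W := fun x hx => by
    rw [hW, mem_comap, mem_centralizer_singleton_iff, ← map_mul, ← map_mul,
      mem_centralizer_singleton_iff.1 hx]
  have h60 : Nat.card A5 = 60 := by
    rw [nat_card_alternatingGroup, Nat.card_fin]; rfl
  have hG : Nat.card G = 60 * Nat.card K := by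
    rw [Subgroup.card_eq_card_quotient_mul_card_subgroup K, Nat.card_congr e.toEquiv, h60]
  have hWc : Nat.card W = 4 * Nat.card K := by
    have h1 := W.card_mul_index
    rw [show W.index = (centralizer ({f u} : Set A5)).index from index_comap_of_surjective _ hfs] at h1
    have h2 := (centralizer ({f u} : Set A5)).card_mul_index
    rw [hC4, h60] at h2
    have h3 : (centralizer ({f u} : Set A5)).index = 15 := by
      omega
    rw [h3, hG] at h1
    omega
  set C' : Subgroup W := (centralizer ({u} : Set G)).subgroupOf W with hC'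
  have hcos : Nat.card (W ⧸ C') = Nat.card K := by
    have h1 := C'.card_eq_card_quotient_mul_card_subgroup
    rw [Nat.card_congr (subgroupOfEquivOfLe hCW).toEquiv, hc, hWc] at h1
    omega
  have hmem : ∀ w : W, u⁻¹ * ((w : G) * u * (w : G)⁻¹) ∈ K := fun w => by
    have hw : f (w : G) * f u = f u * f (w : G) := mem_centralizer_singleton_iff.1 w.2
    rw [← hker]
    simp only [map_mul, map_inv]
    rw [hw, mul_inv_cancel_right, inv_mul_cancel]
  let F : W ⧸ C' → K := Quotient.lift (fun w : W => (⟨_, hmem w⟩ : K)) (by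
    intro a b hab
    have h' : a⁻¹ * b ∈ C' := QuotientGroup.leftRel_apply.1 hab
    have h : (a : G)⁻¹ * b ∈ centralizer ({u} : Set G) := h'
    rw [mem_centralizer_singleton_iff] at h
    refine Subtype.ext ?_
    show u⁻¹ * ((a : G) * u * (a : G)⁻¹) = u⁻¹ * ((b : G) * u * (b : G)⁻¹)
    rw [mul_right_inj]
    calc (a : G) * u * (a : G)⁻¹ = (a : G) * (u * ((a : G)⁻¹ * b)) * (b : G)⁻¹ := by group
      _ = (a : G) * (((a : G)⁻¹ * b) * u) * (b : G)⁻¹ := by rw [h]
      _ = (b : G) * u * (b : G)⁻¹ := by group)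
  have hF : Function.Injective F := by
    intro x y
    induction x using QuotientGroup.induction_on with | _ a => ?_
    induction y using QuotientGroup.induction_on with | _ b => ?_
    intro h
    have h' : u⁻¹ * ((a : G) * u * (a : G)⁻¹) = u⁻¹ * ((b : G) * u * (b : G)⁻¹) :=
      congrArg Subtype.val h
    rw [mul_right_inj] at h'
    refine QuotientGroup.eq.2 ?_
    show (a : G)⁻¹ * b ∈ centralizer ({u} : Set G)
    rw [mem_centralizer_singleton_iff]
    calc (a : G)⁻¹ * b * u = (a : G)⁻¹ * ((b : G) * u * (b : G)⁻¹) * b := by group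
      _ = u * ((a : G)⁻¹ * b) := by rw [← h']; group
  have hFs := ((Nat.bijective_iff_injective_and_card F).2 ⟨hF, hcos⟩).2
  intro k hk
  obtain ⟨x, hx⟩ := hFs ⟨k, hk⟩
  induction x using QuotientGroup.induction_on with | _ a => ?_
  have h' : u⁻¹ * ((a : G) * u * (a : G)⁻¹) = k := congrArg Subtype.val hx
  exact isConj_iff.2 ⟨a, by rw [← h', mul_inv_cancel_left]⟩

/-- The Sylow `2`-subgroups of `K` are cyclic, and lie in the derived subgroup of a `2`-group. -/
theorem exists_sylow_kernel {K : Subgroup G} [K.Normal] (e : G ⧸ K ≃* A5) {u : G} (hu : u ∉ K)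
    (hu2 : u ^ 2 ∈ K) (hc : Nat.card (centralizer ({u} : Set G)) = 4) :
    ∃ T : Subgroup G, IsPGroup 2 T ∧ IsCyclic ((K ⊓ T : Subgroup G).subgroupOf T) ∧
      (commutator T) = (K ⊓ T : Subgroup G).subgroupOf T ∧
      (∀ t : T, (t : G) ^ 2 ∈ K) ∧
      ¬ 2 ∣ ((K ⊓ T : Subgroup G).subgroupOf K).index := by
  classical
  haveI : Fact (Nat.Prime 2) := ⟨Nat.prime_two⟩
  set f : G →* A5 := e.toMonoidHom.comp (QuotientGroup.mk' K) with hf
  have hfs : Function.Surjective f := e.surjective.comp (QuotientGroup.mk'_surjective K)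
  have hker : ∀ x, f x = 1 ↔ x ∈ K := fun x => by
    simp [hf]
  have hx2 : f u ^ 2 = 1 := by rw [← map_pow, hker]; exact hu2
  have hx1 : f u ≠ 1 := fun h => hu ((hker u).1 h)
  set D := centralizer ({f u} : Set A5) with hD
  set W : Subgroup G := D.comap f with hW
  have hD4 : Nat.card D = 4 := by
    rw [← (a5_involution _ hx2 hx1).1, ← Fintype.card_subtype, ← Nat.card_eq_fintype_card]
    exact Nat.card_congr (Equiv.subtypeEquivRight fun y => mem_centralizer_singleton_iff.trans eq_comm)
  have hD2 : ∀ d ∈ D, d ^ 2 = 1 := fun d hd =>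
    (a5_involution _ hx2 hx1).2.1 d (mem_centralizer_singleton_iff.1 hd).symm
  have hCW : centralizer ({u} : Set G) ≤ W := fun x hx => by
    rw [hW, mem_comap, hD, mem_centralizer_singleton_iff, ← map_mul, ← map_mul,
      mem_centralizer_singleton_iff.1 hx]
  have hKW : K ≤ W := fun x hx => by
    rw [hW, mem_comap, (hker x).2 hx]
    exact one_mem D
  have hC2 : IsPGroup 2 ((centralizer ({u} : Set G)).subgroupOf W) :=
    IsPGroup.of_card (n := 2) (by rw [Nat.card_congr (subgroupOfEquivOfLe hCW).toEquiv, hc]; rfl)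
  obtain ⟨T', hT'⟩ := hC2.exists_le_sylow
  let g : W →* D := (f.comp W.subtype).codRestrict D fun w => w.2
  have hgs : Function.Surjective g := fun d => by
    obtain ⟨x, hx⟩ := hfs d
    exact ⟨⟨x, by rw [hW, mem_comap, hx]; exact d.2⟩, Subtype.ext hx⟩
  have hgT : (T' : Subgroup W).map g = ⊤ := by
    have h1 := (T'.mapSurjective hgs).card_eq_multiplicity
    rw [show ((T'.mapSurjective hgs : Sylow 2 D) : Subgroup D) = (T' : Subgroup W).map g from rfl, hD4] at h1
    refine eq_top_of_card_eq _ ?_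
    rw [h1, hD4, show (4 : ℕ) = 2 ^ 2 from rfl, Nat.Prime.factorization_pow Nat.prime_two,
      Finsupp.single_eq_same]
  set T : Subgroup G := (T' : Subgroup W).map W.subtype with hT
  have hTW : T ≤ W := map_subtype_le _
  have hCT : centralizer ({u} : Set G) ≤ T := fun x hx => ⟨⟨x, hCW hx⟩, hT' hx, rfl⟩
  have huT : u ∈ T := hCT (mem_centralizer_singleton_iff.2 rfl)
  have hTp : IsPGroup 2 T := T'.2.map W.subtype
  have hTD : ∀ t : T, f (t : G) ∈ D := fun t => hTW t.2
  let ft : T →* D := (f.comp T.subtype).codRestrict D hTD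
  have hfts : Function.Surjective ft := fun d => by
    obtain ⟨x, hx, hxd⟩ : d ∈ (T' : Subgroup W).map g := by rw [hgT]; exact mem_top d
    exact ⟨⟨(x : G), mem_map_of_mem _ hx⟩, Subtype.ext (congrArg Subtype.val hxd)⟩
  set P : Subgroup T := (K ⊓ T : Subgroup G).subgroupOf T with hP
  have hPmem : ∀ t : T, t ∈ P ↔ (t : G) ∈ K := fun t => by
    simp [hP, mem_subgroupOf]
  have hkerft : ft.ker = P := by
    ext t
    rw [MonoidHom.mem_ker, hPmem, ← hker]
    exact Subtype.ext_iff
  have hTc : Nat.card T = 4 * Nat.card P := by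
    have h1 := ft.ker.card_eq_card_quotient_mul_card_subgroup
    rw [Nat.card_congr (QuotientGroup.quotientKerEquivOfSurjective ft hfts).toEquiv, hD4, hkerft] at h1
    exact h1
  have hcomm : commutator T ≤ P := by
    letI : CommGroup D :=
      { (inferInstance : Group D) with
        mul_comm := fun a b => by
          have h := fun c : D => (Subtype.ext (hD2 c c.2) : c ^ 2 = 1)
          have hi := fun c : D => (inv_eq_of_mul_eq_one_left (by rw [← sq, h c]) : c⁻¹ = c)
          calc a * b = (a * b)⁻¹ := (hi _).symm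
            _ = b * a := by rw [mul_inv_rev, hi, hi] }
    rw [← hkerft]
    exact Abelianization.commutator_subset_ker ft
  -- the conjugates of `u` in `T` fill its coset of `P`
  set u' : T := ⟨u, huT⟩ with hu'
  have hCu : Nat.card (centralizer ({u'} : Set T)) = 4 := by
    refine Eq.trans (Nat.card_congr ?_) hc
    exact
      { toFun := fun x => ⟨((x : T) : G), mem_centralizer_singleton_iff.2
          (congrArg Subtype.val (mem_centralizer_singleton_iff.1 x.2))⟩
        invFun := fun x => ⟨⟨x, hCT x.2⟩, mem_centralizer_singleton_iff.2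
          (Subtype.ext (mem_centralizer_singleton_iff.1 x.2))⟩
        left_inv := fun _ => rfl
        right_inv := fun _ => rfl }
  have hmem : ∀ t : T, ⁅u'⁻¹, t⁆ ∈ commutator T := fun t =>
    commutator_mem_commutator (mem_top _) (mem_top _)
  let F : T ⧸ centralizer ({u'} : Set T) → commutator T :=
    Quotient.lift (fun t : T => (⟨_, hmem t⟩ : commutator T)) (by
      intro a b hab
      have h := mem_centralizer_singleton_iff.1 (QuotientGroup.leftRel_apply.1 hab)
      refine Subtype.ext ?_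
      show ⁅u'⁻¹, a⁆ = ⁅u'⁻¹, b⁆
      simp only [commutatorElement_def, inv_inv, mul_assoc, mul_right_inj]
      calc a * (u' * a⁻¹) = a * (u' * (a⁻¹ * b)) * b⁻¹ := by group
        _ = a * (a⁻¹ * b * u') * b⁻¹ := by rw [h]
        _ = b * (u' * b⁻¹) := by group)
  have hF : Function.Injective F := by
    intro x y
    induction x using QuotientGroup.induction_on with | _ a => ?_
    induction y using QuotientGroup.induction_on with | _ b => ?_
    intro h
    have h' : ⁅u'⁻¹, a⁆ = ⁅u'⁻¹, b⁆ := congrArg Subtype.val h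
    simp only [commutatorElement_def, inv_inv, mul_assoc, mul_right_inj] at h'
    refine QuotientGroup.eq.2 (mem_centralizer_singleton_iff.2 ?_)
    calc a⁻¹ * b * u' = a⁻¹ * (b * (u' * b⁻¹)) * b := by group
      _ = u' * (a⁻¹ * b) := by rw [← h']; group
  have hPc : Nat.card P ≤ Nat.card (commutator T) := by
    refine le_trans (le_of_eq ?_) (Nat.card_le_card_of_injective F hF)
    have h1 := (centralizer ({u'} : Set T)).card_eq_card_quotient_mul_card_subgroup
    rw [hCu, hTc] at h1
    omega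
  have heq : commutator T = P := eq_of_le_of_card_ge hcomm hPc
  refine ⟨T, hTp, ?_, heq, fun t => ?_, ?_⟩
  · rw [← hP, ← heq]
    refine isCyclic_commutator_of_index_four hTp ?_
    have h1 := P.card_mul_index
    rw [hTc] at h1
    rw [heq]
    exact Nat.eq_of_mul_eq_mul_left (Nat.card_pos (α := P)) (by rw [h1, mul_comm])
  · rw [← hker, map_pow]
    exact hD2 _ (hTD t)
  · intro h2
    have hKc : Nat.card ((K ⊓ T : Subgroup G).subgroupOf K) = Nat.card P := by
      rw [hP, Nat.card_congr (subgroupOfEquivOfLe inf_le_left).toEquiv,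
        Nat.card_congr (subgroupOfEquivOfLe inf_le_right).toEquiv]
    have h3 : T'.1.index = (((K ⊓ T : Subgroup G)).subgroupOf K).index := by
      have hTc' : Nat.card T' = 4 * Nat.card P := by
        rw [← hTc]
        exact (Subgroup.card_map_of_injective W.subtype_injective).symm
      have hWc : Nat.card W = 4 * Nat.card K := by
        rw [Subgroup.card_eq_card_quotient_mul_card_subgroup g.ker,
          Nat.card_congr (QuotientGroup.quotientKerEquivOfSurjective g hgs).toEquiv, hD4]
        congr 1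
        have : g.ker = K.subgroupOf W := by
          ext w
          rw [MonoidHom.mem_ker, mem_subgroupOf, ← hker]
          exact Subtype.ext_iff
        rw [this, Nat.card_congr (subgroupOfEquivOfLe hKW).toEquiv]
      have h4 := T'.1.card_mul_index
      have h5 := ((K ⊓ T : Subgroup G).subgroupOf K).card_mul_index
      rw [hTc', hWc, ← h5, hKc, mul_assoc] at h4
      exact Nat.eq_of_mul_eq_mul_left (Nat.card_pos (α := P)) (Nat.eq_of_mul_eq_mul_left (by norm_num) h4)
    exact T'.not_dvd_index (h3 ▸ h2)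

/-- The structure theorem. -/
theorem structure_of_card_centralizer_four (hperf : commutator G = ⊤) (K : Subgroup G) [K.Normal]
    (hK : Nat.card (G ⧸ K) = 60) (u : G) (hu : u ∉ K) (hu2 : u ^ 2 ∈ K)
    (hc : Nat.card (centralizer ({u} : Set G)) = 4) :
    IsMulCommutative ↥(oddCore G) ∧
      ((Nonempty (G ⧸ oddCore G ≃* A5) ∧ orderOf u = 2) ∨
        (Nonempty (G ⧸ oddCore G ≃* Icosa.SL25) ∧ orderOf u = 4)) := by
  classical
  haveI : Fact (Nat.Prime 2) := ⟨Nat.prime_two⟩
  have hperfQ : ∀ (N : Subgroup G) [N.Normal], commutator (G ⧸ N) = ⊤ := fun N _ => by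
    have h := congrArg (Subgroup.map (QuotientGroup.mk' N)) hperf
    rw [_root_.commutator_def, map_commutator,
      map_top_of_surjective _ (QuotientGroup.mk'_surjective N)] at h
    rw [_root_.commutator_def]; exact h
  haveI : Nontrivial (G ⧸ K) := Finite.one_lt_card_iff_nontrivial.1 (by omega)
  have hns : ¬ Group.IsSolvable (G ⧸ K) := fun hs => by
    have := hs
    exact (Group.IsSolvable.commutator_lt_top_of_nontrivial (G ⧸ K)).ne (hperfQ K)
  haveI := Icosa.simple_of_sixty hK hns
  obtain ⟨e⟩ := Cfsg.Lib.OrderLeHundred.iso_alternating_five hK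
  set π := QuotientGroup.mk' K with hπ
  have hπk : ∀ x, π x = 1 ↔ x ∈ K := fun x => QuotientGroup.eq_one_iff x
  have hconj : ∀ g, g ∉ K → g ^ 2 ∈ K → IsConj u g := fun g h1 h2 =>
    isConj_of_involution_mod e hu hu2 hc h1 h2
  obtain ⟨T, hT, hPcyc, hcomT, hsqT, hodd⟩ := exists_sylow_kernel e hu hu2 hc
  set O := oddCore G with hO
  set P : Subgroup G := K ⊓ T with hP
  -- a normal `2`-complement of `K`
  have hPK : IsPGroup 2 (P.subgroupOf K) :=
    (hT.to_le (inf_le_right : P ≤ T)).of_equiv (subgroupOfEquivOfLe (inf_le_left : P ≤ K)).symm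
  let S : Sylow 2 K := hPK.toSylow hodd
  have hScyc : IsCyclic (S : Subgroup K) :=
    (((subgroupOfEquivOfLe (inf_le_left : P ≤ K)).trans
      (subgroupOfEquivOfLe (inf_le_right : P ≤ T)).symm).isCyclic).2 hPcyc
  have hNle : Subgroup.normalizer ((S : Subgroup K) : Set K) ≤ centralizer ((S : Subgroup K) : Set K) := by
    by_cases h2 : 2 ∣ Nat.card K
    · haveI := hScyc
      exact IsCyclic.normalizer_le_centralizer ((Nat.minFac_eq_two_iff _).2 h2) hScyc
    · have h1 : (S : Subgroup K) = ⊥ := by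
        rw [← card_eq_one, S.card_eq_multiplicity, Nat.factorization_eq_zero_of_not_dvd h2, pow_zero]
      intro x _
      rw [mem_centralizer_iff]
      intro y hy
      rw [h1, SetLike.mem_coe, mem_bot] at hy
      rw [hy, one_mul, mul_one]
  have hcompl := MonoidHom.ker_transferSylow_isComplement' S hNle
  set N : Subgroup K := (MonoidHom.transferSylow S hNle).ker with hN
  have hNodd : Odd (Nat.card N) := by
    rw [Nat.odd_iff, ← Nat.two_dvd_ne_zero, ← hcompl.index_eq_card]
    exact S.not_dvd_index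
  have hNiff : ∀ k : K, k ∈ N ↔ Odd (orderOf k) := fun k => by
    refine ⟨fun h => hNodd.of_dvd_nat (orderOf_dvd_natCard _ h), fun h => ?_⟩
    rw [hN, MonoidHom.mem_ker]
    set v := MonoidHom.transferSylow S hNle k with hv
    obtain ⟨n, hn⟩ := IsPGroup.iff_orderOf.1 S.2 v
    have hd : orderOf v ∣ orderOf k := orderOf_map_dvd _ k
    rw [hn] at hd
    have : n = 0 := by
      by_contra hn0
      exact Nat.not_even_iff_odd.2 h (even_iff_two_dvd.2 ((dvd_pow_self 2 hn0).trans hd))
    rw [this, pow_zero] at hn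
    exact orderOf_eq_one_iff.1 hn
  have hOK : O ≤ K := by
    have hnorm : (O.map π).Normal := (inferInstance : O.Normal).map _ (QuotientGroup.mk'_surjective K)
    rcases hnorm.eq_bot_or_eq_top with h | h
    · intro x hx
      exact (hπk x).1 (by simpa [h] using mem_map_of_mem π hx)
    · exfalso
      have h1 : Nat.card (O.map π) ∣ Nat.card O := card_map_dvd _ _
      rw [h, card_top, hK] at h1
      exact Nat.not_even_iff_odd.2 (Cfsg.Lib.ZStar.odd_card_oddCore (G := G))
        (even_iff_two_dvd.2 (((by norm_num : 2 ∣ 60)).trans h1))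
  have hOmem : ∀ x, x ∈ O ↔ x ∈ K ∧ Odd (orderOf x) := fun x => by
    refine ⟨fun h => ⟨hOK h, Cfsg.Lib.ZStar.odd_orderOf_oddCore h⟩, fun ⟨hx, ho⟩ => ?_⟩
    have hnorm : (N.map K.subtype).Normal := ⟨by
      rintro _ ⟨n, hn, rfl⟩ g
      refine ⟨⟨g * n * g⁻¹, (inferInstance : K.Normal).conj_mem _ n.2 g⟩, (hNiff _).2 ?_, rfl⟩
      rw [← orderOf_injective K.subtype K.subtype_injective]
      show Odd (orderOf (g * (n : G) * g⁻¹))
      rw [show g * (n : G) * g⁻¹ = MulAut.conj g n from rfl, MulEquiv.orderOf_eq, Subgroup.orderOf_coe]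
      exact (hNiff n).1 hn⟩
    refine Cfsg.Lib.ZStar.le_oddCore hnorm (by rwa [card_map_of_injective K.subtype_injective]) ?_
    exact ⟨⟨x, hx⟩, (hNiff _).2 (by rwa [← Subgroup.orderOf_coe]), rfl⟩
  have hON : O.subgroupOf K = N := by
    ext k
    rw [mem_subgroupOf, hOmem, hNiff, Subgroup.orderOf_coe]
    exact and_iff_right k.2
  set ρ := QuotientGroup.mk' O with hρ
  set Z := K.map ρ with hZ
  have hinj : ∀ t ∈ T, ρ t = 1 → t = 1 := fun t ht h => by
    have h1 := ((hOmem t).1 ((QuotientGroup.eq_one_iff t).1 h)).2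
    obtain ⟨n, hn⟩ := IsPGroup.iff_orderOf.1 hT (⟨t, ht⟩ : T)
    rw [Subgroup.orderOf_mk] at hn
    rcases Nat.eq_zero_or_pos n with h0 | h0
    · rw [h0, pow_zero] at hn; exact orderOf_eq_one_iff.1 hn
    · exact absurd (even_iff_two_dvd.2 (hn ▸ dvd_pow_self 2 h0.ne')) (Nat.not_even_iff_odd.2 h1)
  have hcardZ : Nat.card Z = Nat.card P := by
    have h1 : Nat.card Z * Nat.card O = Nat.card K := by
      have e1 := (O.subgroupOf K).card_eq_card_quotient_mul_card_subgroup
      rw [Nat.card_congr (subgroupOfEquivOfLe hOK).toEquiv] at e1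
      have e2 : Nat.card (K ⧸ O.subgroupOf K) = Nat.card Z := by
        rw [← index_eq_card, hZ, ← relIndex_ker, hρ, QuotientGroup.ker_mk', relIndex]
      rw [e1, e2]
    have h2 : Nat.card N = Nat.card O := by
      rw [← hON, Nat.card_congr (subgroupOfEquivOfLe hOK).toEquiv]
    have h3 := hcompl.card_mul
    rw [h2, show Nat.card (S : Subgroup K) = Nat.card P from
      Nat.card_congr (subgroupOfEquivOfLe (inf_le_left : P ≤ K)).toEquiv, mul_comm, ← h1] at h3
    exact (Nat.eq_of_mul_eq_mul_right Nat.card_pos h3).symm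
  have hZP : Z = P.map ρ := by
    symm
    refine eq_of_le_of_card_ge (map_mono inf_le_left) (le_of_eq ?_)
    rw [hcardZ]
    refine Nat.card_congr (Equiv.ofBijective (fun x : P => (⟨ρ x, mem_map_of_mem ρ x.2⟩ : P.map ρ))
      ⟨fun a b hab => ?_, fun y => ?_⟩)
    · have h : ρ (a : G) = ρ (b : G) := congrArg Subtype.val hab
      have h' := hinj ((a : G)⁻¹ * b) (mul_mem (inv_mem a.2.2) b.2.2) (by rw [map_mul, map_inv, h, inv_mul_cancel])
      exact Subtype.ext (inv_mul_eq_one.1 h')
    · obtain ⟨x, hx, hxy⟩ := y.2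
      exact ⟨⟨x, hx⟩, Subtype.ext hxy⟩
  haveI : Z.Normal := (inferInstance : K.Normal).map _ (QuotientGroup.mk'_surjective O)
  have hPc' : IsCyclic P :=
    ((subgroupOfEquivOfLe (inf_le_right : P ≤ T)).isCyclic).1 hPcyc
  have hZcyc : IsCyclic Z := by
    haveI := hPc'
    rw [hZP]
    exact isCyclic_of_surjective (ρ.subgroupMap P) (ρ.subgroupMap_surjective P)
  have hZc : Z ≤ center (G ⧸ O) := by
    haveI := hZcyc
    letI : CommGroup (MulAut Z) :=
      { (inferInstance : Group (MulAut Z)) with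
        mul_comm := fun a b => (IsCyclic.mulAutMulEquiv Z).injective (by rw [map_mul, map_mul, mul_comm]) }
    intro z hz
    rw [mem_center_iff]
    intro g
    have hk : g ∈ (MulAut.conjNormal (H := Z)).ker :=
      Abelianization.commutator_subset_ker _ (by rw [hperfQ O]; exact mem_top g)
    have h : g * z * g⁻¹ = z := by
      have h1 := congrArg (fun φ : MulAut Z => ((φ ⟨z, hz⟩ : Z) : G ⧸ O)) (MonoidHom.mem_ker.1 hk)
      simpa [MulAut.conjNormal_apply] using h1
    exact mul_inv_eq_iff_eq_mul.1 h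
  -- `Z` has order at most two
  have hZ2 : Nat.card Z ≤ 2 := by
    have hcen : ∀ t : T, (t : G) ∈ K → t ∈ center T := fun t ht => by
      rw [mem_center_iff]
      intro x
      have h := mem_center_iff.1 (hZc (mem_map_of_mem ρ ht)) (ρ (x : G))
      have h' : ((x : G) * t) * ((t : G) * x)⁻¹ = 1 := by
        refine hinj _ (mul_mem (mul_mem x.2 t.2) (inv_mem (mul_mem t.2 x.2))) ?_
        rw [map_mul, map_inv, map_mul, map_mul, h, mul_inv_cancel]
      exact Subtype.ext (mul_inv_eq_one.1 h')
    have hsq : ∀ x ∈ commutator T, x ^ 2 = 1 := by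
      have hcomc : commutator T ≤ center T := fun x hx =>
        hcen x (by rw [hcomT, mem_subgroupOf] at hx; exact hx.1)
      intro x hx
      rw [_root_.commutator_def, Subgroup.commutator_def] at hx
      have hd : ∀ a b : T, a ∈ center T → a ^ 2 = 1 → b ^ 2 = 1 → (a * b) ^ 2 = 1 := fun a b ha h1 h2 => by
        rw [(show Commute a b from (mem_center_iff.1 ha b).symm).mul_pow, h1, h2, one_mul]
      suffices h : x ∈ center T ∧ x ^ 2 = 1 from h.2
      induction hx using Subgroup.closure_induction with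
      | mem z hz =>
        obtain ⟨a, -, b, -, rfl⟩ := hz
        have hab : ∀ a b : T, ⁅a, b⁆ ∈ center T := fun a b =>
          hcomc (commutator_mem_commutator (mem_top a) (mem_top b))
        exact ⟨hab a b, commutatorElement_sq (fun y => hcen _ (by simpa using hsqT y)) hab a b⟩
      | one => exact ⟨one_mem _, one_pow 2⟩
      | mul a b _ _ iha ihb => exact ⟨mul_mem iha.1 ihb.1, hd a b iha.1 iha.2 ihb.2⟩
      | inv a _ iha => exact ⟨inv_mem iha.1, by rw [inv_pow, iha.2, inv_one]⟩
    haveI := hPcyc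
    obtain ⟨g, hg⟩ := IsCyclic.exists_generator (α := P.subgroupOf T)
    rw [hcardZ, ← Nat.card_congr (subgroupOfEquivOfLe (inf_le_right : P ≤ T)).toEquiv,
      ← orderOf_eq_card_of_forall_mem_zpowers hg]
    refine Nat.le_of_dvd two_pos (orderOf_dvd_of_pow_eq_one (Subtype.ext ?_))
    exact hsq _ (by rw [hcomT]; exact g.2)
  -- the quotient by `K` through the quotient by `O`
  let τ : G ⧸ O →* G ⧸ K := QuotientGroup.map O K (MonoidHom.id G) hOK
  have hτ : ∀ x, τ (ρ x) = π x := fun x => rfl
  have hτs : Function.Surjective τ := fun y => by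
    obtain ⟨x, rfl⟩ := QuotientGroup.mk'_surjective K y
    exact ⟨ρ x, hτ x⟩
  have hτk : τ.ker = Z := by
    ext y
    obtain ⟨x, rfl⟩ := QuotientGroup.mk'_surjective O y
    rw [MonoidHom.mem_ker, hτ, hπk]
    refine ⟨fun h => mem_map_of_mem ρ h, fun ⟨k, hk, hkx⟩ => ?_⟩
    have : k⁻¹ * x ∈ O := (QuotientGroup.eq).1 hkx
    have := mul_mem hk (hOK this)
    rwa [mul_inv_cancel_left] at this
  have hGO : Nat.card (G ⧸ O) = 60 * Nat.card Z := by
    rw [Subgroup.card_eq_card_quotient_mul_card_subgroup τ.ker,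
      Nat.card_congr (QuotientGroup.quotientKerEquivOfSurjective τ hτs).toEquiv, hK, hτk]
  have hOC : ∀ y : G, y ∉ K → y ^ 2 ∈ K → ∀ m ∈ O, y * m = m * y → m = 1 := by
    intro y hy1 hy2 m hm hcm
    obtain ⟨c, rfl⟩ := isConj_iff.1 (hconj y hy1 hy2)
    have hm' : c⁻¹ * m * c ∈ centralizer ({u} : Set G) := by
      rw [mem_centralizer_singleton_iff]
      calc c⁻¹ * m * c * u = c⁻¹ * (m * (c * u * c⁻¹)) * c := by group
        _ = c⁻¹ * (c * u * c⁻¹ * m) * c := by rw [hcm]
        _ = u * (c⁻¹ * m * c) := by group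
    have hd : orderOf m ∣ 4 := by
      rw [← hc, show orderOf m = orderOf (MulAut.conj c⁻¹ m) from (MulEquiv.orderOf_eq _ m).symm]
      refine orderOf_dvd_natCard _ ?_
      simpa [MulAut.conj_apply] using hm'
    have ho := Cfsg.Lib.ZStar.odd_orderOf_oddCore hm
    have : orderOf m = 1 := Nat.eq_one_of_dvd_coprimes
      (a := 4) (b := orderOf m) (Nat.Coprime.pow_left 2 ((Nat.coprime_two_left).2 ho) : Nat.Coprime (2 ^ 2) (orderOf m)) hd dvd_rfl
    exact orderOf_eq_one_iff.1 this
  have hu4 : u ^ 4 = 1 := by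
    have h := orderOf_dvd_natCard (centralizer ({u} : Set G)) (mem_centralizer_singleton_iff.2 (rfl : u * u = u * u))
    rw [hc] at h
    exact orderOf_dvd_iff_pow_eq_one.1 h
  rcases Nat.lt_or_ge (Nat.card Z) 2 with hz | hz
  · -- `G ⧸ O ≅ A₅`
    have hz1 : Nat.card Z = 1 := by have := Nat.card_pos (α := Z); omega
    have hKO : K ≤ O := fun x hx => by
      have := mem_map_of_mem ρ hx
      rw [← hZ, card_eq_one.1 hz1, mem_bot] at this
      exact (QuotientGroup.eq_one_iff x).1 this
    have hu21 : u ^ 2 = 1 := by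
      have h1 := hKO hu2
      have h2 := Cfsg.Lib.ZStar.odd_orderOf_oddCore h1
      have h3 : orderOf (u ^ 2) ∣ 2 := orderOf_dvd_of_pow_eq_one (by rw [← pow_mul]; exact hu4)
      rcases (Nat.dvd_prime Nat.prime_two).1 h3 with h | h
      · exact orderOf_eq_one_iff.1 h
      · rw [h] at h2; exact absurd h2 (by decide)
    refine ⟨(inverts O u (fun m hm => (inferInstance : O.Normal).conj_mem m hm u)
      (fun m _ => by rw [hu21, one_mul, mul_one]) (hOC u hu hu2)).2, Or.inl ⟨?_, ?_⟩⟩
    · exact ⟨(QuotientGroup.quotientMulEquivOfEq (le_antisymm hOK hKO)).trans e⟩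
    · exact orderOf_eq_prime hu21 fun h => hu (h ▸ one_mem K)
  · -- `G ⧸ O ≅ SL(2, 5)`
    have hz2 : Nat.card Z = 2 := le_antisymm hZ2 hz
    have hzsq : ∀ z ∈ Z, z ^ 2 = 1 := fun z hz => by
      have := orderOf_dvd_natCard Z hz
      rw [hz2] at this
      exact orderOf_dvd_iff_pow_eq_one.1 this
    obtain ⟨a₁, b₁, ha₁, hb₁, hab₁, hgen₁⟩ := a5_gens
    set σ : G ⧸ O →* A5 := e.toMonoidHom.comp τ with hσ
    have hσs : Function.Surjective σ := e.surjective.comp hτs
    have hσk : σ.ker = Z := by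
      rw [← hτk]
      ext y
      simp [hσ]
    obtain ⟨a₀, ha₀⟩ := hσs a₁
    obtain ⟨b₀, hb₀⟩ := hσs b₁
    have hmemZ : ∀ y, σ y = 1 → y ∈ Z := fun y h => hσk ▸ MonoidHom.mem_ker.2 h
    set a := a₀ ^ 4 with ha
    set b := b₀ ^ 6 with hb
    have hσa : σ a = a₁ := by rw [ha, map_pow, ha₀, pow_succ a₁ 3, ha₁, one_mul]
    have hσb : σ b = b₁ := by rw [hb, map_pow, hb₀, pow_succ b₁ 5, hb₁, one_mul]
    have ha3 : a ^ 3 = 1 := by
      rw [ha, ← pow_mul, show 4 * 3 = 3 * 2 * 2 by norm_num, pow_mul, pow_mul,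
        hzsq (a₀ ^ 3) (hmemZ _ (by rw [map_pow, ha₀, ha₁])), one_pow]
    have hb5 : b ^ 5 = 1 := by
      rw [hb, ← pow_mul, show 6 * 5 = 5 * 2 * 3 by norm_num, pow_mul, pow_mul,
        hzsq _ (hmemZ _ (by rw [map_pow, hb₀, hb₁])), one_pow]
    have hz' : (a * b) ^ 2 ∈ Z := hmemZ _ (by rw [map_pow, map_mul, hσa, hσb, hab₁])
    set z := (a * b) ^ 2 with hzdef
    have hzc := mem_center_iff.1 (hZc hz')
    set L : Subgroup (G ⧸ O) := closure {a, b, z} with hL
    have hLtop : L = ⊤ := by
      have h1 : L.map σ = ⊤ := by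
        rw [eq_top_iff, ← hgen₁, closure_le]
        rintro _ (rfl | rfl)
        · exact ⟨a, subset_closure (Or.inl rfl), hσa⟩
        · exact ⟨b, subset_closure (Or.inr (Or.inl rfl)), hσb⟩
      have h2 : L ⊔ Z = ⊤ := by
        rw [← hσk, ← comap_map_eq, h1, comap_top]
      have h3 : commutator (G ⧸ O) ≤ L := by
        haveI hLn : L.Normal := ⟨fun n hn g => by
          obtain ⟨l, hl, z₁, hz₁, rfl⟩ := mem_sup_of_normal_right.1 (show g ∈ L ⊔ Z from h2 ▸ mem_top g)
          have hh : l * z₁ * n * (l * z₁)⁻¹ = l * n * l⁻¹ := by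
            calc l * z₁ * n * (l * z₁)⁻¹ = l * (z₁ * n) * z₁⁻¹ * l⁻¹ := by group
              _ = l * (n * z₁) * z₁⁻¹ * l⁻¹ := by rw [mem_center_iff.1 (hZc hz₁) n]
              _ = l * n * l⁻¹ := by group
          rw [hh]
          exact mul_mem (mul_mem hl hn) (inv_mem hl)⟩
        have hqc : ∀ x y : (G ⧸ O) ⧸ L, x * y = y * x := by
          intro x y
          obtain ⟨x, rfl⟩ := QuotientGroup.mk'_surjective L x
          obtain ⟨y, rfl⟩ := QuotientGroup.mk'_surjective L y
          obtain ⟨l, hl, z₁, hz₁, rfl⟩ := mem_sup_of_normal_right.1 (show x ∈ L ⊔ Z from h2 ▸ mem_top x)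
          rw [map_mul, show QuotientGroup.mk' L l = 1 from (QuotientGroup.eq_one_iff l).2 hl, one_mul,
            ← map_mul, ← map_mul, mem_center_iff.1 (hZc hz₁) y]
        letI : CommGroup ((G ⧸ O) ⧸ L) := { (inferInstance : Group ((G ⧸ O) ⧸ L)) with mul_comm := hqc }
        have := Abelianization.commutator_subset_ker (QuotientGroup.mk' L)
        rwa [QuotientGroup.ker_mk'] at this
      rw [hperfQ O] at h3
      exact top_le_iff.1 h3
    have hrels := Icosa.lift_rels120 ![a, b, z] (by simpa using ha3) (by simpa using hb5)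
      (by simpa using hzsq z hz') (by simpa using (hzc a).symm) (by simpa using (hzc b).symm)
      (by simp [hzdef])
    let Φ := PresentedGroup.toGroup hrels
    have hΦs : Function.Surjective Φ := by
      rw [← MonoidHom.range_eq_top, eq_top_iff, ← hLtop, hL, closure_le]
      rintro _ (rfl | rfl | rfl)
      · exact ⟨PresentedGroup.of 0, by simp [Φ]⟩
      · exact ⟨PresentedGroup.of 1, by simp [Φ]⟩
      · exact ⟨PresentedGroup.of 2, by simp [Φ]⟩
    obtain ⟨hfin, hle⟩ := Icosa.finite_presented_120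
    haveI := hfin
    have hcard120 : Nat.card (G ⧸ O) = 120 := by rw [hGO, hz2]
    have hΦb : Function.Bijective Φ := (Nat.bijective_iff_surjective_and_card _).2 ⟨hΦs, by
      have := Nat.card_le_card_of_surjective Φ hΦs
      omega⟩
    obtain ⟨e₂⟩ := Icosa.iso_presented_120
    let E : G ⧸ O ≃* Icosa.SL25 := (MulEquiv.ofBijective Φ hΦb).symm.trans e₂
    have hu21 : u ^ 2 ≠ 1 := by
      intro h
      have hcu : ∀ y, ρ u * y = y * ρ u := fun y => E.injective (by
        rw [map_mul, map_mul]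
        exact sl_involution_central _ _ (by rw [← map_pow, ← map_pow, h, map_one, map_one]))
      have h2 : ∀ y : A5, e (π u) * y = y * e (π u) := fun y => by
        obtain ⟨y, rfl⟩ := hσs y
        have := congrArg σ (hcu y)
        simpa [hσ, hτ] using this
      have hx1 : e (π u) ≠ 1 := fun h' => hu ((hπk u).1 (by simpa using h'))
      have hx2 : e (π u) ^ 2 = 1 := by rw [← map_pow, ← map_pow, h, map_one, map_one]
      have := (a5_involution _ hx2 hx1).1
      rw [Finset.filter_true_of_mem fun y _ => h2 y, Finset.card_univ, ← Nat.card_eq_fintype_card,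
        nat_card_alternatingGroup, Nat.card_fin] at this
      norm_num [Nat.factorial] at this
    have ho4 : orderOf u = 4 := by
      have : Fact (Nat.Prime 2) := ⟨Nat.prime_two⟩
      exact orderOf_eq_prime_pow (p := 2) (n := 1) (by simpa using hu21) (by simpa using hu4)
    refine ⟨?_, Or.inr ⟨⟨E⟩, ho4⟩⟩
    -- `u ^ 2` inverts `O`
    set t := u ^ 2 with ht
    have ht2 : t ^ 2 = 1 := by rw [ht, ← pow_mul]; exact hu4
    have htZ : ρ t ∈ Z := mem_map_of_mem ρ hu2
    have htc : ∀ g : G, ∃ c ∈ O, c * g * t = t * (c * g) := by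
      intro g
      have hdiff : t * (g * t * g⁻¹) ∈ O := by
        refine (QuotientGroup.eq_one_iff _).1 ?_
        show ρ (t * (g * t * g⁻¹)) = 1
        rw [map_mul, map_mul, map_mul, map_inv, mem_center_iff.1 (hZc htZ) (ρ g), mul_inv_cancel_right,
          ← map_mul, ← sq, ht2, map_one]
      set o := t * (g * t * g⁻¹) with ho
      have hs : g * t * g⁻¹ = t * o := by rw [ho, ← mul_assoc, ← sq, ht2, one_mul]
      have hinv : t * o * t⁻¹ = o⁻¹ := by
        have h1 : (t * o) * (t * o) = 1 := by rw [← hs, ← sq, conj_pow, ht2, mul_one, mul_inv_cancel]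
        have h2 : t⁻¹ = t := inv_eq_of_mul_eq_one_left (by rw [← sq, ht2])
        rw [h2]
        exact eq_inv_of_mul_eq_one_left (by rw [mul_assoc (t * o)]; exact h1)
      obtain ⟨k, hk⟩ : ∃ k, orderOf o = 2 * k + 1 := Cfsg.Lib.ZStar.odd_orderOf_oddCore hdiff
      refine ⟨(o ^ k)⁻¹, inv_mem (pow_mem hdiff k), ?_⟩
      have hconjk : t * (o ^ k)⁻¹ * t⁻¹ = o ^ k := by
        rw [← MulAut.conj_apply, map_inv, map_pow, MulAut.conj_apply, hinv, inv_pow, inv_inv]
      have hok : (o ^ k)⁻¹ = o ^ (k + 1) := by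
        refine inv_eq_of_mul_eq_one_right ?_
        rw [← pow_add, show k + (k + 1) = orderOf o by omega, pow_orderOf_eq_one]
      calc (o ^ k)⁻¹ * g * t = (o ^ k)⁻¹ * (g * t * g⁻¹) * g := by group
        _ = (o ^ k)⁻¹ * (t * o) * g := by rw [hs]
        _ = t * (t⁻¹ * (o ^ k)⁻¹ * t) * o * g := by group
        _ = t * (o ^ k * o) * g := by
          rw [show t⁻¹ = t from inv_eq_of_mul_eq_one_left (by rw [← sq, ht2])]
          conv_lhs => rw [show t * (o ^ k)⁻¹ * t = o ^ k by
            conv_lhs => arg 2; rw [← inv_eq_of_mul_eq_one_left (show t * t = 1 by rw [← sq, ht2])]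
            exact hconjk]
          group
        _ = t * ((o ^ k)⁻¹ * g) := by rw [← pow_succ, ← hok, mul_assoc]
    set M : Subgroup G := O ⊓ centralizer ({t} : Set G) with hM
    have hkey : ∀ y : G, y ∉ K → y ^ 2 ∈ K → y * t = t * y → ∀ m ∈ M, y * m * y⁻¹ = m⁻¹ := by
      intro y hy1 hy2 hyt
      have hy22 : y ^ 2 = t := by
        obtain ⟨c, hcy⟩ := isConj_iff.1 (hconj y hy1 hy2)
        have h4 : (y ^ 2) ^ 2 = 1 := by
          rw [← pow_mul, ← hcy, conj_pow, hu4, mul_one, mul_inv_cancel]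
        have hyz : ρ (y ^ 2) ∈ Z := mem_map_of_mem ρ hy2
        have hne : ρ (y ^ 2) ≠ 1 := by
          intro h
          have h1 := Cfsg.Lib.ZStar.odd_orderOf_oddCore ((QuotientGroup.eq_one_iff _).1 h)
          rw [orderOf_eq_prime h4] at h1
          · exact absurd h1 (by decide)
          · intro h'
            apply hu21
            rw [← hcy, conj_pow] at h'
            calc t = c⁻¹ * (c * t * c⁻¹) * c := by group
              _ = 1 := by rw [h', mul_one, inv_mul_cancel]
        have htne : ρ t ≠ 1 := by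
          intro h
          have h1 := Cfsg.Lib.ZStar.odd_orderOf_oddCore ((QuotientGroup.eq_one_iff _).1 h)
          rw [orderOf_eq_prime ht2 hu21] at h1
          exact absurd h1 (by decide)
        have heq : ρ (y ^ 2) = ρ t := by
          obtain ⟨x, -, hx⟩ := Nat.card_eq_two_iff' (1 : Z) |>.1 hz2
          have e1 := hx ⟨_, hyz⟩ (fun h => hne (congrArg Subtype.val h))
          have e2 := hx ⟨_, htZ⟩ (fun h => htne (congrArg Subtype.val h))
          exact congrArg Subtype.val (e1.trans e2.symm)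
        have hcm : Commute (y ^ 2) t := (show Commute y t from hyt).pow_left 2
        have hmem : y ^ 2 * t ∈ O := (QuotientGroup.eq_one_iff _).1 (by
          show ρ (y ^ 2 * t) = 1
          rw [map_mul, heq, ← map_mul, ← sq, ht2, map_one])
        have h1 := Cfsg.Lib.ZStar.odd_orderOf_oddCore hmem
        have h2 : orderOf (y ^ 2 * t) ∣ 2 := orderOf_dvd_of_pow_eq_one (by rw [hcm.mul_pow, h4, ht2, one_mul])
        rcases (Nat.dvd_prime Nat.prime_two).1 h2 with h | h
        · have h3 := orderOf_eq_one_iff.1 h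
          calc y ^ 2 = y ^ 2 * (t * t) := by rw [← sq, ht2, mul_one]
            _ = t := by rw [← mul_assoc, h3, one_mul]
        · rw [h] at h1; exact absurd h1 (by decide)
      refine (inverts M y (fun m hm => ⟨(inferInstance : O.Normal).conj_mem m hm.1 y, ?_⟩)
        (fun m hm => ?_) (fun m hm => hOC y hy1 hy2 m hm.1)).1
      · have h : m * t = t * m := mem_centralizer_singleton_iff.1 hm.2
        refine mem_centralizer_singleton_iff.2 ?_
        calc y * m * y⁻¹ * t = y * m * (y⁻¹ * (t * y)) * y⁻¹ := by group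
          _ = y * (m * t) * y⁻¹ := by rw [← hyt]; group
          _ = (y * t) * m * y⁻¹ := by rw [h]; group
          _ = t * (y * m * y⁻¹) := by rw [hyt]; group
      · rw [hy22]; exact (mem_centralizer_singleton_iff.1 hm.2).symm
    have hMbot : ∀ m ∈ M, m = 1 := by
      intro m hm
      have hx2 : e (π u) ^ 2 = 1 := by rw [← map_pow, ← map_pow, (hπk _).2 hu2, map_one]
      have hx1 : e (π u) ≠ 1 := fun h' => hu ((hπk u).1 (by simpa using h'))
      obtain ⟨y₁, hy₁2, hy₁1, hy₁x, hy₁c⟩ := (a5_involution _ hx2 hx1).2.2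
      obtain ⟨y₀, hy₀⟩ := (e.surjective.comp (QuotientGroup.mk'_surjective K)) y₁
      obtain ⟨c, hcO, hcy⟩ := htc y₀
      set y := c * y₀ with hy
      have hπy : e (π y) = y₁ := by
        rw [hy, map_mul, (hπk c).2 (hOK hcO), one_mul]; exact hy₀
      have hy1 : y ∉ K := fun h => hy₁1 (by rw [← hπy, (hπk y).2 h, map_one])
      have hy2 : y ^ 2 ∈ K := (hπk _).1 (e.injective (by rw [map_pow, map_pow, hπy, hy₁2, map_one]))
      have huy1 : u * y ∉ K := fun h => hy₁x (by
        have h' : e (π u) * y₁ = 1 := by rw [← hπy, ← map_mul, ← map_mul, (hπk _).2 h, map_one]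
        rw [← (inv_eq_of_mul_eq_one_left (by rw [← sq, hx2]) : (e (π u))⁻¹ = e (π u))] at h'
        exact (inv_mul_eq_one.1 h').symm)
      have huy2 : (u * y) ^ 2 ∈ K := (hπk _).1 (e.injective (by
        rw [map_pow, map_pow, map_mul, map_mul, hπy,
          (show Commute (e (π u)) y₁ from hy₁c).mul_pow, hx2, hy₁2, map_one, one_mul]))
      have hut : u * t = t * u := by rw [ht, ← pow_succ', ← pow_succ]
      have hi1 := hkey u hu hu2 hut
      have hi2 := hkey y hy1 hy2 hcy
      have hi3 := hkey (u * y) huy1 huy2 (by rw [mul_assoc, hcy, ← mul_assoc, hut, mul_assoc])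
      have h := hi3 m hm
      rw [show u * y * m * (u * y)⁻¹ = u * (y * m * y⁻¹) * u⁻¹ by group, hi2 m hm,
        hi1 m⁻¹ (inv_mem hm), inv_inv] at h
      have h2 : m ^ 2 = 1 := by rw [sq]; exact mul_eq_one_iff_eq_inv.2 h
      have ho := Cfsg.Lib.ZStar.odd_orderOf_oddCore hm.1
      rcases (Nat.dvd_prime Nat.prime_two).1 (orderOf_dvd_of_pow_eq_one h2) with h | h
      · exact orderOf_eq_one_iff.1 h
      · rw [h] at ho; exact absurd ho (by decide)
    exact (inverts O t (fun m hm => (inferInstance : O.Normal).conj_mem m hm t)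
      (fun m _ => by rw [ht2, one_mul, mul_one])
      (fun m hm hcm => hMbot m ⟨hm, mem_centralizer_singleton_iff.2 hcm.symm⟩)).2

end Cfsg.Lib.Recog.CentFour
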