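import Mathlib.GroupTheory.GroupAction.Jordan
import Mathlib.Data.Nat.Factorial.BigOperators
import Mathlib.Data.Fintype.CardEmbedding

/-!
# Bochert's bound for primitive permutation groups
-/

set_option autoImplicit false
set_option linter.style.haveILetI false

namespace Cfsg.Lib.Recog

open Equiv MulAction

variable {α : Type*} [Fintype α] [DecidableEq α]

/-- Two permutations whose supports meet in one point have a three-cycle as commutator. -/
theorem isThreeCycle_commutator {x y : Perm α} {a : α} (hx : x a ≠ a) (hy : y a ≠ a)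
    (h : ∀ b, x b ≠ b → y b ≠ b → b = a) : (y * x * y⁻¹ * x⁻¹).IsThreeCycle := by
  set b := x a
  set c := y a
  have hb : x b ≠ b := fun e => hx (x.injective e)
  have hc : y c ≠ c := fun e => hy (y.injective e)
  have hyb : y b = b := by
    by_contra hh
    exact hx (h b hb hh)
  have hxc : x c = c := by
    by_contra hh
    exact hy (h c hh hc)
  have hab : a ≠ b := fun e => hx e.symm
  have hac : a ≠ c := fun e => hy e.symm
  have hbc : b ≠ c := fun e => hb (by rw [e]; exact hxc)
  have key : y * x * y⁻¹ * x⁻¹ = swap a b * swap a c := by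
    ext z
    simp only [Perm.mul_apply]
    by_cases hza : z = a
    · rw [hza, swap_apply_of_ne_of_ne hab hac |> fun _ => swap_apply_left a c, swap_apply_of_ne_of_ne hac.symm hbc.symm]
      set w := x⁻¹ a with hw
      have hxw : x w = a := x.apply_symm_apply a
      have hwa : w ≠ a := fun e => hx (by rw [e] at hxw; exact hxw)
      have hxw' : x w ≠ w := fun e => hwa (e ▸ hxw)
      have hyw : y w = w := by
        by_contra hh
        exact hwa (h w hxw' hh)
      rw [show y⁻¹ w = w from y.symm_apply_eq.2 hyw.symm, hxw]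
    by_cases hzb : z = b
    · subst hzb
      have h1 : y⁻¹ a ≠ a := fun e => hy (y.symm_apply_eq.1 e).symm
      have h2 : x (y⁻¹ a) = y⁻¹ a := by
        by_contra hh
        refine h1 (h _ hh fun e => h1 ?_)
        rw [Perm.coe_inv, Equiv.apply_symm_apply] at e
        exact e.symm
      rw [show x⁻¹ b = a from x.symm_apply_apply a, h2, Perm.coe_inv, Equiv.apply_symm_apply,
        swap_apply_of_ne_of_ne hab.symm hbc, swap_apply_right]
    by_cases hzc : z = c
    · subst hzc
      rw [show x⁻¹ c = c from x.symm_apply_eq.2 hxc.symm, show y⁻¹ c = a from y.symm_apply_apply a,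
        hyb, swap_apply_right, swap_apply_left]
    rw [swap_apply_of_ne_of_ne hza hzc, swap_apply_of_ne_of_ne hza hzb]
    set w := x⁻¹ z with hw
    have hxw : x w = z := x.apply_symm_apply z
    by_cases hzx : x z = z
    · have hwz : w = z := x.symm_apply_eq.2 hzx.symm
      rw [hwz]
      by_cases hzy : y z = z
      · rw [show y⁻¹ z = z from y.symm_apply_eq.2 hzy.symm, hzx, hzy]
      · set v := y⁻¹ z with hv
        have hyv : y v = z := y.apply_symm_apply z
        have hva : v ≠ a := fun e => hzc (by rw [← hyv, e])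
        have hxv : x v = v := by
          by_contra hh
          refine hva (h v hh fun e => hzy ?_)
          rw [hyv] at e
          rw [e, hyv, e]
        rw [hxv, hyv]
    · have hyz : y z = z := by
        by_contra hh
        exact hza (h z hzx hh)
      have hwa : w ≠ a := fun e => hzb (by rw [← hxw, e])
      have hxw' : x w ≠ w := fun e => hzx (by
        rw [hxw] at e
        conv_lhs => rw [e]
        exact hxw)
      have hyw : y w = w := by
        by_contra hh
        exact hwa (h w hxw' hh)
      rw [show y⁻¹ w = w from y.symm_apply_eq.2 hyw.symm, hxw, hyz]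
  rw [key]
  exact Perm.isThreeCycle_swap_mul_swap_same hab hac hbc

theorem bochert (H : Subgroup (Perm α)) (hp : IsPreprimitive H α) (hA : ¬ alternatingGroup α ≤ H) :
    Nat.card H * Nat.factorial ((Fintype.card α + 1) / 2) ≤ Nat.factorial (Fintype.card α) := by
  classical
  let P : ℕ → Prop := fun k => ∃ Δ : Finset α, Δ.card = k ∧ ∀ g ∈ H, (∀ a ∈ Δ, g a = a) → g = 1
  have hex : ∃ k, P k := ⟨_, Finset.univ, rfl, fun g _ h => Equiv.ext fun a => h a (Finset.mem_univ a)⟩
  obtain ⟨Δ, hΔc, hΔ⟩ := Nat.find_spec hex
  set n := Fintype.card α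
  have hk : 2 * Δ.card ≤ n := by
    by_contra hlt
    push Not at hlt
    have hcompl : Δᶜ.card < Δ.card := by rw [Finset.card_compl]; omega
    have hz : ∃ z ∈ H, (∀ a ∈ Δᶜ, z a = a) ∧ z ≠ 1 := by
      by_contra hno
      push Not at hno
      exact Nat.find_min hex (m := Δᶜ.card) (by omega) ⟨Δᶜ, rfl, hno⟩
    obtain ⟨z, hzH, hz, hz1⟩ := hz
    obtain ⟨a, ha⟩ : ∃ a, z a ≠ a := by
      by_contra hno
      push Not at hno
      exact hz1 (Equiv.ext hno)
    have haΔ : a ∈ Δ := by
      by_contra h
      exact ha (hz a (Finset.mem_compl.2 h))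
    have hy : ∃ y ∈ H, (∀ b ∈ Δ.erase a, y b = b) ∧ y a ≠ a := by
      by_contra hno
      push Not at hno
      refine Nat.find_min hex (m := (Δ.erase a).card) (by
        have := Finset.card_erase_lt_of_mem haΔ
        omega) ⟨Δ.erase a, rfl, fun g hg h => hΔ g hg fun b hb => ?_⟩
      by_cases hba : b = a
      · rw [hba]; exact hno g hg h
      · exact h b (Finset.mem_erase.2 ⟨hba, hb⟩)
    obtain ⟨y, hyH, hy, hya⟩ := hy
    have h3 := isThreeCycle_commutator ha hya fun b hzb hyb => by
      by_contra hba
      refine hyb (hy b (Finset.mem_erase.2 ⟨hba, ?_⟩))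
      by_contra h
      exact hzb (hz b (Finset.mem_compl.2 h))
    exact hA (Equiv.Perm.alternatingGroup_le_of_isPreprimitive_of_isThreeCycle_mem hp h3
      (mul_mem (mul_mem (mul_mem hyH hzH) (inv_mem hyH)) (inv_mem hzH)))
  have hle : Nat.card H ≤ Nat.card (Δ ↪ α) := by
    refine Nat.card_le_card_of_injective
      (fun g : H => ⟨fun a : Δ => (g : Perm α) a, fun a b hab => Subtype.ext ((g : Perm α).injective hab)⟩) ?_
    intro g g' hgg
    have : ((g' : Perm α)⁻¹ * g) = 1 := hΔ _ (mul_mem (inv_mem g'.2) g.2) fun a ha => by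
      have hthis : (g : Perm α) a = (g' : Perm α) a :=
        congrArg (fun e : Δ ↪ α => e ⟨a, ha⟩) hgg
      rw [Perm.mul_apply, hthis, Perm.coe_inv, Equiv.symm_apply_apply]
    exact Subtype.ext (inv_mul_eq_one.1 this).symm
  rw [Nat.card_eq_fintype_card (α := Δ ↪ α), Fintype.card_embedding_eq, Fintype.card_coe] at hle
  calc Nat.card H * Nat.factorial ((n + 1) / 2)
      ≤ n.descFactorial Δ.card * Nat.factorial (n - Δ.card) :=
        Nat.mul_le_mul hle (Nat.factorial_le (by omega))
    _ = Nat.factorial n := by rw [mul_comm]; exact Nat.factorial_mul_descFactorial (by omega)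

end Cfsg.Lib.Recog
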