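import Mathlib

/-!
Normal transitive subgroups of doubly transitive groups of degree congruent to 2 modulo 4 are doubly transitive:
the Sylow 2-subgroup of their point stabiliser fixes exactly two points.
-/

set_option autoImplicit false

namespace Cfsg.Lib.Recog.DegreeTwoModFour

open MulAction

/-- In a group of order twice an odd number the `m`-th powers give a character of order two. -/
theorem exists_sign_hom {Q : Type*} [Group Q] [Finite Q] {m : ℕ} (hm : Odd m) (hQ : Nat.card Q = 2 * m) :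
    ∃ ε : Q →* ℤˣ, (∀ q, ε q = 1 ↔ q ^ m = 1) ∧ ∃ q, ε q ≠ 1 := by
  classical
  haveI := Fintype.ofFinite Q
  let ε : Q →* ℤˣ := Equiv.Perm.sign.comp (MulAction.toPermHom Q Q)
  have hinj : Function.Injective (MulAction.toPermHom Q Q) := MulAction.toPerm_injective
  have hinv : ∀ q : Q, orderOf q = 2 → ε q = -1 := by
    intro q hq
    set σ := MulAction.toPermHom Q Q q with hσdef
    have hσ : orderOf σ = 2 := (orderOf_injective _ hinj q).trans hq
    obtain ⟨k, hk⟩ := Equiv.Perm.cycleType_prime_order (σ := σ) (by rw [hσ]; exact Nat.prime_two)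
    have hsupp : σ.support = Finset.univ := by
      refine Finset.eq_univ_iff_forall.2 fun x => Equiv.Perm.mem_support.2 fun e => ?_
      have h1 : q = 1 := mul_eq_right.1 (show q * x = x from e)
      rw [h1, orderOf_one] at hq; omega
    have hsum := σ.sum_cycleType
    rw [hk, Multiset.sum_replicate, hsupp, Finset.card_univ, ← Nat.card_eq_fintype_card, hQ, hσ, smul_eq_mul] at hsum
    show Equiv.Perm.sign σ = -1
    rw [Equiv.Perm.sign_of_cycleType, hk, Multiset.sum_replicate, Multiset.card_replicate, hσ, smul_eq_mul]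
    exact Odd.neg_one_pow (by
      rw [show k + 1 = m by omega]
      exact Even.add_odd (even_two.mul_left m) hm)
  have hε : ∀ q, ε q = 1 ↔ q ^ m = 1 := by
    intro q
    have hu : ε q * ε q = 1 := Int.units_mul_self _
    have hpow : ε (q ^ m) = ε q := by
      obtain ⟨j, rfl⟩ := hm
      rw [map_pow, pow_succ, pow_mul, sq, hu, one_pow, one_mul]
    constructor
    · intro h
      by_contra hne
      have h2 : (q ^ m) ^ 2 = 1 := by rw [← pow_mul, mul_comm, ← hQ, pow_card_eq_one']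
      haveI : Fact (Nat.Prime 2) := ⟨Nat.prime_two⟩
      have := hinv _ (orderOf_eq_prime h2 hne)
      rw [hpow, h] at this
      exact absurd this (by decide)
    · intro h
      rw [← hpow, h, map_one]
  refine ⟨ε, hε, ?_⟩
  haveI : Fact (Nat.Prime 2) := ⟨Nat.prime_two⟩
  obtain ⟨q, hq⟩ := exists_prime_orderOf_dvd_card' (G := Q) 2 (by rw [hQ]; exact dvd_mul_right 2 m)
  exact ⟨q, by rw [hinv q hq]; decide⟩

/-- A simple non-abelian group does not have order twice an odd number. -/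
theorem not_two_mul_odd_of_simple {Q : Type*} [Group Q] [Finite Q] [IsSimpleGroup Q] (hna : ¬ IsMulCommutative Q)
    {m : ℕ} (hm : Odd m) : Nat.card Q ≠ 2 * m := by
  intro hQ
  obtain ⟨ε, -, q, hq⟩ := exists_sign_hom hm hQ
  refine hna ⟨⟨fun a b => ?_⟩⟩
  have hker : ε.ker = ⊥ :=
    (IsSimpleGroup.eq_bot_or_eq_top_of_normal ε.ker inferInstance).resolve_right fun h =>
      hq (MonoidHom.mem_ker.1 (h ▸ Subgroup.mem_top q))
  exact (MonoidHom.ker_eq_bot_iff ε).1 hker (by rw [map_mul, map_mul, mul_comm])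

variable {G : Type*} [Group G]

/-- Two subgroups of full 2-power order in `U` are conjugate in `U`. -/
theorem exists_conj [Finite G] {U T T' : Subgroup G} (hp : IsPGroup 2 T) (hp' : IsPGroup 2 T') (hT : T ≤ U)
    (hT' : T' ≤ U) (hcard : Nat.card T' = Nat.card T) (hfull : ¬ 2 * Nat.card T ∣ Nat.card U) :
    ∃ h ∈ U, ∀ x, x ∈ T → h * x * h⁻¹ ∈ T' := by
  haveI : Fact (Nat.Prime 2) := ⟨Nat.prime_two⟩
  have mk : ∀ S : Subgroup G, IsPGroup 2 S → S ≤ U → Nat.card S = Nat.card T →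
      ∃ P : Sylow 2 U, (P : Subgroup U) = S.subgroupOf U := by
    intro S hS hSU hc
    refine ⟨(hS.of_equiv (Subgroup.subgroupOfEquivOfLe hSU).symm).toSylow ?_, rfl⟩
    intro hdvd
    refine hfull ?_
    have := (S.subgroupOf U).card_mul_index
    rw [Nat.card_congr (Subgroup.subgroupOfEquivOfLe hSU).toEquiv, hc] at this
    rw [← this, mul_comm 2]
    exact mul_dvd_mul_left _ hdvd
  obtain ⟨P, hP⟩ := mk T hp hT rfl
  obtain ⟨P', hP'⟩ := mk T' hp' hT' hcard
  obtain ⟨h, hh⟩ := MulAction.exists_smul_eq U P P'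
  refine ⟨h, h.2, fun x hx => ?_⟩
  have hmem : (MulAut.conj h) ⟨x, hT hx⟩ ∈ (P' : Subgroup U) := by
    rw [← hh]
    exact ⟨⟨x, hT hx⟩, show (⟨x, hT hx⟩ : U) ∈ (P : Subgroup U) by rw [hP]; exact hx, rfl⟩
  rw [hP'] at hmem
  simpa [Subgroup.mem_subgroupOf] using hmem

variable [Finite G] {Ω : Type*} [Fintype Ω] [MulAction G Ω]

/-- A transitive normal subgroup is doubly transitive. -/
theorem two_transitive_of_normal (h2 : IsMultiplyPretransitive G Ω 2) (hn : Fintype.card Ω % 4 = 2)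
    (M : Subgroup G) [M.Normal] (hMt : IsPretransitive M Ω) : IsMultiplyPretransitive M Ω 2 := by
  classical
  haveI : Fact (Nat.Prime 2) := ⟨Nat.prime_two⟩
  haveI := hMt
  haveI := Fintype.ofFinite G
  have h2' : ∀ {a b c d : Ω}, a ≠ b → c ≠ d → ∃ g : G, g • a = c ∧ g • b = d := is_two_pretransitive_iff.1 h2
  obtain ⟨a⟩ : Nonempty Ω := Fintype.card_pos_iff.1 (by omega)
  let Ms : Ω → Subgroup G := fun x => M ⊓ stabilizer G x
  have hMcard : ∀ x, Nat.card M = Fintype.card Ω * Nat.card (Ms x) := by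
    intro x
    have hstab : stabilizer M x = (Ms x).subgroupOf M := by
      ext g
      simp [Ms, Subgroup.mem_subgroupOf, Subgroup.smul_def]
    have h := (stabilizer M x).card_mul_index
    rw [index_stabilizer, orbit_eq_univ, Set.ncard_univ, Nat.card_eq_fintype_card (α := Ω), hstab,
      Nat.card_congr (Subgroup.subgroupOfEquivOfLe inf_le_left).toEquiv] at h
    rw [mul_comm]; exact h.symm
  have hMs : ∀ x, Nat.card (Ms x) = Nat.card (Ms a) := fun x =>
    Nat.eq_of_mul_eq_mul_left (by omega) ((hMcard x).symm.trans (hMcard a))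
  let P : Sylow 2 (Ms a) := default
  let T : Subgroup G := (P : Subgroup (Ms a)).map (Ms a).subtype
  have hTle : T ≤ Ms a := Subgroup.map_subtype_le _
  have hTM : T ≤ M := hTle.trans inf_le_left
  have hTp : IsPGroup 2 T := P.2.map _
  set tt := Nat.card T with htt
  have httpos : 0 < tt := Nat.card_pos
  have htP : tt = Nat.card (P : Subgroup (Ms a)) := Subgroup.card_map_of_injective (Ms a).subtype_injective
  obtain ⟨r, hr, hrcard⟩ : ∃ r, Odd r ∧ Nat.card (Ms a) = tt * r :=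
    ⟨(P : Subgroup (Ms a)).index, Nat.odd_iff.2 (by
      have := P.not_dvd_index
      omega), by rw [htP]; exact (P : Subgroup (Ms a)).card_mul_index.symm⟩
  have hfull : ¬ 2 * tt ∣ Nat.card (Ms a) := by
    rw [hrcard, mul_comm 2, Nat.mul_dvd_mul_iff_left httpos]
    rintro ⟨j, rfl⟩
    exact absurd hr (by simp)
  let F : Set Ω := {z | ∀ t ∈ T, t • z = z}
  have hcj : ∀ g : G, Nat.card (T.map (MulAut.conj g).toMonoidHom) = tt ∧
      IsPGroup 2 (T.map (MulAut.conj g).toMonoidHom) := fun g =>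
    ⟨Subgroup.card_map_of_injective (MulAut.conj g).injective, hTp.map _⟩
  have hcjM : ∀ g : G, T.map (MulAut.conj g).toMonoidHom ≤ M := by
    rintro g _ ⟨t, ht, rfl⟩
    exact Subgroup.Normal.conj_mem inferInstance t (hTM ht) g
  have hcjfix : ∀ (g : G) (z : Ω), z ∈ F → T.map (MulAut.conj g).toMonoidHom ≤ stabilizer G (g • z) := by
    rintro g z hz _ ⟨t, ht, rfl⟩
    show (g * t * g⁻¹) • (g • z) = g • z
    rw [mul_smul, mul_smul, inv_smul_smul, hz t ht]
  have haF : a ∈ F := fun t ht => (hTle ht).2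
  let L : Subgroup G := Subgroup.normalizer (T : Set G)
  have hL : ∀ {h}, (∀ x, x ∈ T → h * x * h⁻¹ ∈ T) → h ∈ L := by
    intro h hh
    refine Subgroup.mem_normalizer_iff.2 fun x => ⟨hh x, fun hx => ?_⟩
    let f : T → T := fun y => ⟨h * y * h⁻¹, hh y y.2⟩
    have hf : Function.Bijective f := Finite.injective_iff_bijective.1 fun y y' e =>
      Subtype.ext (mul_left_cancel (mul_right_cancel (congrArg Subtype.val e)))
    obtain ⟨y, hy⟩ := hf.2 ⟨h * x * h⁻¹, hx⟩
    have : (y : G) = x := mul_left_cancel (mul_right_cancel (congrArg Subtype.val hy))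
    exact this ▸ y.2
  have hLF : ∀ g ∈ L, ∀ z ∈ F, g • z ∈ F := by
    intro g hg z hz t ht
    have h1 : g⁻¹ * t * g ∈ T := by simpa using (Subgroup.mem_normalizer_iff.1 (inv_mem hg) t).1 ht
    calc t • g • z = g • (g⁻¹ * t * g) • z := by simp [mul_smul]
      _ = g • z := by rw [hz _ h1]
  let LM : Subgroup G := L ⊓ M
  have htrans : ∀ z ∈ F, ∃ x ∈ LM, x • a = z := by
    intro z hz
    obtain ⟨⟨g, hg⟩, hgz⟩ := exists_smul_eq M a z
    change g • a = z at hgz
    obtain ⟨h, hh, hconj⟩ := exists_conj (U := Ms z) (T := T.map (MulAut.conj g).toMonoidHom) (T' := T)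
      (hcj g).2 hTp (le_inf (hcjM g) (hgz ▸ hcjfix g a haF)) (le_inf hTM (fun t ht => hz t ht)) (hcj g).1.symm
      (by rw [(hcj g).1, hMs]; exact hfull)
    refine ⟨h * g, ⟨hL fun x hx => ?_, mul_mem hh.1 hg⟩, by rw [mul_smul, hgz]; exact hh.2⟩
    have := hconj _ ⟨x, hx, rfl⟩
    simpa [mul_assoc] using this
  have htwo : ∀ z ∈ F, ∀ w ∈ F, z ≠ a → w ≠ a → ∃ g ∈ L, g • a = a ∧ g • z = w := by
    intro z hz w hw hza hwa
    obtain ⟨g, hga, hgz⟩ := h2' hza.symm hwa.symm
    obtain ⟨h, hh, hconj⟩ := exists_conj (U := Ms a ⊓ stabilizer G w) (T := T.map (MulAut.conj g).toMonoidHom)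
      (T' := T) (hcj g).2 hTp (le_inf (le_inf (hcjM g) (hga ▸ hcjfix g a haF)) (hgz ▸ hcjfix g z hz))
      (le_inf hTle fun t ht => hw t ht) (hcj g).1.symm
      (by rw [(hcj g).1]; exact fun hd => hfull (hd.trans (Subgroup.card_dvd_of_le inf_le_left)))
    refine ⟨h * g, hL fun x hx => ?_, by rw [mul_smul, hga]; exact hh.1.2, by rw [mul_smul, hgz]; exact hh.2⟩
    have := hconj _ ⟨x, hx, rfl⟩
    simpa [mul_assoc] using this
  -- the quotient of the normaliser in `M`
  let LMa : Subgroup G := LM ⊓ stabilizer G a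
  have hTLMa : T ≤ LMa := le_inf (le_inf Subgroup.le_normalizer hTM) (hTle.trans inf_le_right)
  let T₁ : Subgroup LM := T.subgroupOf LM
  haveI hT₁ : T₁.Normal := ⟨fun x hx g => by
    rw [Subgroup.mem_subgroupOf] at hx ⊢
    exact (Subgroup.mem_normalizer_iff.1 g.2.1 _).1 hx⟩
  let T₂ : Subgroup LMa := T.subgroupOf LMa
  haveI hT₂ : T₂.Normal := ⟨fun x hx g => by
    rw [Subgroup.mem_subgroupOf] at hx ⊢
    exact (Subgroup.mem_normalizer_iff.1 g.2.1.1 _).1 hx⟩
  have hFo : orbit LM a = F := by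
    ext z
    constructor
    · rintro ⟨⟨x, hx⟩, rfl⟩
      exact hLF x hx.1 a haF
    · intro hz
      obtain ⟨x, hx, e⟩ := htrans z hz
      exact ⟨⟨x, hx⟩, e⟩
  set f := F.ncard with hf
  have hLMcard : Nat.card LM = f * Nat.card LMa := by
    have hstab : stabilizer LM a = LMa.subgroupOf LM := by
      ext g
      simp [LMa, Subgroup.mem_subgroupOf, Subgroup.smul_def]
    have h := (stabilizer LM a).card_mul_index
    rw [index_stabilizer, hFo, hstab, Nat.card_congr (Subgroup.subgroupOfEquivOfLe inf_le_left).toEquiv] at h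
    rw [mul_comm]; exact h.symm
  have hfeven : f % 2 = 0 := by
    have h := hTp.card_modEq_card_fixedPoints Ω
    have hFF : (fixedPoints T Ω : Set Ω) = F := by
      ext z; simp [F, Subgroup.smul_def]
    rw [Nat.card_eq_fintype_card (α := Ω), Nat.card_coe_set_eq, hFF, ← hf, Nat.ModEq] at h
    omega
  set s := T₂.index with hs
  have hscard : Nat.card LMa = tt * s := by
    rw [← T₂.card_mul_index, Nat.card_congr (Subgroup.subgroupOfEquivOfLe hTLMa).toEquiv]
  have hsodd : Odd s := by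
    refine Nat.odd_iff.2 ?_
    by_contra hne
    refine hfull (Dvd.dvd.trans ?_ (Subgroup.card_dvd_of_le (show LMa ≤ Ms a from le_inf (inf_le_left.trans inf_le_right) inf_le_right)))
    rw [hscard, mul_comm 2]
    exact mul_dvd_mul_left _ (Nat.dvd_of_mod_eq_zero (by omega))
  have hdvd : f * s ∣ Fintype.card Ω * r := by
    have h := Subgroup.card_dvd_of_le (inf_le_right : LM ≤ M)
    rw [hLMcard, hscard, hMcard a, hrcard, show f * (tt * s) = tt * (f * s) by ring,
      show Fintype.card Ω * (tt * r) = tt * (Fintype.card Ω * r) by ring] at h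
    exact (Nat.mul_dvd_mul_iff_left httpos).1 h
  obtain ⟨m, hm, hmodd⟩ : ∃ m, f * s = 2 * m ∧ Odd m := by
    refine ⟨f / 2 * s, ?_, ?_⟩
    · conv_lhs => rw [show f = 2 * (f / 2) by omega]
      ring
    · refine Nat.odd_iff.2 ?_
      by_contra hne
      have h4 : 4 ∣ Fintype.card Ω * r := by
        refine Dvd.dvd.trans ?_ hdvd
        rw [show f = 2 * (f / 2) by omega, mul_assoc, show (4 : ℕ) = 2 * 2 from rfl]
        exact mul_dvd_mul_left _ (Nat.dvd_of_mod_eq_zero (by omega))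
      obtain ⟨j, hj⟩ := hr
      obtain ⟨c, hc⟩ := h4
      rw [show Fintype.card Ω = 4 * (Fintype.card Ω / 4) + 2 by omega, hj] at hc
      ring_nf at hc
      omega
  have hQ : Nat.card (LM ⧸ T₁) = 2 * m := by
    have h := T₁.card_mul_index
    rw [Nat.card_congr (Subgroup.subgroupOfEquivOfLe (hTLMa.trans inf_le_left)).toEquiv, hLMcard, hscard] at h
    rw [← hm]
    exact Nat.eq_of_mul_eq_mul_left httpos (h.trans (by ring))
  obtain ⟨ε, hε, q, hq⟩ := exists_sign_hom hmodd hQ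
  let κ : LM →* ℤˣ := ε.comp (QuotientGroup.mk' T₁)
  have hκ : ∀ x : LM, κ x = 1 ↔ (x : G) ^ m ∈ T := fun x => by
    show ε (QuotientGroup.mk x) = 1 ↔ _
    rw [hε, ← QuotientGroup.mk_pow, QuotientGroup.eq_one_iff]
    rfl
  obtain ⟨w, rfl⟩ := QuotientGroup.mk'_surjective T₁ q
  have hκa : ∀ x : LM, (x : G) • a = a → κ x = 1 := by
    intro x hx
    rw [hκ]
    have h1 : (⟨x, x.2, hx⟩ : LMa) ^ s ∈ T₂ := hs ▸ T₂.pow_index_mem _
    obtain ⟨j, rfl⟩ : s ∣ m :=
      (Nat.Coprime.dvd_mul_left (Nat.coprime_two_right.2 hsodd)).1 (hm ▸ dvd_mul_left s f)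
    rw [pow_mul]
    exact pow_mem h1 j
  have hwa : (w : G) • a ≠ a := fun e => hq (hκa w e)
  have hone : ∀ x : LM, κ x = 1 → (x : G) • a = a := by
    intro x hx
    by_contra hxa
    obtain ⟨g, hg, hga, hgz⟩ := htwo _ (hLF x x.2.1 a haF) _ (hLF w w.2.1 a haF) hxa hwa
    have hkL : g * (x : G) * g⁻¹ ∈ L := L.mul_mem (L.mul_mem hg x.2.1) (L.inv_mem hg)
    have hk : g * (x : G) * g⁻¹ ∈ LM := Subgroup.mem_inf.2 ⟨hkL, Subgroup.Normal.conj_mem inferInstance _ x.2.2 g⟩
    let k : LM := ⟨g * x * g⁻¹, hk⟩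
    have hk1 : κ k = 1 := by
      rw [hκ, show ((k : LM) : G) ^ m = g * (x : G) ^ m * g⁻¹ from conj_pow]
      exact (Subgroup.mem_normalizer_iff.1 hg _).1 ((hκ x).1 hx)
    have hka : ((k⁻¹ * w : LM) : G) • a = a := by
      show ((g * (x : G) * g⁻¹)⁻¹ * (w : G)) • a = a
      rw [mul_smul, inv_smul_eq_iff, mul_smul, mul_smul]
      conv_rhs => rw [show g⁻¹ • a = a from inv_smul_eq_iff.2 hga.symm, hgz]
    have hw1 := hκa _ hka
    rw [map_mul, map_inv, hk1, inv_one, one_mul] at hw1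
    exact hq hw1
  set y₀ := (w : G) • a with hy₀
  have honly : ∀ z ∈ F, z ≠ a → z = y₀ := by
    intro z hz hza
    obtain ⟨x, hx, e⟩ := htrans z hz
    have hxκ : κ ⟨x, hx⟩ = -1 :=
      (Int.units_eq_one_or _).resolve_left fun h => hza (e ▸ hone _ h)
    have hwκ : κ w = -1 := (Int.units_eq_one_or _).resolve_left hq
    have h1 := hone (w⁻¹ * ⟨x, hx⟩) (by rw [map_mul, map_inv, hxκ, hwκ, inv_mul_cancel])
    change ((w : G)⁻¹ * x) • a = a at h1
    rw [mul_smul, inv_smul_eq_iff, e] at h1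
    exact h1
  have hMa : ∀ y, y ≠ a → ∃ h ∈ Ms a, h • y₀ = y := by
    intro y hy
    obtain ⟨g, hga, hgy⟩ := h2' hwa.symm hy.symm
    obtain ⟨h, hh, hconj⟩ := exists_conj (U := Ms a) (T := T) (T' := T.map (MulAut.conj g).toMonoidHom) hTp
      (hcj g).2 hTle (le_inf (hcjM g) (hga ▸ hcjfix g a haF)) (hcj g).1 hfull
    refine ⟨h, hh, ?_⟩
    have hyF : h⁻¹ • y ∈ F := by
      intro t ht
      have h1 : (h * t * h⁻¹) • y = y := hgy ▸ hcjfix g _ (hLF w w.2.1 a haF) (hconj t ht)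
      rw [mul_smul, mul_smul] at h1
      exact eq_inv_smul_iff.2 h1
    have hne : h⁻¹ • y ≠ a := fun e => hy (by rw [inv_smul_eq_iff.1 e]; exact hh.2)
    rw [← honly _ hyF hne, smul_inv_smul]
  refine is_two_pretransitive_iff.2 fun {p q p' q'} hpq hpq' => ?_
  obtain ⟨g, hg⟩ := exists_smul_eq M p a
  obtain ⟨g', hg'⟩ := exists_smul_eq M p' a
  have n1 : g • q ≠ a := fun e => hpq (smul_left_cancel g (hg.trans e.symm))
  have n2 : g' • q' ≠ a := fun e => hpq' (smul_left_cancel g' (hg'.trans e.symm))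
  obtain ⟨u, hu, hu'⟩ := hMa _ n1
  obtain ⟨v, hv, hv'⟩ := hMa _ n2
  refine ⟨g'⁻¹ * (⟨v, hv.1⟩ * ⟨u, hu.1⟩⁻¹) * g, ?_, ?_⟩
  · rw [mul_smul, hg, mul_smul, inv_smul_eq_iff, hg', mul_smul,
      show (⟨u, hu.1⟩ : M)⁻¹ • a = a from inv_smul_eq_iff.2 hu.2.symm]
    exact hv.2
  · rw [mul_smul, mul_smul, inv_smul_eq_iff, mul_smul,
      show (⟨u, hu.1⟩ : M)⁻¹ • g • q = y₀ from inv_smul_eq_iff.2 hu'.symm]
    exact hv'

end Cfsg.Lib.Recog.DegreeTwoModFour
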