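import Mathlib.GroupTheory.GroupAction.Blocks
import Mathlib.GroupTheory.GroupAction.Primitive
import Mathlib.GroupTheory.GroupAction.Quotient
import Mathlib.GroupTheory.GroupAction.SubMulAction.OfStabilizer
import Mathlib.GroupTheory.PGroup
import Mathlib.GroupTheory.Perm.Cycle.Type
import Mathlib.Algebra.IsPrimePow
import Mathlib.Tactic.Linarith

/-!
# The subgroup generated by the derangements

If `D` is a normal subgroup containing every derangement of a finite transitive group, then `D` is
transitive and every element outside `D` fixes exactly one point; hence the index of `D` divides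
`n - 1`, and also `m - 1` and `b - 1` for a system of `m` blocks of size `b`.
-/

set_option autoImplicit false
set_option linter.style.haveILetI false

namespace Cfsg.Lib.Recog.Derange

open scoped Pointwise

open MulAction

variable {G Ω : Type*} [Group G] [MulAction G Ω]

/-- The number of fixed points summed over a coset of a subgroup transitive on a finite set. -/
theorem sum_card_filter_fix [DecidableEq Ω] (E : Subgroup G) [Fintype E] (C : Finset Ω) (g : G)
    (hC : C.Nonempty) (hE : ∀ d ∈ E, ∀ x ∈ C, d • x ∈ C) (hgC : ∀ x ∈ C, g⁻¹ • x ∈ C)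
    (htr : ∀ x ∈ C, ∀ y ∈ C, ∃ d ∈ E, d • x = y) :
    ∑ d : E, (C.filter fun x => (g * (d : G)) • x = x).card = Fintype.card E := by
  classical
  obtain ⟨x₀, hx₀⟩ := hC
  simp only [Finset.card_filter]
  rw [Finset.sum_comm]
  have h1 : ∀ x ∈ C, ∑ d : E, (if (g * (d : G)) • x = x then 1 else 0) =
      (Finset.univ.filter fun d : E => (d : G) • x₀ = x₀).card := by
    intro x hx
    rw [← Finset.card_filter]
    obtain ⟨u, hu, hux⟩ := htr x₀ hx₀ x hx
    obtain ⟨v, hv, hvx⟩ := htr x₀ hx₀ (g⁻¹ • x) (hgC x hx)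
    refine Finset.card_equiv ((Equiv.mulLeft (⟨v, hv⟩⁻¹ : E)).trans (Equiv.mulRight (⟨u, hu⟩ : E)))
      fun d => ?_
    simp only [Finset.mem_filter, Finset.mem_univ, true_and, Equiv.trans_apply, Equiv.coe_mulLeft,
      Equiv.coe_mulRight, Subgroup.coe_mul, InvMemClass.coe_inv]
    simp only [mul_smul]
    rw [hux, inv_smul_eq_iff, hvx, eq_inv_smul_iff]
  rw [Finset.sum_congr rfl h1, Finset.sum_const, smul_eq_mul]
  have h2 := Finset.card_eq_sum_card_fiberwise (s := (Finset.univ : Finset E)) (t := C)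
    (f := fun d : E => (d : G) • x₀) fun d _ => hE d d.2 x₀ hx₀
  rw [Finset.card_univ] at h2
  rw [h2, Finset.sum_congr rfl (g := fun _ => (Finset.univ.filter fun d : E => (d : G) • x₀ = x₀).card)
    fun x hx => ?_, Finset.sum_const, smul_eq_mul]
  obtain ⟨u, hu, hux⟩ := htr x₀ hx₀ x hx
  refine Finset.card_equiv (Equiv.mulLeft (⟨u, hu⟩⁻¹ : E)) fun d => ?_
  simp only [Finset.mem_filter, Finset.mem_univ, true_and, Equiv.coe_mulLeft, Subgroup.coe_mul,
    InvMemClass.coe_inv, mul_smul, inv_smul_eq_iff, hux]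

theorem index_dvd_card {H X : Type*} [Group H] [MulAction H X] [Finite X] (K : Subgroup H)
    (h : ∀ x : X, stabilizer H x ≤ K) : K.index ∣ Nat.card X := by
  classical
  haveI : Fintype (orbitRel.Quotient H X) := Fintype.ofFinite _
  rw [Nat.card_congr (selfEquivSigmaOrbits H X), Nat.card_sigma]
  refine Finset.dvd_sum fun w _ => ?_
  rw [Nat.card_coe_set_eq, ← index_stabilizer]
  exact Subgroup.index_dvd_of_le (h _)

theorem exists_derangement [Finite G] {X : Type*} [Finite X] [MulAction G X] [IsPretransitive G X]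
    [Nontrivial X] : ∃ g : G, ∀ x : X, g • x ≠ x := by
  classical
  haveI := Fintype.ofFinite G
  haveI := Fintype.ofFinite X
  haveI : Fintype (⊤ : Subgroup G) := Fintype.ofFinite _
  by_contra hno
  push Not at hno
  have h := sum_card_filter_fix (⊤ : Subgroup G) (Finset.univ : Finset X) 1 Finset.univ_nonempty
    (fun _ _ _ _ => Finset.mem_univ _) (fun _ _ => Finset.mem_univ _) fun x _ y _ => by
      obtain ⟨g, hg⟩ := exists_smul_eq G x y
      exact ⟨g, Subgroup.mem_top g, hg⟩
  have hlt : ∑ _d : (⊤ : Subgroup G), 1 <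
      ∑ d : (⊤ : Subgroup G), ((Finset.univ : Finset X).filter fun x => ((1 : G) * (d : G)) • x = x).card := by
    refine Finset.sum_lt_sum (fun d _ => ?_) ⟨1, Finset.mem_univ _, ?_⟩
    · obtain ⟨x, hx⟩ := hno d
      exact Finset.card_pos.2 ⟨x, by simp [hx]⟩
    · simp [Fintype.one_lt_card]
  rw [h, Finset.sum_const, Finset.card_univ, smul_eq_mul, mul_one] at hlt
  exact lt_irrefl _ hlt

theorem normal_closure :
    (Subgroup.closure {g : G | ∀ ω : Ω, g • ω ≠ ω}).Normal := by
  refine Subgroup.Normal.mk fun x hx c => ?_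
  induction hx using Subgroup.closure_induction with
  | mem y hy =>
    refine Subgroup.subset_closure fun ω h => hy (c⁻¹ • ω) ?_
    rw [mul_smul, mul_smul] at h
    exact (eq_inv_smul_iff).2 h
  | one => simp
  | mul a b _ _ ha hb => rw [← conj_mul]; exact mul_mem ha hb
  | inv a _ ha => rw [← conj_inv]; exact inv_mem ha

variable [Finite G] [Finite Ω] [IsPretransitive G Ω] (D : Subgroup G) [D.Normal]
  (hD : ∀ g : G, (∀ ω : Ω, g • ω ≠ ω) → g ∈ D)

include hD

theorem transitive (x y : Ω) : ∃ d ∈ D, d • x = y := by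
  classical
  by_contra hxy
  push Not at hxy
  -- the blocks are the orbits of `D`
  let B : Set Ω := orbit D x
  have hB : IsBlock G B := IsBlock.orbit_of_normal x
  have hxB : x ∈ B := mem_orbit_self x
  let X := orbit G B
  haveI : Nontrivial X := by
    obtain ⟨c, hc⟩ := exists_smul_eq G x y
    refine ⟨⟨B, mem_orbit_self B⟩, ⟨c • B, mem_orbit B c⟩, fun h => ?_⟩
    have hB' : B = c • B := congrArg Subtype.val h
    have : y ∈ B := by rw [hB', ← hc]; exact Set.smul_mem_smul_set hxB
    obtain ⟨⟨d, hd⟩, hdy⟩ := this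
    exact hxy d hd hdy
  obtain ⟨g, hg⟩ := exists_derangement (G := G) (X := X)
  have hgD : g ∈ D := hD g fun ω hω => by
    obtain ⟨c, hc⟩ := exists_smul_eq G x ω
    refine hg ⟨c • B, mem_orbit B c⟩ (Subtype.ext ?_)
    show g • c • B = c • B
    exact (hB.translate c).smul_eq_of_mem (a := ω) ⟨x, hxB, hc⟩ (by rw [hω]; exact ⟨x, hxB, hc⟩)
  refine hg ⟨B, mem_orbit_self B⟩ (Subtype.ext ?_)
  show g • B = B
  exact MulAction.smul_orbit (⟨g, hgD⟩ : D) x

/-- An element outside `D` fixes exactly one point. -/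
theorem unique_fixed {g : G} (hg : g ∉ D) {x y : Ω} (hx : g • x = x) (hy : g • y = y) : x = y := by
  classical
  haveI := Fintype.ofFinite G
  haveI := Fintype.ofFinite Ω
  haveI : Fintype D := Fintype.ofFinite _
  have hΩ : (Finset.univ : Finset Ω).Nonempty := ⟨x, Finset.mem_univ x⟩
  have hsum := sum_card_filter_fix D Finset.univ g hΩ (fun _ _ _ _ => Finset.mem_univ _)
    (fun _ _ => Finset.mem_univ _) fun a _ b _ => transitive D hD a b
  have hone : ∀ d : D, 1 ≤ (Finset.univ.filter fun a : Ω => (g * (d : G)) • a = a).card := fun d => by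
    by_contra h
    push Not at h
    have h0 : ∀ a : Ω, (g * (d : G)) • a ≠ a := fun a ha => by
      have : 0 < (Finset.univ.filter fun a : Ω => (g * (d : G)) • a = a).card :=
        Finset.card_pos.2 ⟨a, Finset.mem_filter.2 ⟨Finset.mem_univ a, ha⟩⟩
      omega
    exact hg ((D.mul_mem_cancel_right d.2).1 (hD _ h0))
  have heq := (Finset.sum_eq_sum_iff_of_le (s := (Finset.univ : Finset D)) fun d _ => hone d).1
    (by rw [hsum, Finset.sum_const, Finset.card_univ, smul_eq_mul, mul_one]) 1 (Finset.mem_univ _)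
  exact Finset.card_le_one.1 heq.symm.le x (by simp [hx]) y (by simp [hy])

/-- The part of `D` in a point stabilizer. -/
theorem index_subgroupOf (a : Ω) : (D.subgroupOf (stabilizer G a)).index = D.index := by
  have htop : stabilizer G a ⊔ D = ⊤ := by
    refine eq_top_iff.2 fun g _ => ?_
    obtain ⟨d, hd, hda⟩ := transitive D hD (g • a) a
    have h1 : d * g ∈ stabilizer G a := by rw [mem_stabilizer_iff, mul_smul, hda]
    have := Subgroup.mul_mem_sup (S := D) (T := stabilizer G a) (inv_mem hd) h1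
    rw [inv_mul_cancel_left, sup_comm] at this
    exact this
  have h := Subgroup.relIndex_sup_right (H := stabilizer G a) (K := D)
  rw [htop, Subgroup.relIndex_top_right] at h
  exact h.symm

theorem stabilizer_le {X : Type*} (a : Ω) [MulAction (stabilizer G a) X] (p : X → Ω)
    (hne : ∀ x, p x ≠ a) (hp : ∀ (h : stabilizer G a) x, h • x = x → (h : G) • p x = p x) (x : X) :
    stabilizer (stabilizer G a) x ≤ D.subgroupOf (stabilizer G a) := by
  intro h hh
  rw [Subgroup.mem_subgroupOf]
  by_contra hn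
  exact hne x (unique_fixed D hD hn (hp h x hh) (mem_stabilizer_iff.1 h.2))

theorem index_dvd : D.index ∣ Nat.card Ω - 1 := by
  rcases isEmpty_or_nonempty Ω with hΩ | ⟨⟨a⟩⟩
  · simp
  rw [← index_subgroupOf D hD a, ← SubMulAction.nat_card_ofStabilizer_eq G a]
  exact index_dvd_card _ (stabilizer_le D hD a (fun x : SubMulAction.ofStabilizer G a => (x : Ω))
    (fun x => x.2) fun h x hx => congrArg Subtype.val hx)

theorem index_dvd_block {B : Set Ω} (hB : IsBlock G B) {a : Ω} (ha : a ∈ B) :
    D.index ∣ B.ncard - 1 := by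
  classical
  let X : SubMulAction (stabilizer G a) Ω :=
    { carrier := B \ {a}
      smul_mem' := by
        rintro ⟨h, hh⟩ x ⟨hxB, hxa⟩
        refine ⟨?_, fun e => hxa ?_⟩
        · have hB' : h • B = B := hB.smul_eq_of_mem ha (by rwa [mem_stabilizer_iff.1 hh])
          rw [← hB']
          exact Set.smul_mem_smul_set hxB
        · have e' : h • x = a := e
          rw [← mem_stabilizer_iff.1 hh] at e'
          exact smul_left_cancel h e' }
  rw [← index_subgroupOf D hD a]
  have hc : Nat.card X = B.ncard - 1 := by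
    rw [← Set.ncard_sdiff_singleton_of_mem ha]
    exact Nat.card_coe_set_eq _
  rw [← hc]
  exact index_dvd_card _ (stabilizer_le D hD a (fun x : X => (x : Ω)) (fun x => x.2.2)
    fun h x hx => congrArg Subtype.val hx)

theorem index_dvd_blocks {B : Set Ω} (hB : IsBlock G B) {a : Ω} (ha : a ∈ B) :
    D.index ∣ (orbit G B).ncard - 1 := by
  classical
  haveI := Fintype.ofFinite Ω
  let X : SubMulAction (stabilizer G a) (Set Ω) :=
    { carrier := orbit G B \ {B}
      smul_mem' := by
        rintro ⟨h, hh⟩ C ⟨hC, hCB⟩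
        refine ⟨?_, fun e => hCB ?_⟩
        · obtain ⟨c, rfl⟩ := hC
          exact ⟨h * c, mul_smul _ _ _⟩
        · have hB' : h • B = B := hB.smul_eq_of_mem ha (by rwa [mem_stabilizer_iff.1 hh])
          have e' : h • C = B := e
          rw [← hB'] at e'
          exact smul_left_cancel h e' }
  rw [← index_subgroupOf D hD a]
  have hc : Nat.card X = (orbit G B).ncard - 1 := by
    rw [← Set.ncard_sdiff_singleton_of_mem (mem_orbit_self B)]
    exact Nat.card_coe_set_eq _
  rw [← hc]
  refine index_dvd_card _ fun C h hh => ?_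
  rw [Subgroup.mem_subgroupOf]
  by_contra hn
  obtain ⟨⟨c, hc⟩, hCB⟩ := C.2
  have hc : c • B = (C : Set Ω) := hc
  have hblock : IsBlock G (C : Set Ω) := hc ▸ hB.translate c
  have haC : a ∉ (C : Set Ω) := fun hmem => hCB <| by
    rw [Set.mem_singleton_iff, ← hc]
    rw [← hc] at hmem
    obtain ⟨b, hb, hba⟩ := hmem
    exact hB.smul_eq_of_mem hb (by rwa [show c • b = a from hba])
  have hgC : (h : G) • (C : Set Ω) = C := congrArg Subtype.val (mem_stabilizer_iff.1 hh)
  let E : Subgroup G := D ⊓ stabilizer G (C : Set Ω)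
  haveI : Fintype E := Fintype.ofFinite _
  have hCne : (C : Set Ω).toFinset.Nonempty :=
    ⟨c • a, by rw [Set.mem_toFinset, ← hc]; exact Set.smul_mem_smul_set ha⟩
  have hsum := sum_card_filter_fix E (C : Set Ω).toFinset (h : G) hCne
    (fun d hd x hx => by
      rw [Set.mem_toFinset] at hx ⊢
      rw [← mem_stabilizer_iff.1 hd.2]
      exact Set.smul_mem_smul_set hx)
    (fun x hx => by
      rw [Set.mem_toFinset] at hx ⊢
      rwa [← Set.mem_smul_set_iff_inv_smul_mem, hgC])
    fun x hx y hy => by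
      rw [Set.mem_toFinset] at hx hy
      obtain ⟨d, hd, hdy⟩ := transitive D hD x y
      exact ⟨d, ⟨hd, hblock.smul_eq_of_mem hx (by rwa [hdy])⟩, hdy⟩
  have hone : ∀ d : E, ((C : Set Ω).toFinset.filter fun x => ((h : G) * (d : G)) • x = x).card ≤ 1 :=
    fun d => Finset.card_le_one.2 fun x hx y hy =>
      unique_fixed D hD (fun hm => hn ((D.mul_mem_cancel_right d.2.1).1 hm))
        (Finset.mem_filter.1 hx).2 (Finset.mem_filter.1 hy).2
  have heq := (Finset.sum_eq_sum_iff_of_le (s := (Finset.univ : Finset E)) fun d _ => hone d).1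
    (by rw [hsum, Finset.sum_const, Finset.card_univ, smul_eq_mul, mul_one]) 1 (Finset.mem_univ _)
  obtain ⟨x, hx⟩ := Finset.card_eq_one.1 heq
  have hxm := hx ▸ Finset.mem_singleton_self x
  rw [Finset.mem_filter, OneMemClass.coe_one, mul_one, Set.mem_toFinset] at hxm
  exact haC (unique_fixed D hD hn hxm.2 (mem_stabilizer_iff.1 h.2) ▸ hxm.1)

theorem succ_index_sq_le (himp : ¬ IsPreprimitive G Ω) : (D.index + 1) ^ 2 ≤ Nat.card Ω := by
  classical
  obtain ⟨B, hB, hnt⟩ : ∃ B : Set Ω, IsBlock G B ∧ ¬ IsTrivialBlock B := by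
    by_contra hno
    push Not at hno
    exact himp { isTrivialBlock_of_isBlock := fun {B} hB => hno B hB }
  rw [IsTrivialBlock, not_or, Set.not_subsingleton_iff] at hnt
  obtain ⟨a, ha⟩ := hnt.1.nonempty
  have hb : 2 ≤ B.ncard := (Set.one_lt_ncard (Set.toFinite B)).2 hnt.1
  have hmul := hB.ncard_block_mul_ncard_orbit_eq ⟨a, ha⟩
  have hm : 2 ≤ (orbit G B).ncard := by
    by_contra h
    push Not at h
    have hlt : B.ncard < Nat.card Ω := by
      rw [← Set.ncard_univ]
      exact Set.ncard_lt_ncard (Set.ssubset_univ_iff.2 hnt.2) Set.finite_univ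
    interval_cases h' : (orbit G B).ncard <;> omega
  have h1 := Nat.le_of_dvd (by omega) (index_dvd_block D hD hB ha)
  have h2 := Nat.le_of_dvd (by omega) (index_dvd_blocks D hD hB ha)
  rw [← hmul, pow_two]
  exact Nat.mul_le_mul (by omega) (by omega)

theorem isPrimePow_of_index_eq [FaithfulSMul G Ω] (hn : 2 ≤ Nat.card Ω)
    (he : D.index = Nat.card Ω - 1) : IsPrimePow (Nat.card Ω) := by
  classical
  obtain ⟨a⟩ : Nonempty Ω := (Nat.card_pos_iff.1 (by omega)).1
  set H := stabilizer G a
  set K := D.subgroupOf H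
  let X := SubMulAction.ofStabilizer G a
  have hKi : K.index = Nat.card Ω - 1 := (index_subgroupOf D hD a).trans he
  have hcX : Nat.card X = Nat.card Ω - 1 := SubMulAction.nat_card_ofStabilizer_eq G a
  have horb : ∀ x : X, orbit H x = Set.univ ∧ stabilizer H x = K := by
    intro x
    have hle : stabilizer H x ≤ K := stabilizer_le D hD a (fun x : X => (x : Ω)) (fun x => x.2)
      (fun h x hx => congrArg Subtype.val hx) x
    have h1 := Subgroup.index_dvd_of_le hle
    have h2 : (stabilizer H x).index ≤ Nat.card Ω - 1 := by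
      rw [index_stabilizer, ← hcX, ← Set.ncard_univ]
      exact Set.ncard_le_ncard (Set.subset_univ _)
    have h3 : (stabilizer H x).index = Nat.card Ω - 1 :=
      le_antisymm h2 (hKi ▸ Nat.le_of_dvd (Nat.pos_of_ne_zero Subgroup.index_ne_zero_of_finite) h1)
    refine ⟨Set.eq_of_subset_of_ncard_le (Set.subset_univ _) (by
      rw [Set.ncard_univ, hcX, ← h3, index_stabilizer]), ?_⟩
    refine Subgroup.eq_of_le_of_card_ge hle ?_
    have h4 := Subgroup.card_mul_index K
    have h5 := Subgroup.card_mul_index (stabilizer H x)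
    rw [hKi] at h4
    rw [h3] at h5
    exact (Nat.eq_of_mul_eq_mul_right (by omega) (h4.trans h5.symm)).le
  have hreg : ∀ d ∈ D, ∀ b : Ω, d • b = b → d = 1 := by
    have hK1 : ∀ d ∈ D, d • a = a → d = 1 := fun d hd hda => by
      refine FaithfulSMul.eq_of_smul_eq_smul (α := Ω) fun b => ?_
      rw [one_smul]
      by_cases hb : b = a
      · rw [hb, hda]
      · have hmem : (⟨d, mem_stabilizer_iff.2 hda⟩ : H) ∈ K := hd
        rw [← (horb ⟨b, hb⟩).2] at hmem
        exact congrArg Subtype.val (mem_stabilizer_iff.1 hmem)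
    intro d hd b hb
    obtain ⟨c, hc⟩ := exists_smul_eq G a b
    have := hK1 (c⁻¹ * d * c) (by simpa using Subgroup.Normal.conj_mem inferInstance d hd c⁻¹)
      (by rw [mul_smul, mul_smul, hc, hb, inv_smul_eq_iff, hc])
    rwa [mul_assoc, inv_mul_eq_one, right_eq_mul] at this
  have hbij : Function.Bijective (fun d : D => (d : G) • a) := by
    refine ⟨fun d d' h => Subtype.ext ?_, fun b => ?_⟩
    · have := hreg ((d' : G)⁻¹ * d) (mul_mem (inv_mem d'.2) d.2) a (by
        rw [mul_smul, inv_smul_eq_iff]; exact h)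
      exact (inv_mul_eq_one.1 this).symm
    · obtain ⟨d, hd, hdb⟩ := transitive D hD a b
      exact ⟨⟨d, hd⟩, hdb⟩
  have hcard : Nat.card D = Nat.card Ω := Nat.card_eq_of_bijective _ hbij
  haveI : Nontrivial D := Finite.one_lt_card_iff_nontrivial.1 (by omega)
  obtain ⟨d₀, hd₀⟩ := exists_ne (1 : D)
  have hord : ∀ d : D, d ≠ 1 → orderOf d = orderOf d₀ := by
    intro d hd
    have hne : ∀ d : D, d ≠ 1 → (d : G) • a ≠ a := fun d hd e => hd (Subtype.ext (hreg d d.2 a e))
    have hmem : (⟨(d : G) • a, hne d hd⟩ : X) ∈ orbit H (⟨(d₀ : G) • a, hne d₀ hd₀⟩ : X) :=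
      (horb _).1 ▸ Set.mem_univ _
    obtain ⟨h, hh⟩ := hmem
    have hh' : (h : G) • (d₀ : G) • a = (d : G) • a := congrArg Subtype.val hh
    have hconj : (h : G) * d₀ * (h : G)⁻¹ = d := by
      have hmemD : (h : G) * d₀ * (h : G)⁻¹ ∈ D := Subgroup.Normal.conj_mem inferInstance _ d₀.2 _
      refine congrArg Subtype.val (hbij.1 (a₁ := ⟨_, hmemD⟩) (a₂ := d) ?_)
      show ((h : G) * d₀ * (h : G)⁻¹) • a = (d : G) • a
      rw [mul_smul, inv_smul_eq_iff.2 (mem_stabilizer_iff.1 h.2).symm, mul_smul, hh']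
    rw [← Subgroup.orderOf_coe, ← hconj, ← Subgroup.orderOf_coe d₀]
    exact (MulAut.conj (h : G)).orderOf_eq _
  obtain ⟨p, hp, hpd⟩ := Nat.exists_prime_and_dvd (show orderOf d₀ ≠ 1 by simpa using hd₀)
  have hp0 : orderOf d₀ = p := by
    have h1 := orderOf_pow_orderOf_div (x := d₀) (orderOf_pos d₀).ne' hpd
    rw [← hord (d₀ ^ (orderOf d₀ / p)) (fun e => hp.ne_one (by rw [← h1, e, orderOf_one]))]
    exact h1
  haveI := Fact.mk hp
  have hpg : IsPGroup p D := fun d => ⟨1, by
    by_cases hd : d = 1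
    · simp [hd]
    · rw [pow_one, ← hp0, ← hord d hd, pow_orderOf_eq_one]⟩
  obtain ⟨k, hk⟩ := IsPGroup.iff_card.1 hpg
  rw [← hcard, hk]
  refine IsPrimePow.pow ?_ ?_
  · exact hp.isPrimePow
  · rintro rfl
    rw [pow_zero] at hk
    omega

/-- The orbitals of `D` and of `G`. -/
theorem rank_formula :
    Nat.card (orbitRel.Quotient D (Ω × Ω)) - 1 =
      (Nat.card (orbitRel.Quotient G (Ω × Ω)) - 1) * D.index := by
  classical
  rcases isEmpty_or_nonempty Ω with hΩ | hΩ
  · simp
  haveI := Fintype.ofFinite G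
  haveI := Fintype.ofFinite Ω
  haveI : Fintype D := Fintype.ofFinite _
  haveI : Fintype (orbitRel.Quotient G (Ω × Ω)) := Fintype.ofFinite _
  haveI : Fintype (orbitRel.Quotient D (Ω × Ω)) := Fintype.ofFinite _
  have hG := sum_card_fixedBy_eq_card_orbits_mul_card_group G (Ω × Ω)
  have hD' := sum_card_fixedBy_eq_card_orbits_mul_card_group D (Ω × Ω)
  have hout : ∀ g : G, g ∉ D → Fintype.card (fixedBy (Ω × Ω) g) = 1 := by
    intro g hg
    obtain ⟨x, hx⟩ : ∃ x : Ω, g • x = x := by
      by_contra h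
      push Not at h
      exact hg (hD g h)
    refine Fintype.card_eq_one_iff.2 ⟨⟨(x, x), Prod.ext hx hx⟩, fun ⟨q, hq⟩ => Subtype.ext ?_⟩
    exact Prod.ext (unique_fixed D hD hg (congrArg Prod.fst hq) hx)
      (unique_fixed D hD hg (congrArg Prod.snd hq) hx)
  rw [← Finset.sum_filter_add_sum_filter_not Finset.univ (fun g : G => g ∈ D)] at hG
  rw [Finset.sum_congr rfl (g := fun _ => 1) fun g (hg : g ∈ Finset.univ.filter fun g : G => g ∉ D) =>
    hout g (Finset.mem_filter.1 hg).2, Finset.sum_const, smul_eq_mul, mul_one,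
    Finset.sum_subtype (p := (· ∈ D)) _ (fun g => by simp)] at hG
  have hc := Finset.card_filter_add_card_filter_not (s := (Finset.univ : Finset G)) (fun g => g ∈ D)
  rw [Finset.card_univ, ← Nat.card_eq_fintype_card,
    show (Finset.univ.filter fun g : G => g ∈ D).card = Fintype.card D by
      rw [Fintype.card_subtype]] at hc
  have hidx := Subgroup.card_mul_index D
  rw [Nat.card_eq_fintype_card (α := D)] at hidx
  haveI : Nonempty (orbitRel.Quotient G (Ω × Ω)) := hΩ.map fun x => Quotient.mk'' (x, x)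
  have hpos : 1 ≤ Nat.card (orbitRel.Quotient G (Ω × Ω)) := Nat.card_pos
  rw [← Nat.card_eq_fintype_card (α := orbitRel.Quotient G (Ω × Ω)),
    ← Nat.card_eq_fintype_card (α := G)] at hG
  rw [← Nat.card_eq_fintype_card (α := orbitRel.Quotient D (Ω × Ω))] at hD'
  have hD'' : ∑ g : D, Fintype.card (fixedBy (Ω × Ω) (g : G)) =
      Nat.card (orbitRel.Quotient D (Ω × Ω)) * Fintype.card D := by
    rw [← hD']
    exact Finset.sum_congr rfl fun g _ => Fintype.card_congr' rfl
  rw [hD'', ← hidx] at hG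
  rw [← hidx] at hc
  set a := Nat.card (orbitRel.Quotient D (Ω × Ω))
  set b := Nat.card (orbitRel.Quotient G (Ω × Ω))
  have hd : 0 < Fintype.card D := Fintype.card_pos
  have he : 1 ≤ D.index := Nat.one_le_iff_ne_zero.2 Subgroup.index_ne_zero_of_finite
  have key : a + D.index = b * D.index + 1 := by
    refine Nat.eq_of_mul_eq_mul_left hd ?_
    linarith [hG, hc]
  rw [Nat.sub_mul, one_mul]
  omega

end Cfsg.Lib.Recog.Derange
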