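import Mathlib.GroupTheory.GroupAction.Jordan
import Mathlib.GroupTheory.GroupAction.Primitive
import Mathlib.Algebra.Group.Action.Pointwise.Finset
import Mathlib.Algebra.Order.BigOperators.Group.Finset

/-!
# Jordan sets in finite permutation groups

* `preprimitive_of_quasi`: quasiprimitivity and a primitive Jordan set force primitivity;
* `three_transitive`: a primitive group with a Jordan set of size at most half the degree is
  three-transitive (Marggraf).
-/

set_option autoImplicit false
set_option linter.style.haveILetI false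
set_option linter.unusedSectionVars false

namespace Cfsg.Lib.Recog.JordanSet

open MulAction
open scoped Pointwise

variable {G Ω : Type*} [Group G] [MulAction G Ω]

/-- A set on which the pointwise stabilizer of its complement is transitive. -/
def IsJordan (G : Type*) {Ω : Type*} [Group G] [MulAction G Ω] (B : Set Ω) : Prop :=
  ∀ x ∈ B, ∀ y ∈ B, ∃ g : G, (∀ z ∉ B, g • z = z) ∧ g • x = y

theorem IsJordan.smul {B : Set Ω} (h : IsJordan G B) (c : G) : IsJordan G (c • B) := by
  rintro _ ⟨x, hx, rfl⟩ _ ⟨y, hy, rfl⟩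
  obtain ⟨g, hg, hgx⟩ := h x hx y hy
  refine ⟨c * g * c⁻¹, fun z hz => ?_, ?_⟩
  · rw [mul_smul, mul_smul, hg _ fun hm => hz ⟨c⁻¹ • z, hm, smul_inv_smul c z⟩, smul_inv_smul]
  · show (c * g * c⁻¹) • c • x = c • y
    rw [mul_smul, mul_smul, inv_smul_smul, hgx]

theorem IsJordan.transitive {B : Set Ω} (h : IsJordan G B) :
    IsPretransitive (fixingSubgroup G Bᶜ) (SubMulAction.ofFixingSubgroup G Bᶜ) := by
  refine ⟨fun ⟨x, hx⟩ ⟨y, hy⟩ => ?_⟩
  rw [SubMulAction.mem_ofFixingSubgroup_iff, Set.notMem_compl_iff] at hx hy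
  obtain ⟨g, hg, hgx⟩ := h x hx y hy
  exact ⟨⟨g, (mem_fixingSubgroup_iff _).2 hg⟩, Subtype.ext hgx⟩

/-- Quasiprimitivity and a primitive Jordan set give primitivity. -/
theorem preprimitive_of_quasi [Finite Ω] [FaithfulSMul G Ω]
    (hqp : ∀ N : Subgroup G, N.Normal → N ≠ ⊥ → IsPretransitive N Ω) (Γ : Set Ω) (hΓ1 : 1 < Γ.ncard)
    (_hΓ2 : Γ.ncard < Nat.card Ω)
    (hJ : IsPretransitive (fixingSubgroup G Γᶜ) (SubMulAction.ofFixingSubgroup G Γᶜ))
    (hJp : IsPreprimitive (fixingSubgroup G Γᶜ) (SubMulAction.ofFixingSubgroup G Γᶜ)) :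
    IsPreprimitive G Ω := by
  classical
  obtain ⟨c, hc, d, hd, hcd⟩ := (Set.one_lt_ncard (Set.toFinite Γ)).1 hΓ1
  have hcmem : c ∈ SubMulAction.ofFixingSubgroup G Γᶜ := by
    rw [SubMulAction.mem_ofFixingSubgroup_iff, Set.notMem_compl_iff]; exact hc
  have hdmem : d ∈ SubMulAction.ofFixingSubgroup G Γᶜ := by
    rw [SubMulAction.mem_ofFixingSubgroup_iff, Set.notMem_compl_iff]; exact hd
  obtain ⟨⟨g₀, hg₀⟩, hgc⟩ := hJ.exists_smul_eq ⟨c, hcmem⟩ ⟨d, hdmem⟩
  have hgc : g₀ • c = d := congrArg Subtype.val hgc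
  haveI htop : IsPretransitive G Ω := by
    have hne : (⊤ : Subgroup G) ≠ ⊥ := fun h => hcd (by
      have : g₀ ∈ (⊥ : Subgroup G) := h ▸ Subgroup.mem_top g₀
      rw [Subgroup.mem_bot] at this
      rw [← hgc, this, one_smul])
    have := hqp ⊤ inferInstance hne
    exact ⟨fun x y => let ⟨g, hg⟩ := this.exists_smul_eq x y; ⟨(g : G), hg⟩⟩
  refine IsPreprimitive.of_isTrivialBlock_base c fun {C} hcC hC => ?_
  by_contra hnt
  rw [IsTrivialBlock, not_or, Set.not_subsingleton_iff] at hnt
  obtain ⟨e, heC, hec⟩ : ∃ e ∈ C, e ≠ c := hnt.1.exists_ne c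
  -- a block either contains the Jordan set or meets it in one point
  have hblock : IsBlock (fixingSubgroup G Γᶜ) {x : SubMulAction.ofFixingSubgroup G Γᶜ | (x : Ω) ∈ C} := by
    rw [isBlock_iff_smul_eq_of_mem]
    rintro ⟨g, hg⟩ x hx hgx
    have h1 : g • C = C := hC.smul_eq_of_mem hx hgx
    ext y
    rw [Set.mem_smul_set_iff_inv_smul_mem]
    show g⁻¹ • (y : Ω) ∈ C ↔ (y : Ω) ∈ C
    rw [← Set.mem_smul_set_iff_inv_smul_mem, h1]
  rcases hJp.isTrivialBlock_of_isBlock hblock with hs | hu
  · -- the block meets the Jordan set only in `c`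
    have honly : ∀ f ∈ C, f ∈ Γ → f = c := fun f hf hfΓ => by
      have hfm : f ∈ SubMulAction.ofFixingSubgroup G Γᶜ := by
        rw [SubMulAction.mem_ofFixingSubgroup_iff, Set.notMem_compl_iff]; exact hfΓ
      exact congrArg Subtype.val (hs (x := ⟨f, hfm⟩) hf (y := ⟨c, hcmem⟩) hcC)
    have he : e ∉ Γ := fun h => hec (honly e heC h)
    have hfix : g₀ • e = e := (mem_fixingSubgroup_iff G).1 hg₀ e he
    have h1 : g₀ • C = C := hC.smul_eq_of_mem heC (by rwa [hfix])
    refine hcd (honly d ?_ hd).symm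
    rw [← hgc, ← h1]
    exact Set.smul_mem_smul_set hcC
  · -- the block contains the Jordan set
    have hΓC : ∀ f ∈ Γ, f ∈ C := fun f hf => by
      have hfm : f ∈ SubMulAction.ofFixingSubgroup G Γᶜ := by
        rw [SubMulAction.mem_ofFixingSubgroup_iff, Set.notMem_compl_iff]; exact hf
      exact (Set.eq_univ_iff_forall.1 hu ⟨f, hfm⟩ :)
    let X := orbit G C
    let K := (MulAction.toPermHom G X).ker
    have hgK : g₀ ∈ K := by
      refine MonoidHom.mem_ker.2 (Equiv.ext fun ⟨D, t, ht⟩ => Subtype.ext ?_)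
      subst ht
      show g₀ • t • C = t • C
      by_cases htC : t • C = C
      · rw [htC]
        exact hC.smul_eq_of_mem hcC (hgc ▸ hΓC d hd)
      · have hout : t • c ∉ Γ := fun h => htC (hC.smul_eq_of_mem hcC (hΓC _ h))
        exact (hC.translate t).smul_eq_of_mem (a := t • c) (Set.smul_mem_smul_set hcC)
          (by rw [(mem_fixingSubgroup_iff G).1 hg₀ _ hout]; exact Set.smul_mem_smul_set hcC)
    have hKne : K ≠ ⊥ := fun h => hcd (by
      rw [h, Subgroup.mem_bot] at hgK
      rw [← hgc, hgK, one_smul])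
    have hKt := hqp K (MonoidHom.normal_ker _) hKne
    refine hnt.2 (Set.eq_univ_of_forall fun x => ?_)
    obtain ⟨⟨k, hk⟩, hkx⟩ := hKt.exists_smul_eq c x
    have h1 : k • C = C := congrArg Subtype.val
      (congrArg (fun p : Equiv.Perm X => p ⟨C, mem_orbit_self C⟩) (MonoidHom.mem_ker.1 hk))
    rw [← h1]
    exact ⟨c, hcC, hkx⟩

section Count

variable [Fintype Ω] [DecidableEq Ω] [Finite G]

/-- The translates of a set. -/
noncomputable def translates (G : Type*) [Group G] [MulAction G Ω] [Finite G] (Γ : Finset Ω) :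
    Finset (Finset Ω) := (Set.toFinite (orbit G Γ)).toFinset

theorem mem_translates {Γ B : Finset Ω} : B ∈ translates G Γ ↔ ∃ g : G, g • Γ = B := by
  rw [translates, Set.Finite.mem_toFinset]; rfl

theorem smul_mem_translates {Γ B : Finset Ω} (h : B ∈ translates G Γ) (g : G) :
    g • B ∈ translates G Γ := by
  obtain ⟨c, rfl⟩ := mem_translates.1 h
  exact mem_translates.2 ⟨g * c, mul_smul _ _ _⟩

/-- Number of translates through two points. -/
noncomputable def through (G : Type*) [Group G] [MulAction G Ω] [Finite G] (Γ : Finset Ω) (x y : Ω) : ℕ :=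
  ((translates G Γ).filter fun B => x ∈ B ∧ y ∈ B).card

theorem through_smul (Γ : Finset Ω) (g : G) (x y : Ω) :
    through G Γ (g • x) (g • y) = through G Γ x y := by
  refine (Finset.card_equiv (MulAction.toPerm g) fun B => ?_).symm
  rw [MulAction.toPerm_apply, Finset.mem_filter, Finset.mem_filter, Finset.smul_mem_smul_finset_iff,
    Finset.smul_mem_smul_finset_iff]
  exact and_congr_left fun _ => ⟨fun h => smul_mem_translates h g, fun h => by
    simpa using smul_mem_translates h g⁻¹⟩

variable [IsPretransitive G Ω]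

/-- Marggraf: a primitive group with a small Jordan set has primitive point stabilizers. -/
theorem stabilizer_preprimitive (h2 : IsMultiplyPretransitive G Ω 2) (Γ : Finset Ω) (h1 : 1 < Γ.card)
    (hn : 2 * Γ.card ≤ Fintype.card Ω) (hJ : IsJordan G (Γ : Set Ω)) (a : Ω) :
    IsPreprimitive (stabilizer G a) (SubMulAction.ofStabilizer G a) := by
  classical
  set n := Fintype.card Ω
  set m := Γ.card
  haveI : IsPretransitive (stabilizer G a) (SubMulAction.ofStabilizer G a) :=
    is_one_pretransitive_iff.1 (SubMulAction.ofStabilizer.isMultiplyPretransitive.1 h2)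
  obtain ⟨c', hc'⟩ : ∃ c : Ω, c ≠ a := Fintype.exists_ne_of_one_lt_card (by omega) a
  refine IsPreprimitive.of_isTrivialBlock_base (⟨c', hc'⟩ : SubMulAction.ofStabilizer G a)
    fun {C} hcC hC => ?_
  by_contra hnt
  rw [IsTrivialBlock, not_or, Set.not_subsingleton_iff] at hnt
  set C' : Finset Ω := (C.toFinite.toFinset).map ⟨Subtype.val, Subtype.val_injective⟩ with hC'
  have hmem : ∀ x : SubMulAction.ofStabilizer G a, (x : Ω) ∈ C' ↔ x ∈ C := by simp [hC']
  have hval : ∀ x ∈ C', x ≠ a := by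
    intro x hx
    simp only [hC', Finset.mem_map, Function.Embedding.coeFn_mk] at hx
    obtain ⟨y, -, rfl⟩ := hx
    exact y.2
  -- the incidence numbers
  set lam := through G Γ c' a with hlam
  have hthrough : ∀ x y : Ω, x ≠ y → through G Γ x y = lam := fun x y hxy => by
    obtain ⟨g, hgx, hgy⟩ := MulAction.is_two_pretransitive_iff.1 h2 hc' hxy
    rw [← hgx, ← hgy, through_smul]
  set r := ((translates G Γ).filter fun B => c' ∈ B).card with hr
  have hcardB : ∀ B ∈ translates G Γ, B.card = m := fun B hB => by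
    obtain ⟨g, rfl⟩ := mem_translates.1 hB
    exact Finset.card_smul_finset g Γ
  have hsum : r * (m - 1) = lam * (n - 1) := by
    have h := Finset.sum_comm' (s := (translates G Γ).filter fun B => c' ∈ B)
      (t := fun B => B.erase c') (t' := (Finset.univ : Finset Ω).erase c')
      (s' := fun y => (translates G Γ).filter fun B => c' ∈ B ∧ y ∈ B) (f := fun _ _ => 1)
      (by intro B y; simp only [Finset.mem_filter, Finset.mem_erase, Finset.mem_univ]; tauto)
    simp only [Finset.sum_const, smul_eq_mul, mul_one] at h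
    rw [Finset.sum_congr rfl fun B hB => by
      rw [Finset.card_erase_of_mem (Finset.mem_filter.1 hB).2, hcardB B (Finset.mem_filter.1 hB).1],
      Finset.sum_const, smul_eq_mul] at h
    rw [Finset.sum_congr rfl (g := fun _ => lam) fun y hy =>
      (show ((translates G Γ).filter fun B => c' ∈ B ∧ y ∈ B).card = lam from
        hthrough c' y (Finset.mem_erase.1 hy).1.symm),
      Finset.sum_const, smul_eq_mul, Finset.card_erase_of_mem (Finset.mem_univ _), Finset.card_univ] at h
    rw [hr, mul_comm lam]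
    exact h
  have hr0 : 0 < r := by
    obtain ⟨x, hx⟩ := Finset.card_pos.1 (by omega : 0 < Γ.card)
    obtain ⟨g, hg⟩ := exists_smul_eq G x c'
    exact Finset.card_pos.2 ⟨g • Γ, Finset.mem_filter.2
      ⟨mem_translates.2 ⟨g, rfl⟩, hg ▸ Finset.smul_mem_smul_finset hx⟩⟩
  have hlam0 : 0 < lam := by
    rcases Nat.eq_zero_or_pos lam with h | h
    · rw [h, zero_mul, mul_eq_zero] at hsum; omega
    · exact h
  set T := (translates G Γ).filter fun B => c' ∈ B ∧ a ∉ B with hT
  have hTcard : T.card + lam = r := by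
    have h := Finset.card_filter_add_card_filter_not (s := (translates G Γ).filter fun B => c' ∈ B)
      (fun B => a ∉ B)
    simp only [Finset.filter_filter, not_not] at h
    exact h
  have hcC' : c' ∈ C' := (hmem ⟨c', hc'⟩).2 hcC
  have hdich : ∀ B ∈ T, B ⊆ C' ∨ C' ⊆ B := by
    intro B hB
    obtain ⟨hB1, hcB, haB⟩ := Finset.mem_filter.1 hB
    by_contra hno
    push Not at hno
    obtain ⟨f, hfB, hfC⟩ := Finset.not_subset.1 hno.1
    obtain ⟨d, hdC, hdB⟩ := Finset.not_subset.1 hno.2
    obtain ⟨g, rfl⟩ := mem_translates.1 hB1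
    have hJ' := hJ.smul g
    rw [← Finset.coe_smul_finset] at hJ'
    obtain ⟨h, hfix, hhc⟩ := hJ' c' hcB f hfB
    have hha : h • a = a := hfix a haB
    have hhd : h • d = d := hfix d hdB
    let h' : stabilizer G a := ⟨h, hha⟩
    have h1 : h' • C = C := hC.smul_eq_of_mem (a := ⟨d, hval d hdC⟩) ((hmem ⟨d, hval d hdC⟩).1 hdC)
      (by
        have e : h' • (⟨d, hval d hdC⟩ : SubMulAction.ofStabilizer G a) = ⟨d, hval d hdC⟩ :=
          Subtype.ext hhd
        rw [e]
        exact (hmem ⟨d, hval d hdC⟩).1 hdC)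
    have h2' : h' • (⟨c', hc'⟩ : SubMulAction.ofStabilizer G a) ∈ C := by
      rw [← h1]; exact Set.smul_mem_smul_set hcC
    have h3 := (hmem _).2 h2'
    rw [show ((h' • (⟨c', hc'⟩ : SubMulAction.ofStabilizer G a) :
      SubMulAction.ofStabilizer G a) : Ω) = f from hhc] at h3
    exact hfC h3
  have hk : 2 * C'.card ≤ n - 1 := by
    have hcardC : C'.card = C.ncard := by
      rw [hC', Finset.card_map, Set.ncard_eq_toFinset_card]
    have hmul := hC.ncard_block_mul_ncard_orbit_eq ⟨_, hcC⟩
    rw [SubMulAction.nat_card_ofStabilizer_eq G a, Nat.card_eq_fintype_card] at hmul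
    have hlt : C.ncard < n - 1 := by
      have := Set.ncard_lt_ncard (Set.ssubset_univ_iff.2 hnt.2) Set.finite_univ
      rwa [Set.ncard_univ, SubMulAction.nat_card_ofStabilizer_eq G a, Nat.card_eq_fintype_card] at this
    have : 2 ≤ (orbit (stabilizer G a) C).ncard := by
      by_contra h
      push Not at h
      interval_cases h' : (orbit (stabilizer G a) C).ncard <;> omega
    rw [hcardC, ← hmul, mul_comm]
    exact Nat.mul_le_mul_left _ this
  have h2C : 2 ≤ C'.card := by
    rw [hC', Finset.card_map, ← Set.ncard_eq_toFinset_card]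
    exact (Set.one_lt_ncard (Set.toFinite C)).2 hnt.1
  by_cases hbig : ∃ B ∈ T, ¬ B ⊆ C'
  · -- every translate at `c'` avoiding `a` contains the block
    obtain ⟨B₀, hB₀, hnot⟩ := hbig
    have hkm : C'.card < m := by
      rw [← hcardB B₀ (Finset.mem_filter.1 hB₀).1]
      exact Finset.card_lt_card ⟨(hdich B₀ hB₀).resolve_left hnot, hnot⟩
    have hall : ∀ B ∈ T, C' ⊆ B := fun B hB => (hdich B hB).resolve_left fun h => by
      have := Finset.card_le_card h
      rw [hcardB B (Finset.mem_filter.1 hB).1] at this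
      omega
    obtain ⟨d, hdC, hdc⟩ : ∃ d ∈ C', d ≠ c' := Finset.exists_mem_ne (by omega) c'
    have hle : T.card ≤ lam := by
      rw [← hthrough c' d hdc.symm]
      refine Finset.card_le_card fun B hB => ?_
      obtain ⟨hB1, hcB, -⟩ := Finset.mem_filter.1 hB
      exact Finset.mem_filter.2 ⟨hB1, hcB, hall B hB hdC⟩
    have h3 : r * (m - 1) ≤ 2 * lam * (m - 1) := Nat.mul_le_mul_right _ (by omega)
    rw [hsum, mul_comm 2 lam, mul_assoc] at h3
    have := Nat.le_of_mul_le_mul_left h3 hlam0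
    omega
  · push Not at hbig
    have h := Finset.sum_le_sum_of_subset (f := fun B : Finset Ω => ((C'.erase c').filter fun d => d ∈ B).card)
      (s := T) (t := (translates G Γ).filter fun B => c' ∈ B)
      (fun B hB => Finset.mem_filter.2 ⟨(Finset.mem_filter.1 hB).1, (Finset.mem_filter.1 hB).2.1⟩)
    rw [Finset.sum_congr rfl (g := fun _ => m - 1) fun B hB => by
      obtain ⟨hB1, hcB, -⟩ := Finset.mem_filter.1 hB
      rw [← hcardB B hB1, ← Finset.card_erase_of_mem hcB]
      congr 1
      ext d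
      simp only [Finset.mem_filter, Finset.mem_erase]
      exact ⟨fun h => ⟨h.1.1, h.2⟩, fun h => ⟨⟨h.1, hbig B hB h.2⟩, h.2⟩⟩] at h
    simp only [Finset.sum_const, smul_eq_mul, Finset.card_filter] at h
    rw [Finset.sum_comm] at h
    simp only [← Finset.card_filter, Finset.filter_filter] at h
    rw [Finset.sum_congr rfl (g := fun _ => lam) fun d hd =>
      (show ((translates G Γ).filter fun B => c' ∈ B ∧ d ∈ B).card = lam from
        hthrough c' d (Finset.mem_erase.1 hd).1.symm),
      Finset.sum_const, smul_eq_mul, Finset.card_erase_of_mem hcC'] at h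
    have h3 : T.card * (m - 1) + lam * (m - 1) = lam * (n - 1) := by rw [← add_mul, hTcard, hsum]
    have h4 : lam * (n - 1) ≤ lam * ((C'.card - 1) + (m - 1)) := by
      rw [← h3, mul_add, mul_comm lam (C'.card - 1)]
      omega
    have := Nat.le_of_mul_le_mul_left h4 hlam0
    omega

end Count

/-- Marggraf's theorem. -/
theorem three_transitive [Finite G] [Finite Ω] (hprim : IsPreprimitive G Ω) (Γ : Set Ω) (h1 : 1 < Γ.ncard)
    (h2 : 2 * Γ.ncard ≤ Nat.card Ω) (hJ : IsJordan G Γ) : IsMultiplyPretransitive G Ω 3 := by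
  classical
  haveI := Fintype.ofFinite Ω
  haveI := hprim.toIsPretransitive
  have hcompl := Set.ncard_add_ncard_compl Γ
  have h2t : IsMultiplyPretransitive G Ω 2 :=
    hprim.is_two_pretransitive (s := Γᶜ) (n := Γᶜ.ncard - 1) (by omega) (by omega) hJ.transitive
  obtain ⟨a, ha⟩ : ∃ a, a ∉ Γ := by
    by_contra h
    push Not at h
    rw [Set.eq_univ_of_forall h, Set.ncard_univ] at h2 h1
    omega
  rw [show (3 : ℕ) = Nat.succ 2 from rfl, SubMulAction.ofStabilizer.isMultiplyPretransitive (a := a)]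
  have hp := stabilizer_preprimitive h2t Γ.toFinset (by rwa [← Set.ncard_eq_toFinset_card'])
    (by rwa [← Set.ncard_eq_toFinset_card', ← Nat.card_eq_fintype_card]) (by rwa [Set.coe_toFinset]) a
  set Γ' : Set (SubMulAction.ofStabilizer G a) := {x | (x : Ω) ∈ Γ} with hΓ'
  have hJ' : IsJordan (stabilizer G a) Γ' := by
    rintro ⟨x, hxa⟩ hx ⟨y, hya⟩ hy
    obtain ⟨g, hg, hgx⟩ := hJ x hx y hy
    exact ⟨⟨g, hg a ha⟩, fun z hz => Subtype.ext (hg z hz), Subtype.ext hgx⟩
  have hcard : Γ'.ncard = Γ.ncard := by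
    rw [← Set.ncard_image_of_injective Γ' Subtype.val_injective]
    congr 1
    ext x
    constructor
    · rintro ⟨y, hy, rfl⟩; exact hy
    · intro hx; exact ⟨⟨x, fun h => ha (h ▸ hx)⟩, hx, rfl⟩
  have hc' := Set.ncard_add_ncard_compl Γ'
  rw [SubMulAction.nat_card_ofStabilizer_eq G a, hcard] at hc'
  exact hp.is_two_pretransitive (s := Γ'ᶜ) (n := Γ'ᶜ.ncard - 1) (by omega)
    (by rw [SubMulAction.nat_card_ofStabilizer_eq G a]; omega) hJ'.transitive

end Cfsg.Lib.Recog.JordanSet
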