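import Cfsg.Agent.Lib.Recog.JordanSet
import Mathlib.Data.Nat.Factorial.BigOperators
import Mathlib.Data.Rat.Floor
import Mathlib.GroupTheory.SpecificGroups.Alternating
import Mathlib.Tactic.FieldSimp
import Mathlib.Tactic.Linarith
import Mathlib.Tactic.Ring

/-!
# Marggraf's theorem

A primitive group with a Jordan set of fewer than half of the points contains the alternating group.
The translates of the Jordan set form a `t`-design; an imprimitive stabilizer of `t - 1` points would
force an empty intersection pattern on `t + 1` points, which the design parameters forbid.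
-/

set_option autoImplicit false
set_option linter.style.haveILetI false
set_option linter.unusedSectionVars false

namespace Cfsg.Lib.Recog.Marggraf

open MulAction Cfsg.Lib.Recog.JordanSet
open scoped Pointwise

/-- The chance that a random `m`-subset of `m + q` points contains `j` and avoids `s` given points. -/
def rate (m q j s : ℕ) : ℚ :=
  ((m.descFactorial j : ℚ) * q.descFactorial s) / (m + q).descFactorial (j + s)

theorem cast_descFactorial_succ (n k : ℕ) :
    ((n.descFactorial (k + 1) : ℕ) : ℚ) = ((n : ℚ) - k) * n.descFactorial k := by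
  rw [Nat.descFactorial_succ]
  rcases Nat.lt_or_ge n k with h | h
  · simp [Nat.descFactorial_eq_zero_iff_lt.2 h]
  · push_cast [Nat.cast_sub h]; ring

theorem rate_split {m q j s : ℕ} (h : j + s < m + q) :
    rate m q j s = rate m q (j + 1) s + rate m q j (s + 1) := by
  have h1 : ((m + q).descFactorial (j + s) : ℚ) ≠ 0 := by
    exact_mod_cast fun e => absurd (Nat.descFactorial_eq_zero_iff_lt.1 e) (by omega)
  have h2 : (((m + q : ℕ) : ℚ) - (j + s : ℕ)) ≠ 0 := by
    rw [sub_ne_zero]; exact_mod_cast h.ne'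
  unfold rate
  rw [show j + 1 + s = j + s + 1 by omega, show j + (s + 1) = j + s + 1 by omega,
    cast_descFactorial_succ, cast_descFactorial_succ, cast_descFactorial_succ]
  field_simp
  push_cast
  ring

theorem descFactorial_lt {a b : ℕ} (hab : a < b) : ∀ {k : ℕ}, k ≠ 0 → k ≤ b →
    a.descFactorial k < b.descFactorial k := by
  intro k hk hkb
  rcases Nat.lt_or_ge a k with h | h
  · rw [Nat.descFactorial_eq_zero_iff_lt.2 h]
    exact Nat.pos_of_ne_zero fun e => absurd (Nat.descFactorial_eq_zero_iff_lt.1 e) (by omega)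
  · obtain ⟨k, rfl⟩ := Nat.exists_eq_succ_of_ne_zero hk
    rw [Nat.descFactorial_succ, Nat.descFactorial_succ]
    refine Nat.mul_lt_mul_of_lt_of_le (by omega) (Nat.descFactorial_le k hab.le) ?_
    exact Nat.pos_of_ne_zero fun e => absurd (Nat.descFactorial_eq_zero_iff_lt.1 e) (by omega)

theorem descFactorial_add (n a b : ℕ) :
    n.descFactorial (a + b) = n.descFactorial a * (n - a).descFactorial b := by
  induction b with
  | zero => simp
  | succ b ih =>
    rw [← add_assoc, Nat.descFactorial_succ, Nat.descFactorial_succ, ih,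
      show n - (a + b) = n - a - b by omega]
    ring

/-- The pattern with more points inside is rarer. -/
theorem rate_lt {m q t j₀ j : ℕ} (hmq : m < q) (htm : t < m) (hj0 : 1 ≤ j₀) (hlt : j₀ < j)
    (hjt : t ≤ j) (hjt' : j ≤ t + 1) :
    rate m q j (t + 1 - j) < rate m q j₀ (t + 1 - j₀) := by
  unfold rate
  rw [show j + (t + 1 - j) = t + 1 by omega, show j₀ + (t + 1 - j₀) = t + 1 by omega]
  have hpos : (0 : ℚ) < (m + q).descFactorial (t + 1) := by
    exact_mod_cast Nat.pos_of_ne_zero fun e => absurd (Nat.descFactorial_eq_zero_iff_lt.1 e) (by omega)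
  rw [div_lt_div_iff_of_pos_right hpos]
  have h : m.descFactorial j * q.descFactorial (t + 1 - j) <
      m.descFactorial j₀ * q.descFactorial (t + 1 - j₀) := by
    rw [show j = j₀ + (j - j₀) by omega, descFactorial_add,
      show t + 1 - j₀ = (t + 1 - j) + (j - j₀) by omega, descFactorial_add,
      show t + 1 - (j₀ + (j - j₀)) = t + 1 - j by omega]
    have h1 : (m - j₀).descFactorial (j - j₀) < (q - (t + 1 - j)).descFactorial (j - j₀) :=
      descFactorial_lt (by omega) (by omega) (by omega)
    have h2 : 0 < m.descFactorial j₀ * q.descFactorial (t + 1 - j) := by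
      refine Nat.mul_pos ?_ ?_ <;>
        exact Nat.pos_of_ne_zero fun e => absurd (Nat.descFactorial_eq_zero_iff_lt.1 e) (by omega)
    calc m.descFactorial j₀ * (m - j₀).descFactorial (j - j₀) * q.descFactorial (t + 1 - j)
        = m.descFactorial j₀ * q.descFactorial (t + 1 - j) * (m - j₀).descFactorial (j - j₀) := by ring
      _ < m.descFactorial j₀ * q.descFactorial (t + 1 - j) * (q - (t + 1 - j)).descFactorial (j - j₀) :=
          Nat.mul_lt_mul_of_pos_left h1 h2
      _ = _ := by ring
  exact_mod_cast h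

variable {G Ω : Type*} [Group G] [MulAction G Ω] [Fintype Ω] [DecidableEq Ω] [Finite G]

/-- The number of translates containing `J` and avoiding `S`. -/
noncomputable def cnt (G : Type*) [Group G] [MulAction G Ω] [Finite G] (Γ J S : Finset Ω) : ℕ :=
  ((translates G Γ).filter fun B => J ⊆ B ∧ Disjoint S B).card

theorem cnt_split (Γ J S : Finset Ω) (e : Ω) :
    cnt G Γ J S = cnt G Γ (insert e J) S + cnt G Γ J (insert e S) := by
  unfold cnt
  rw [← Finset.card_filter_add_card_filter_not (s := (translates G Γ).filter fun B => J ⊆ B ∧ Disjoint S B)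
    (fun B => e ∈ B), Finset.filter_filter, Finset.filter_filter]
  congr 1 <;> refine congrArg Finset.card (Finset.filter_congr fun B _ => ?_)
  · rw [Finset.insert_subset_iff]; tauto
  · rw [Finset.disjoint_insert_left]; tauto

/-- Multiple transitivity moves sets. -/
theorem exists_smul_finset_eq {t : ℕ} (ht : IsMultiplyPretransitive G Ω t) (htn : t ≤ Nat.card Ω)
    {S S' : Finset Ω} (hS : S.card ≤ t) (h : S.card = S'.card) : ∃ g : G, g • S = S' := by
  haveI := ht
  haveI := isMultiplyPretransitive_of_le (G := G) (α := Ω) hS htn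
  obtain ⟨g, hg⟩ := exists_smul_eq G (S.equivFin.symm.toEmbedding.trans ⟨Subtype.val, Subtype.val_injective⟩)
    ((finCongr h).toEmbedding.trans (S'.equivFin.symm.toEmbedding.trans ⟨Subtype.val, Subtype.val_injective⟩))
  refine ⟨g, Finset.eq_of_subset_of_card_le (fun x hx => ?_) (by rw [Finset.card_smul_finset, h])⟩
  obtain ⟨y, hy, rfl⟩ := Finset.mem_smul_finset.1 hx
  have h1 := DFunLike.congr_fun hg (S.equivFin ⟨y, hy⟩)
  simp only [Function.Embedding.smul_apply, Function.Embedding.trans_apply, Equiv.coe_toEmbedding,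
    Equiv.symm_apply_apply, Function.Embedding.coeFn_mk] at h1
  rw [h1]
  exact Subtype.mem _

variable {Γ : Finset Ω} {t : ℕ}

theorem card_translate {B : Finset Ω} (hB : B ∈ translates G Γ) : B.card = Γ.card := by
  obtain ⟨g, rfl⟩ := mem_translates.1 hB
  exact Finset.card_smul_finset g Γ

/-- The translates form a `t`-design. -/
theorem cnt_eq_rate (ht : IsMultiplyPretransitive G Ω t) (htn : t ≤ Nat.card Ω) {q : ℕ}
    (hq : Γ.card + q = Fintype.card Ω) : ∀ (J S : Finset Ω), Disjoint J S → J.card + S.card ≤ t →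
      (cnt G Γ J S : ℚ) = (translates G Γ).card * rate Γ.card q J.card S.card := by
  intro J
  induction J using Finset.induction_on with
  | empty =>
    intro S _ hS
    rw [Finset.card_empty, zero_add] at hS
    have hcnt : ∀ S' ∈ (Finset.univ : Finset Ω).powersetCard S.card, cnt G Γ ∅ S' = cnt G Γ ∅ S := by
      intro S' hS'
      obtain ⟨g, hg⟩ := exists_smul_finset_eq ht htn hS (Finset.mem_powersetCard.1 hS').2.symm
      subst hg
      refine (Finset.card_equiv (MulAction.toPerm g) fun B => ?_).symm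
      rw [MulAction.toPerm_apply, Finset.mem_filter, Finset.mem_filter]
      refine and_congr ⟨fun h => smul_mem_translates h g, fun h => by
        simpa using smul_mem_translates h g⁻¹⟩ (and_congr (iff_of_true (Finset.empty_subset _)
          (Finset.empty_subset _)) ?_)
      simp only [Finset.disjoint_left]
      refine ⟨fun h x hx hxB => ?_, fun h x hx hxB =>
        h (Finset.smul_mem_smul_finset hx) (Finset.smul_mem_smul_finset hxB)⟩
      obtain ⟨y, hy, rfl⟩ := Finset.mem_smul_finset.1 hx
      exact h hy (Finset.smul_mem_smul_finset_iff g |>.1 hxB)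
    have hsum := Finset.sum_comm' (s := (Finset.univ : Finset Ω).powersetCard S.card)
      (t := fun S' => (translates G Γ).filter fun B => (∅ : Finset Ω) ⊆ B ∧ Disjoint S' B)
      (t' := translates G Γ) (s' := fun B => Bᶜ.powersetCard S.card) (f := fun _ _ => 1)
      (by
        intro S' B
        simp only [Finset.mem_powersetCard, Finset.mem_filter, Finset.empty_subset, Finset.subset_univ,
          true_and, Finset.subset_compl_iff_disjoint_right]
        tauto)
    simp only [Finset.sum_const, smul_eq_mul, mul_one] at hsum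
    have hcnt' : ∀ S' ∈ (Finset.univ : Finset Ω).powersetCard S.card,
        ((translates G Γ).filter fun B => (∅ : Finset Ω) ⊆ B ∧ Disjoint S' B).card = cnt G Γ ∅ S := hcnt
    rw [Finset.sum_congr rfl (g := fun _ => cnt G Γ ∅ S) hcnt',
      Finset.sum_congr (s₁ := translates G Γ) rfl (g := fun _ => q.choose S.card) (fun B hB => by
        rw [Finset.card_powersetCard, Finset.card_compl, card_translate hB, ← hq, Nat.add_sub_cancel_left]),
      Finset.sum_const, Finset.sum_const, smul_eq_mul, smul_eq_mul, Finset.card_powersetCard,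
      Finset.card_univ, ← hq] at hsum
    have hne : ((Γ.card + q).descFactorial S.card : ℚ) ≠ 0 := by
      rw [Nat.card_eq_fintype_card, ← hq] at htn
      exact_mod_cast fun e => absurd (Nat.descFactorial_eq_zero_iff_lt.1 e) (by omega)
    have h2 : (Γ.card + q).descFactorial S.card * cnt G Γ ∅ S =
        (translates G Γ).card * q.descFactorial S.card := by
      rw [Nat.descFactorial_eq_factorial_mul_choose, Nat.descFactorial_eq_factorial_mul_choose,
        mul_assoc, hsum]
      ring
    unfold rate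
    rw [Finset.card_empty, Nat.descFactorial_zero, Nat.cast_one, one_mul, zero_add, mul_div_assoc',
      eq_div_iff hne]
    exact_mod_cast (mul_comm _ _).trans h2
  | insert e J he ih =>
    intro S hd hle
    rw [Finset.disjoint_insert_left] at hd
    rw [Finset.card_insert_of_notMem he] at hle
    have hJe : Disjoint J (insert e S) := Finset.disjoint_insert_right.2 ⟨he, hd.2⟩
    have h1 := ih S hd.2 (by omega)
    have h2 := ih (insert e S) hJe (by rw [Finset.card_insert_of_notMem hd.1]; omega)
    rw [cnt_split Γ J S e, Nat.cast_add, h2, Finset.card_insert_of_notMem hd.1,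
      rate_split (j := J.card) (s := S.card) (by rw [Nat.card_eq_fintype_card, ← hq] at htn; omega), mul_add] at h1
    rw [Finset.card_insert_of_notMem he]
    linarith

/-- No intersection pattern with one or two points inside is empty on `t + 1` points. -/
theorem pattern_pos (ht : IsMultiplyPretransitive G Ω t) {q : ℕ} (hq : Γ.card + q = Fintype.card Ω)
    (hmq : Γ.card < q) (ht3 : 3 ≤ t) (htm : t < Γ.card) (J S : Finset Ω) (hd : Disjoint J S)
    (hcard : J.card + S.card = t + 1) (hJ : J.card = 1 ∨ J.card = 2) :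
    ∃ B ∈ translates G Γ, J ⊆ B ∧ Disjoint S B := by
  by_contra hno
  push Not at hno
  have hJS : cnt G Γ J S = 0 :=
    Finset.card_eq_zero.2 (Finset.filter_eq_empty_iff.2 fun B hB h => hno B hB h.1 h.2)
  have htn : t ≤ Nat.card Ω := by rw [Nat.card_eq_fintype_card]; omega
  set m := Γ.card
  set K : ℚ := ((translates G Γ).card : ℚ) with hK
  have hK0 : 0 < K := by
    rw [hK]; exact_mod_cast Finset.card_pos.2 ⟨Γ, mem_translates.2 ⟨1, one_smul _ _⟩⟩
  set X := J ∪ S with hX
  have hXc : X.card = t + 1 := by rw [hX, Finset.card_union_of_disjoint hd, hcard]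
  set E : ℚ := cnt G Γ ∅ X - K * rate m q 0 (t + 1) with hE
  have key : ∀ J' : Finset Ω, J' ⊆ X →
      (cnt G Γ J' (X \ J') : ℚ) - K * rate m q J'.card (t + 1 - J'.card) = (-1) ^ J'.card * E := by
    intro J'
    induction J' using Finset.induction_on with
    | empty => intro _; rw [Finset.sdiff_empty, hE, Finset.card_empty, pow_zero, one_mul, Nat.sub_zero]
    | insert e J' he ih =>
      intro hsub
      rw [Finset.insert_subset_iff] at hsub
      have hins : insert e (X \ insert e J') = X \ J' := by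
        ext x
        simp only [Finset.mem_insert, Finset.mem_sdiff]
        constructor
        · rintro (rfl | ⟨hx, hx'⟩)
          · exact ⟨hsub.1, he⟩
          · exact ⟨hx, fun h => hx' (Or.inr h)⟩
        · intro h; by_cases hxe : x = e
          · exact Or.inl hxe
          · exact Or.inr ⟨h.1, by tauto⟩
      have hc : J'.card + (X \ insert e J').card = t := by
        rw [Finset.card_sdiff_of_subset (Finset.insert_subset_iff.2 hsub), hXc,
          Finset.card_insert_of_notMem he]
        have := Finset.card_le_card (Finset.insert_subset_iff.2 hsub : insert e J' ⊆ X)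
        rw [hXc, Finset.card_insert_of_notMem he] at this
        omega
      have h1 := cnt_eq_rate ht htn hq J' (X \ insert e J')
        (Finset.disjoint_sdiff.mono_left (Finset.subset_insert e J')) hc.le
      rw [cnt_split Γ J' _ e, hins, Nat.cast_add, rate_split (by omega), mul_add] at h1
      have h2 := ih hsub.2
      rw [Finset.card_insert_of_notMem he, show t + 1 - (J'.card + 1) = (X \ insert e J').card by omega,
        pow_succ]
      rw [show t + 1 - J'.card = (X \ insert e J').card + 1 by omega] at h2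
      linarith
  have hJX : J ⊆ X := Finset.subset_union_left
  have hXJ : X \ J = S := Finset.union_sdiff_cancel_left hd
  have h0 := key J hJX
  rw [hXJ, hJS, Nat.cast_zero, zero_sub] at h0
  obtain ⟨j, hlt, hjt, hjt', hpar⟩ : ∃ j, J.card < j ∧ t ≤ j ∧ j ≤ t + 1 ∧ j % 2 = J.card % 2 := by
    by_cases h : (t + 1) % 2 = J.card % 2
    · exact ⟨t + 1, by omega, by omega, le_rfl, h⟩
    · exact ⟨t, by omega, le_rfl, by omega, by omega⟩
  obtain ⟨J', hJ'X, hJ'c⟩ := Finset.exists_subset_card_eq (s := X) (n := j) (by omega)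
  have h1 := key J' hJ'X
  rw [hJ'c] at h1
  have hp : ((-1 : ℚ) ^ j) = (-1) ^ J.card := by
    rw [← Nat.div_add_mod j 2, ← Nat.div_add_mod J.card 2, pow_add, pow_add, pow_mul, pow_mul, hpar]
    simp
  rw [hp, ← h0] at h1
  have h2 := mul_lt_mul_of_pos_left
    (rate_lt (j₀ := J.card) hmq htm (by omega) hlt hjt hjt') hK0
  have h3 : (0 : ℚ) ≤ (cnt G Γ J' (X \ J') : ℚ) := Nat.cast_nonneg _
  linarith

/-- The stabilizer of `t - 1` points of a `t`-transitive group is primitive on the other points. -/
theorem fixing_preprimitive (hJ : IsJordan G (Γ : Set Ω)) (hn : 2 * Γ.card < Fintype.card Ω)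
    (ht : IsMultiplyPretransitive G Ω t) (ht3 : 3 ≤ t) (htm : t < Γ.card) (R : Finset Ω)
    (hR : R.card + 1 = t) :
    IsPreprimitive (fixingSubgroup G (R : Set Ω)) (SubMulAction.ofFixingSubgroup G (R : Set Ω)) := by
  classical
  haveI := ht
  haveI : IsPretransitive (fixingSubgroup G (R : Set Ω)) (SubMulAction.ofFixingSubgroup G (R : Set Ω)) :=
    is_one_pretransitive_iff.1 (SubMulAction.ofFixingSubgroup.isMultiplyPretransitive G (R : Set Ω)
      (n := t) (m := 1) (by rw [Set.ncard_coe_finset, hR]))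
  obtain ⟨c', hc'⟩ : ∃ c : Ω, c ∉ R := by
    by_contra h
    push Not at h
    rw [show R = Finset.univ from Finset.eq_univ_iff_forall.2 h, Finset.card_univ] at hR
    omega
  have hmemR : ∀ x : Ω, x ∈ SubMulAction.ofFixingSubgroup G (R : Set Ω) ↔ x ∉ R := fun x => by
    rw [SubMulAction.mem_ofFixingSubgroup_iff, Finset.mem_coe]
  refine IsPreprimitive.of_isTrivialBlock_base
    (⟨c', (hmemR c').2 hc'⟩ : SubMulAction.ofFixingSubgroup G (R : Set Ω)) fun {C} hcC hC => ?_
  by_contra hnt
  rw [IsTrivialBlock, not_or, Set.not_subsingleton_iff] at hnt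
  set C' : Finset Ω := (C.toFinite.toFinset).map ⟨Subtype.val, Subtype.val_injective⟩ with hC'
  have hmem : ∀ x : SubMulAction.ofFixingSubgroup G (R : Set Ω), (x : Ω) ∈ C' ↔ x ∈ C := by simp [hC']
  obtain ⟨d, hd, hdc⟩ := hnt.1.exists_ne ⟨c', (hmemR c').2 hc'⟩
  obtain ⟨e, he⟩ : ∃ e, e ∉ C := by
    by_contra h
    push Not at h
    exact hnt.2 (Set.eq_univ_of_forall h)
  have hdR : (d : Ω) ∉ R := (hmemR _).1 d.2
  have heR : (e : Ω) ∉ R := (hmemR _).1 e.2
  have hdc' : c' ≠ (d : Ω) := fun h => hdc (Subtype.ext h.symm)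
  have hec' : c' ≠ (e : Ω) := fun h => he (by rwa [show e = ⟨c', (hmemR c').2 hc'⟩ from Subtype.ext h.symm])
  set q := Fintype.card Ω - Γ.card with hqdef
  have hq : Γ.card + q = Fintype.card Ω := by omega
  -- a translate avoiding `R` and some point of the block moves `c'` inside the block
  have hstay : ∀ B ∈ translates G Γ, Disjoint R B → c' ∈ B → ∀ z ∈ C', z ∉ B → B ⊆ C' := by
    intro B hB hRB hcB z hzC hzB f hfB
    obtain ⟨g, rfl⟩ := mem_translates.1 hB
    have hJ' := hJ.smul g
    rw [← Finset.coe_smul_finset] at hJ'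
    obtain ⟨h, hfix, hhc⟩ := hJ' c' hcB f hfB
    have hhR : h ∈ fixingSubgroup G (R : Set Ω) :=
      (mem_fixingSubgroup_iff G).2 fun y hy => hfix y (Finset.disjoint_left.1 hRB hy)
    have hzR : z ∉ R := by
      simp only [hC', Finset.mem_map, Function.Embedding.coeFn_mk] at hzC
      obtain ⟨y, -, rfl⟩ := hzC
      exact (hmemR _).1 y.2
    let h' : fixingSubgroup G (R : Set Ω) := ⟨h, hhR⟩
    let z' : SubMulAction.ofFixingSubgroup G (R : Set Ω) := ⟨z, (hmemR z).2 hzR⟩
    have hz' : h' • z' = z' := Subtype.ext (hfix z hzB)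
    have h1 : h' • C = C := hC.smul_eq_of_mem (a := z') ((hmem z').1 hzC)
      (by rw [hz']; exact (hmem z').1 hzC)
    have h2 : h' • (⟨c', (hmemR c').2 hc'⟩ : SubMulAction.ofFixingSubgroup G (R : Set Ω)) ∈ C := by
      rw [← h1]; exact Set.smul_mem_smul_set hcC
    have h3 := (hmem _).2 h2
    rwa [show ((h' • (⟨c', (hmemR c').2 hc'⟩ : SubMulAction.ofFixingSubgroup G (R : Set Ω)) :
      SubMulAction.ofFixingSubgroup G (R : Set Ω)) : Ω) = f from hhc] at h3
  have hdC : (d : Ω) ∈ C' := (hmem d).2 hd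
  obtain ⟨B₁, hB₁, hB₁J, hB₁S⟩ := pattern_pos ht hq (by omega) ht3 htm {c'} (insert (d : Ω) R)
    (Finset.disjoint_singleton_left.2 (by simp [hdc', hc']))
    (by rw [Finset.card_singleton, Finset.card_insert_of_notMem hdR]; omega) (Or.inl rfl)
  obtain ⟨B₂, hB₂, hB₂J, hB₂S⟩ := pattern_pos ht hq (by omega) ht3 htm {c', (e : Ω)} R
    (by simp [Finset.disjoint_left, hc', heR])
    (by rw [Finset.card_pair hec']; omega) (Or.inr (Finset.card_pair hec'))
  rw [Finset.singleton_subset_iff] at hB₁J
  rw [Finset.disjoint_insert_left] at hB₁S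
  have hsub₁ : B₁ ⊆ C' := hstay B₁ hB₁ hB₁S.2 hB₁J _ hdC hB₁S.1
  simp only [Finset.insert_subset_iff, Finset.singleton_subset_iff] at hB₂J
  have hsub₂ : C' ⊆ B₂ := fun z hz => by
    by_contra hzB
    exact he ((hmem e).1 (hstay B₂ hB₂ hB₂S hB₂J.1 z hz hzB hB₂J.2))
  have heq : B₁ = C' := Finset.eq_of_subset_of_card_le hsub₁ (by
    rw [card_translate hB₁, ← card_translate hB₂]
    exact Finset.card_le_card hsub₂)
  exact hB₁S.1 (heq ▸ hdC)

/-- Transitivity of stabilizers adds up. -/
theorem multiply_of_fixing {r k : ℕ} (hr : IsMultiplyPretransitive G Ω r)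
    (h : ∀ R : Finset Ω, R.card = r →
      IsMultiplyPretransitive (fixingSubgroup G (R : Set Ω)) (SubMulAction.ofFixingSubgroup G (R : Set Ω)) k) :
    IsMultiplyPretransitive G Ω (r + k) := by
  rw [isMultiplyPretransitive_iff]
  intro x y
  haveI := hr
  obtain ⟨g, hg⟩ := exists_smul_eq G ((Fin.castAddEmb k).trans x) ((Fin.castAddEmb k).trans y)
  set R : Finset Ω := Finset.univ.map ((Fin.castAddEmb k).trans y) with hRdef
  haveI := h R (by rw [hRdef, Finset.card_map, Finset.card_univ, Fintype.card_fin])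
  have hout : ∀ (z : Fin (r + k) ↪ Ω), (∀ i, z (Fin.castAdd k i) = y (Fin.castAdd k i)) →
      ∀ i, z (Fin.natAdd r i) ∈ SubMulAction.ofFixingSubgroup G (R : Set Ω) := by
    intro z hz i
    rw [SubMulAction.mem_ofFixingSubgroup_iff, Finset.mem_coe, hRdef]
    simp only [Finset.mem_map, Finset.mem_univ, true_and, Function.Embedding.trans_apply,
      Fin.castAddEmb_apply, not_exists]
    intro j hj
    rw [← hz j] at hj
    have h1 := congrArg Fin.val (z.injective hj)
    simp only [Fin.val_castAdd, Fin.val_natAdd] at h1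
    omega
  have hgx : ∀ i, (g • x) (Fin.castAdd k i) = y (Fin.castAdd k i) := fun i => DFunLike.congr_fun hg i
  obtain ⟨⟨f, hf⟩, hfe⟩ := exists_smul_eq (fixingSubgroup G (R : Set Ω))
    (⟨fun i => ⟨_, hout (g • x) hgx i⟩, fun a b hab => Fin.natAdd_injective _ _
      ((g • x).injective (congrArg Subtype.val hab))⟩ : Fin k ↪ SubMulAction.ofFixingSubgroup G (R : Set Ω))
    ⟨fun i => ⟨_, hout y (fun _ => rfl) i⟩, fun a b hab => Fin.natAdd_injective _ _
      (y.injective (congrArg Subtype.val hab))⟩
  refine ⟨f * g, Function.Embedding.ext fun i => ?_⟩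
  rw [mul_smul]
  induction i using Fin.addCases with
  | left i =>
    show f • (g • x) (Fin.castAdd k i) = _
    rw [hgx i]
    exact (mem_fixingSubgroup_iff G).1 hf _ (by
      rw [hRdef, Finset.coe_map]; exact ⟨i, Finset.mem_univ _, rfl⟩)
  | right i => exact congrArg Subtype.val (DFunLike.congr_fun hfe i)

theorem succ_transitive (hJ : IsJordan G (Γ : Set Ω)) (hn : 2 * Γ.card < Fintype.card Ω)
    (ht : IsMultiplyPretransitive G Ω t) (ht3 : 3 ≤ t) (htm : t < Γ.card) :
    IsMultiplyPretransitive G Ω (t + 1) := by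
  classical
  obtain ⟨r, rfl⟩ : ∃ r, t = r + 1 := ⟨t - 1, by omega⟩
  have htn : r + 1 ≤ Nat.card Ω := by rw [Nat.card_eq_fintype_card]; omega
  haveI := ht
  have hr : IsMultiplyPretransitive G Ω r := isMultiplyPretransitive_of_le (n := r + 1) (by omega) htn
  refine multiply_of_fixing (k := 2) hr fun R hR => ?_
  have hp := fixing_preprimitive hJ hn ht ht3 htm R (by omega)
  obtain ⟨R', hR', hR'c⟩ := Finset.exists_subset_card_eq (s := Γᶜ) (n := r)
    (by rw [Finset.card_compl]; omega)
  obtain ⟨g, hg⟩ := exists_smul_finset_eq ht htn (S := R') (S' := R) (by omega) (by omega)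
  have hd : ∀ x ∈ g • Γ, x ∉ R := by
    intro x hx hxR
    rw [← hg] at hxR
    obtain ⟨y, hy, rfl⟩ := Finset.mem_smul_finset.1 hx
    exact Finset.mem_compl.1 (hR' ((Finset.smul_mem_smul_finset_iff g).1 hxR)) hy
  set Γ' : Set (SubMulAction.ofFixingSubgroup G (R : Set Ω)) := {x | (x : Ω) ∈ g • Γ} with hΓ'
  have hJ' : IsJordan (fixingSubgroup G (R : Set Ω)) Γ' := by
    rintro ⟨x, hxa⟩ hx ⟨y, hya⟩ hy
    have hJg := hJ.smul g
    rw [← Finset.coe_smul_finset] at hJg
    obtain ⟨f, hf, hfx⟩ := hJg x hx y hy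
    exact ⟨⟨f, (mem_fixingSubgroup_iff G).2 fun z hz => hf z fun h => hd z h hz⟩,
      fun z hz => Subtype.ext (hf z hz), Subtype.ext hfx⟩
  have hcard : Γ'.ncard = Γ.card := by
    rw [← Set.ncard_image_of_injective Γ' Subtype.val_injective, ← Finset.card_smul_finset g Γ,
      ← Set.ncard_coe_finset]
    congr 1
    ext x
    refine ⟨?_, fun hx => ⟨⟨x, ?_⟩, hx, rfl⟩⟩
    · rintro ⟨y, hy, rfl⟩; exact hy
    · rw [SubMulAction.mem_ofFixingSubgroup_iff]; exact hd x hx
  have hN : Nat.card (SubMulAction.ofFixingSubgroup G (R : Set Ω)) = Fintype.card Ω - r := by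
    rw [show Nat.card (SubMulAction.ofFixingSubgroup G (R : Set Ω)) = ((R : Set Ω)ᶜ).ncard from
      Nat.card_coe_set_eq _, ← Finset.coe_compl, Set.ncard_coe_finset, Finset.card_compl, hR]
  have hc := Set.ncard_add_ncard_compl Γ'
  rw [hN, hcard] at hc
  exact hp.is_two_pretransitive (s := Γ'ᶜ) (n := Γ'ᶜ.ncard - 1) (by omega) (by omega) hJ'.transitive

/-- **Marggraf's theorem.** -/
theorem exists_threeCycle (hprim : IsPreprimitive G Ω) (Γ : Finset Ω) (h1 : 1 < Γ.card)
    (h2 : 2 * Γ.card < Fintype.card Ω) (hJ : IsJordan G (Γ : Set Ω)) :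
    ∃ g : G, (MulAction.toPerm g : Equiv.Perm Ω).IsThreeCycle := by
  classical
  have h3 : IsMultiplyPretransitive G Ω 3 := three_transitive hprim (Γ : Set Ω)
    (by rwa [Set.ncard_coe_finset]) (by rw [Set.ncard_coe_finset, Nat.card_eq_fintype_card]; omega) hJ
  have hlad : ∀ t, 3 ≤ t → t ≤ max 3 Γ.card → IsMultiplyPretransitive G Ω t := by
    intro t ht
    induction t, ht using Nat.le_induction with
    | base => exact fun _ => h3
    | succ t ht ih => exact fun hle => succ_transitive hJ h2 (ih (by omega)) ht (by omega)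
  obtain ⟨p, hp⟩ := Finset.card_pos.1 (show 0 < Γ.card by omega)
  obtain ⟨S, hS, hSc⟩ := Finset.exists_subset_card_eq (s := Γᶜ) (n := Γ.card - 1)
    (by rw [Finset.card_compl]; omega)
  have hpS : p ∉ S := fun h => Finset.mem_compl.1 (hS h) hp
  obtain ⟨g, hg⟩ := exists_smul_finset_eq (hlad _ (le_max_left _ _) le_rfl)
    (by rw [Nat.card_eq_fintype_card]; omega) (S := Γ) (S' := insert p S) (le_max_right _ _)
    (by rw [Finset.card_insert_of_notMem hpS]; omega)
  set Δ := g • Γ with hΔ
  have hJΔ := hJ.smul g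
  rw [← Finset.coe_smul_finset] at hJΔ
  have hinter : ∀ x, x ∈ Γ → x ∈ Δ → x = p := fun x hx hxΔ => by
    rw [hg, Finset.mem_insert] at hxΔ
    exact hxΔ.resolve_right fun h => Finset.mem_compl.1 (hS h) hx
  have hpΔ : p ∈ Δ := by rw [hg]; exact Finset.mem_insert_self _ _
  obtain ⟨a, ha, hap⟩ := Finset.exists_mem_ne h1 p
  obtain ⟨b, hb, hbp⟩ := Finset.exists_mem_ne (show 1 < Δ.card by rwa [hΔ, Finset.card_smul_finset]) p
  obtain ⟨h, hfix, hha⟩ := hJ p hp a ha
  obtain ⟨k, kfix, hkb⟩ := hJΔ p hpΔ b hb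
  refine ⟨h * k * h⁻¹ * k⁻¹, ?_⟩
  have hab : a ≠ b := fun e => hap (hinter a ha (e ▸ hb))
  have hfix' : ∀ x, x ∉ Γ → h⁻¹ • x = x := fun x hx => inv_smul_eq_iff.2 (hfix x hx).symm
  have kfix' : ∀ x, x ∉ Δ → k⁻¹ • x = x := fun x hx => inv_smul_eq_iff.2 (kfix x hx).symm
  have hmemΓ : ∀ x, x ∈ Γ → h⁻¹ • x ∈ Γ := fun x hx => by
    by_contra hn
    have := hfix _ hn
    rw [smul_inv_smul] at this
    exact hn (this ▸ hx)
  have hmemΔ : ∀ x, x ∈ Δ → k⁻¹ • x ∈ Δ := fun x hx => by
    by_contra hn
    have := kfix _ hn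
    rw [smul_inv_smul] at this
    exact hn (this ▸ hx)
  have hhp : h⁻¹ • p ≠ p := fun e => hap (by
    have := congrArg (fun z => h • z) e
    simp only [smul_inv_smul] at this
    rw [← hha]; exact this.symm)
  have hkp : k⁻¹ • p ≠ p := fun e => hbp (by
    have := congrArg (fun z => k • z) e
    simp only [smul_inv_smul] at this
    rw [← hkb]; exact this.symm)
  have heq : (MulAction.toPerm (h * k * h⁻¹ * k⁻¹) : Equiv.Perm Ω) = Equiv.swap p a * Equiv.swap a b := by
    refine Equiv.ext fun x => ?_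
    show (h * k * h⁻¹ * k⁻¹) • x = Equiv.swap p a (Equiv.swap a b x)
    rw [mul_smul, mul_smul, mul_smul]
    by_cases hxb : x = b
    · subst hxb
      rw [show k⁻¹ • x = p from inv_smul_eq_iff.2 hkb.symm,
        kfix (h⁻¹ • p) fun hm => hhp (hinter _ (hmemΓ p hp) hm), smul_inv_smul,
        Equiv.swap_apply_right, Equiv.swap_apply_right]
    by_cases hxa : x = a
    · subst hxa
      rw [kfix' x fun hm => hap (hinter x ha hm), show h⁻¹ • x = p from inv_smul_eq_iff.2 hha.symm, hkb,
        hfix b fun hm => hbp (hinter b hm hb), Equiv.swap_apply_left,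
        Equiv.swap_apply_of_ne_of_ne hbp hab.symm]
    rw [Equiv.swap_apply_of_ne_of_ne hxa hxb]
    by_cases hxp : x = p
    · subst hxp
      rw [hfix' (k⁻¹ • x) fun hm => hkp (hinter _ hm (hmemΔ x hpΔ)), smul_inv_smul, hha,
        Equiv.swap_apply_left]
    rw [Equiv.swap_apply_of_ne_of_ne hxp hxa]
    by_cases hxΓ : x ∈ Γ
    · rw [kfix' x fun hm => hxp (hinter x hxΓ hm),
        kfix (h⁻¹ • x) fun hm => hxa (by
          have := hinter _ (hmemΓ x hxΓ) hm
          rw [inv_smul_eq_iff, hha] at this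
          exact this), smul_inv_smul]
    by_cases hxΔ : x ∈ Δ
    · rw [hfix' (k⁻¹ • x) fun hm => hxb (by
          have := hinter _ hm (hmemΔ x hxΔ)
          rw [inv_smul_eq_iff, hkb] at this
          exact this), smul_inv_smul, hfix x hxΓ]
    rw [kfix' x hxΔ, hfix' x hxΓ, kfix x hxΔ, hfix x hxΓ]
  rw [heq, Equiv.swap_comm p a]
  exact Equiv.Perm.isThreeCycle_swap_mul_swap_same hap hab hbp.symm

/-- A primitive group with a Jordan set of fewer than half of the points induces every even permutation. -/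
theorem induces_even (hprim : IsPreprimitive G Ω) (Γ : Finset Ω) (h1 : 1 < Γ.card)
    (h2 : 2 * Γ.card < Fintype.card Ω) (hJ : IsJordan G (Γ : Set Ω)) :
    ∀ σ : Equiv.Perm Ω, Equiv.Perm.sign σ = 1 → ∃ x : G, (MulAction.toPerm x : Equiv.Perm Ω) = σ := by
  classical
  obtain ⟨g, hg⟩ := exists_threeCycle hprim Γ h1 h2 hJ
  intro σ hσ
  haveI : IsPreprimitive (MulAction.toPermHom G Ω).range Ω :=
    IsPreprimitive.of_surjective (f := ({ toFun := id, map_smul' := fun _ _ => rfl } :
      Ω →ₑ[(MulAction.toPermHom G Ω).rangeRestrict] Ω)) Function.surjective_id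
  obtain ⟨x, hx⟩ := Equiv.Perm.alternatingGroup_le_of_isPreprimitive_of_isThreeCycle_mem
    (G := (MulAction.toPermHom G Ω).range) inferInstance hg ⟨g, rfl⟩ (Equiv.Perm.mem_alternatingGroup.2 hσ)
  exact ⟨x, hx⟩

end Cfsg.Lib.Recog.Marggraf
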