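import Cfsg.Agent.Lib.Recog.Marggraf
import Mathlib.GroupTheory.GroupAction.Blocks

/-!
# Quasiprimitive groups with a small Jordan set

An imprimitive quasiprimitive group would act on a block system with a smaller Jordan set, hence as an
alternating or symmetric group, whose even part could not be transitive on the points.
-/

set_option autoImplicit false
set_option linter.style.haveILetI false
set_option linter.unusedSectionVars false

namespace Cfsg.Lib.Recog.MarggrafQuasi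

open MulAction Cfsg.Lib.Recog.JordanSet
open scoped Pointwise

/-- A subgroup normalized by all even permutations and containing a three-cycle contains them all. -/
theorem alternating_le {α : Type*} [Fintype α] [DecidableEq α] {a b c : α} (hab : a ≠ b) (hac : a ≠ c)
    (hbc : b ≠ c) (N : Subgroup (Equiv.Perm α)) (hmem : Equiv.swap a b * Equiv.swap b c ∈ N)
    (hN : ∀ σ : Equiv.Perm α, Equiv.Perm.sign σ = 1 → ∀ τ ∈ N, σ * τ * σ⁻¹ ∈ N) :
    alternatingGroup α ≤ N := by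
  set s := Equiv.swap a b * Equiv.swap b c with hs
  have h3 : s.IsThreeCycle := by
    rw [hs, Equiv.swap_comm a b]
    exact Equiv.Perm.isThreeCycle_swap_mul_swap_same hab.symm hbc hac
  rw [← Equiv.Perm.closure_three_cycles_eq_alternating, Subgroup.closure_le]
  intro τ hτ
  obtain ⟨σ, hσ⟩ := isConj_iff.1 (Equiv.Perm.isConj_iff_cycleType_eq.2
    (h3.cycleType.trans (Equiv.Perm.IsThreeCycle.cycleType hτ).symm))
  rcases Int.units_eq_one_or (Equiv.Perm.sign σ) with h | h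
  · exact hσ ▸ hN σ h s hmem
  · have hinv : Equiv.swap a b * s * (Equiv.swap a b)⁻¹ = s⁻¹ := by
      rw [hs, mul_inv_rev, Equiv.swap_inv, Equiv.swap_inv, ← mul_assoc, Equiv.swap_mul_self, one_mul]
    have h2 := hN (σ * Equiv.swap a b) (by rw [map_mul, h, Equiv.Perm.sign_swap hab]; rfl) s⁻¹ (inv_mem hmem)
    have hinv' : Equiv.swap a b * s⁻¹ * (Equiv.swap a b)⁻¹ = s := by
      have h1 := congrArg (·⁻¹) hinv
      simp only [mul_inv_rev, inv_inv] at h1
      rw [Equiv.swap_inv, ← mul_assoc] at h1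
      rw [Equiv.swap_inv]
      exact h1
    have e3 : σ * Equiv.swap a b * s⁻¹ * (σ * Equiv.swap a b)⁻¹ =
      σ * (Equiv.swap a b * s⁻¹ * (Equiv.swap a b)⁻¹) * σ⁻¹ := by group
    rw [e3, hinv'] at h2
    exact hσ ▸ h2

universe u v

variable {G : Type v} [Group G] [Finite G]

/-- A quasiprimitive group with a Jordan set of fewer than half of the points induces every even
permutation. -/
theorem induces_even : ∀ (n : ℕ) (Ω : Type u) [Fintype Ω] [DecidableEq Ω] [MulAction G Ω]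
    [FaithfulSMul G Ω], Fintype.card Ω = n →
    (∀ N : Subgroup G, N.Normal → N ≠ ⊥ → IsPretransitive N Ω) →
    ∀ Γ : Finset Ω, 1 < Γ.card → 2 * Γ.card < Fintype.card Ω → IsJordan G (Γ : Set Ω) →
      ∀ σ : Equiv.Perm Ω, Equiv.Perm.sign σ = 1 → ∃ x : G, (MulAction.toPerm x : Equiv.Perm Ω) = σ := by
  classical
  intro n
  induction n using Nat.strong_induction_on with
  | h n ih =>
  intro Ω _ _ _ _ hn hqp Γ h1 h2 hJ
  obtain ⟨c, hc, d, hd, hcd⟩ := Finset.one_lt_card.1 h1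
  obtain ⟨g₀, hg₀, hgc⟩ := hJ c hc d hd
  haveI htop : IsPretransitive G Ω := by
    have hne : (⊤ : Subgroup G) ≠ ⊥ := fun h => hcd (by
      have : g₀ ∈ (⊥ : Subgroup G) := h ▸ Subgroup.mem_top g₀
      rw [Subgroup.mem_bot] at this
      rw [← hgc, this, one_smul])
    have := hqp ⊤ inferInstance hne
    exact ⟨fun x y => let ⟨g, hg⟩ := this.exists_smul_eq x y; ⟨(g : G), hg⟩⟩
  by_cases hprim : IsPreprimitive G Ω
  · exact Marggraf.induces_even hprim Γ h1 h2 hJ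
  exfalso
  refine hprim (IsPreprimitive.of_isTrivialBlock_base c fun {C} hcC hC => ?_)
  by_contra hnt
  rw [IsTrivialBlock, not_or, Set.not_subsingleton_iff] at hnt
  set X := orbit G C with hX
  haveI : Fintype X := Fintype.ofFinite X
  have htrX : ∀ D : X, ∃ t : G, t • C = (D : Set Ω) := fun D => D.2
  have hblk : ∀ D : X, IsBlock G (D : Set Ω) := fun D => by
    obtain ⟨t, ht⟩ := htrX D
    rw [← ht]; exact hC.translate t
  have hne : ∀ D : X, ∃ x, x ∈ (D : Set Ω) := fun D => by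
    obtain ⟨t, ht⟩ := htrX D
    exact ⟨t • c, ht ▸ Set.smul_mem_smul_set hcC⟩
  have hkerbot : ∀ g : G, (∀ D : X, g • D = D) → g = 1 := by
    intro g hg
    set K := (MulAction.toPermHom G X).ker
    have hgK : g ∈ K := MonoidHom.mem_ker.2 (Equiv.ext fun D => hg D)
    by_contra h1'
    have hKt := hqp K (MonoidHom.normal_ker _)
      fun h => h1' (Subgroup.mem_bot.1 (h ▸ hgK : g ∈ (⊥ : Subgroup G)))
    refine hnt.2 (Set.eq_univ_of_forall fun x => ?_)
    obtain ⟨⟨k, hk⟩, hkx⟩ := hKt.exists_smul_eq c x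
    have h1 : k • C = C := congrArg Subtype.val
      (congrArg (fun p : Equiv.Perm X => p ⟨C, mem_orbit_self C⟩) (MonoidHom.mem_ker.1 hk))
    rw [← h1]
    exact ⟨c, hcC, hkx⟩
  haveI : FaithfulSMul G X := ⟨fun {g₁ g₂} h => by
    have := hkerbot (g₂⁻¹ * g₁) fun D => by rw [mul_smul, h, inv_smul_smul]
    rwa [inv_mul_eq_one, eq_comm] at this⟩
  have hfix : ∀ h : G, (∀ z ∉ (Γ : Set Ω), h • z = z) → ∀ (D : X) (z : Ω), z ∈ (D : Set Ω) → z ∉ Γ →
      h • D = D := fun h hh D z hzD hzΓ =>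
    Subtype.ext ((hblk D).smul_eq_of_mem hzD (by rw [hh z hzΓ]; exact hzD))
  -- a block meeting the Jordan set lies inside it
  have hin : ∀ (D : X) (x : Ω), x ∈ (D : Set Ω) → x ∈ Γ → ∀ z ∈ (D : Set Ω), z ∈ Γ := by
    intro D x hxD hxΓ z hzD
    by_contra hzΓ
    have hall : ∀ y ∈ Γ, y ∈ (D : Set Ω) := by
      intro y hy
      obtain ⟨h, hh, hhx⟩ := hJ x hxΓ y hy
      have h1 : h • (D : Set Ω) = D := congrArg Subtype.val (hfix h hh D z hzD hzΓ)
      rw [← h1, ← hhx]; exact Set.smul_mem_smul_set hxD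
    obtain ⟨h, hh, hhc⟩ := hJ c hc d hd
    refine hcd ?_
    rw [← hhc, hkerbot h fun D' => ?_, one_smul]
    by_cases hD' : ∃ z' ∈ (D' : Set Ω), z' ∉ Γ
    · obtain ⟨z', hz', hz'Γ⟩ := hD'
      exact hfix h hh D' z' hz' hz'Γ
    · push Not at hD'
      obtain ⟨z', hz'⟩ := hne D'
      have hDD : (D' : Set Ω) = D := by
        obtain ⟨t, ht⟩ := htrX D
        obtain ⟨t', ht'⟩ := htrX D'
        have h3 : z' ∈ (D : Set Ω) := hall z' (hD' z' hz')
        refine ht'.symm.trans ((hC.smul_eq_smul_of_nonempty ⟨z', ?_, ?_⟩).trans ht)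
        · rw [ht']; exact hz'
        · rw [ht]; exact h3
      exact absurd (hD' z (hDD ▸ hzD)) hzΓ
  set Γ' : Finset X := Finset.univ.filter fun D => ∀ z ∈ (D : Set Ω), z ∈ Γ with hΓ'
  have hmemΓ' : ∀ D : X, D ∈ Γ' ↔ ∀ z ∈ (D : Set Ω), z ∈ Γ := fun D => by simp [hΓ']
  have hblockOf : ∀ x : Ω, ∃ D : X, x ∈ (D : Set Ω) := fun x => by
    obtain ⟨g, hg⟩ := exists_smul_eq G c x
    exact ⟨⟨g • C, g, rfl⟩, ⟨c, hcC, hg⟩⟩
  have huniq : ∀ (D D' : X) (x : Ω), x ∈ (D : Set Ω) → x ∈ (D' : Set Ω) → D = D' := fun D D' x hx hx' => by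
    obtain ⟨t, ht⟩ := htrX D
    obtain ⟨t', ht'⟩ := htrX D'
    refine Subtype.ext ?_
    rw [← ht] at hx ⊢
    rw [← ht'] at hx' ⊢
    exact hC.smul_eq_smul_of_nonempty ⟨x, hx, hx'⟩
  have hfib : ∀ D : X, ((D : Set Ω).toFinite.toFinset).card = C.ncard := fun D => by
    obtain ⟨t, ht⟩ := htrX D
    rw [← Set.ncard_eq_toFinset_card _ (D : Set Ω).toFinite, ← ht]
    exact Set.ncard_image_of_injective C (MulAction.injective t)
  have hcover : ∀ s : Finset X, (s.biUnion fun D => (D : Set Ω).toFinite.toFinset).card = C.ncard * s.card := by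
    intro s
    rw [Finset.card_biUnion fun D _ D' _ hDD' => Finset.disjoint_left.2 fun x hx hx' => hDD'
      (huniq D D' x ((Set.Finite.mem_toFinset _).1 hx) ((Set.Finite.mem_toFinset _).1 hx'))]
    rw [Finset.sum_congr rfl fun D _ => hfib D, Finset.sum_const, smul_eq_mul, mul_comm]
  have hΓeq : Γ = Γ'.biUnion fun D => (D : Set Ω).toFinite.toFinset := by
    ext x
    simp only [Finset.mem_biUnion, Set.Finite.mem_toFinset, hmemΓ']
    refine ⟨fun hx => ?_, fun ⟨D, hD, hxD⟩ => hD x hxD⟩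
    obtain ⟨D, hD⟩ := hblockOf x
    exact ⟨D, hin D x hD hx, hD⟩
  have hΩeq : (Finset.univ : Finset Ω) =
      (Finset.univ : Finset X).biUnion fun D => (D : Set Ω).toFinite.toFinset := by
    ext x
    simp only [Finset.mem_biUnion, Set.Finite.mem_toFinset, Finset.mem_univ, true_and, true_iff]
    exact hblockOf x
  have hcardΓ : Γ.card = C.ncard * Γ'.card := by rw [← hcover, ← hΓeq]
  have hcardΩ : Fintype.card Ω = C.ncard * Fintype.card X := by
    rw [← Finset.card_univ, hΩeq, hcover, Finset.card_univ]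
  have hC2 : 2 ≤ C.ncard := (Set.one_lt_ncard (Set.toFinite C)).2 hnt.1
  have hJ' : IsJordan G (Γ' : Set X) := by
    intro D hD D' hD'
    rw [Finset.mem_coe, hmemΓ'] at hD hD'
    obtain ⟨x, hx⟩ := hne D
    obtain ⟨y, hy⟩ := hne D'
    obtain ⟨h, hh, hhx⟩ := hJ x (hD x hx) y (hD' y hy)
    refine ⟨h, fun E hE => ?_, huniq _ _ y (hhx ▸ Set.smul_mem_smul_set hx) hy⟩
    rw [Finset.mem_coe, hmemΓ'] at hE
    push Not at hE
    obtain ⟨z, hz, hzΓ⟩ := hE
    exact hfix h hh E z hz hzΓ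
  have h1' : 1 < Γ'.card := by
    by_contra hle
    obtain ⟨D, hD⟩ := hblockOf c
    obtain ⟨D', hD'⟩ := hblockOf d
    obtain ⟨h, hh, hhc⟩ := hJ c hc d hd
    refine hcd ?_
    rw [← hhc, hkerbot h fun E => ?_, one_smul]
    by_cases hE : E ∈ Γ'
    · obtain ⟨z, hz⟩ := hne E
      obtain ⟨h', hh', hhz⟩ := hJ z ((hmemΓ' E).1 hE z hz) z ((hmemΓ' E).1 hE z hz)
      have hmem : (h • E : X) ∈ Γ' := (hmemΓ' _).2 fun w hw => by
        obtain ⟨w', hw', rfl⟩ := hw
        by_contra hn'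
        have := hh _ hn'
        exact hn' ((smul_left_cancel h this).symm ▸ (hmemΓ' E).1 hE w' hw' :)
      exact Finset.card_le_one.1 (by omega) _ hmem _ hE
    · rw [hmemΓ'] at hE
      push Not at hE
      obtain ⟨z', hz', hz'Γ⟩ := hE
      exact hfix h hh E z' hz' hz'Γ
  have h2' : 2 * Γ'.card < Fintype.card X := by
    rw [hcardΓ, hcardΩ] at h2
    by_contra hle
    push Not at hle
    have := Nat.mul_le_mul_left C.ncard hle
    rw [mul_left_comm] at this
    omega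
  have hlt : Fintype.card X < n := by
    rw [← hn, hcardΩ]
    have h3 := Nat.mul_le_mul_right (Fintype.card X) hC2
    omega
  have hqp' : ∀ N : Subgroup G, N.Normal → N ≠ ⊥ → IsPretransitive N X := fun N hN hN1 => ⟨fun D D' => by
    obtain ⟨x, hx⟩ := hne D
    obtain ⟨y, hy⟩ := hne D'
    obtain ⟨k, hk⟩ := (hqp N hN hN1).exists_smul_eq x y
    exact ⟨k, huniq _ _ y (hk ▸ Set.smul_mem_smul_set (a := (k : G)) hx) hy⟩⟩
  have heven := ih _ hlt X rfl hqp' Γ' h1' h2' hJ'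
  -- the data: `h` moves `D₁` to `D₂` and fixes `D₀`, `E`, `F`
  obtain ⟨D₁, hD₁, D₂, hD₂, hD12⟩ := Finset.one_lt_card.1 h1'
  obtain ⟨x₁, hx₁⟩ := hne D₁
  obtain ⟨x₂, hx₂⟩ := hne D₂
  obtain ⟨h, hh, hhx⟩ := hJ x₁ ((hmemΓ' _).1 hD₁ _ hx₁) x₂ ((hmemΓ' _).1 hD₂ _ hx₂)
  have hhD : h • D₁ = D₂ := huniq _ _ x₂ (hhx ▸ Set.smul_mem_smul_set hx₁) hx₂
  obtain ⟨s, hs, hsc⟩ := Finset.exists_subset_card_eq (s := Γ'ᶜ) (n := 3) (by rw [Finset.card_compl]; omega)
  obtain ⟨D₀, E, F, hDE, hDF, hEF, rfl⟩ := Finset.card_eq_three.1 hsc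
  simp only [Finset.insert_subset_iff, Finset.singleton_subset_iff, Finset.mem_compl] at hs
  have hout : ∀ D : X, D ∉ Γ' → h • D = D := fun D hD => by
    rw [hmemΓ'] at hD
    push Not at hD
    obtain ⟨z, hz, hzΓ⟩ := hD
    exact hfix h hh D z hz hzΓ
  have hne1 : ∀ {D D' : X}, D ∈ Γ' → D' ∉ Γ' → D ≠ D' := fun hD hD' e => hD' (e ▸ hD)
  set σ₀ : Equiv.Perm X := Equiv.swap D₁ E * Equiv.swap E F with hσ₀
  obtain ⟨s₀, hs₀⟩ := heven σ₀ (by
    rw [hσ₀, map_mul, Equiv.Perm.sign_swap (hne1 hD₁ hs.2.1), Equiv.Perm.sign_swap hEF]; rfl)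
  -- the elements fixing `D₀` pointwise, acting on the other blocks
  set N : Subgroup G := fixingSubgroup G (D₀ : Set Ω) with hN
  have hhN : h ∈ N := (mem_fixingSubgroup_iff G).2 fun z hz => hh z fun hzΓ => hs.1
    ((hmemΓ' _).2 (hin D₀ z hz hzΓ))
  have hs0D : s₀ • D₀ = D₀ := by
    have := congrArg (fun p : Equiv.Perm X => p D₀) hs₀
    simp only [MulAction.toPerm_apply] at this
    rw [this, hσ₀]
    show Equiv.swap D₁ E (Equiv.swap E F D₀) = D₀
    rw [Equiv.swap_apply_of_ne_of_ne hDE hDF, Equiv.swap_apply_of_ne_of_ne (hne1 hD₁ hs.1).symm hDE]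
  have hconj : ∀ a : G, a • D₀ = D₀ → ∀ k ∈ N, a * k * a⁻¹ ∈ N := by
    intro a ha k hk
    refine (mem_fixingSubgroup_iff G).2 fun z hz => ?_
    have hz' : a⁻¹ • z ∈ (D₀ : Set Ω) := by
      rw [← Set.mem_smul_set_iff_inv_smul_mem]
      rw [show a • (D₀ : Set Ω) = D₀ from congrArg Subtype.val ha]; exact hz
    rw [mul_smul, mul_smul, (mem_fixingSubgroup_iff G).1 hk _ hz', smul_inv_smul]
  set Y := {D : X // D ≠ D₀}
  set π : G →* Equiv.Perm X := MulAction.toPermHom G X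
  set NY : Subgroup (Equiv.Perm Y) :=
    (N.map π).comap (Equiv.Perm.ofSubtype : Equiv.Perm Y →* Equiv.Perm X) with hNY
  have hNYconj : ∀ σ : Equiv.Perm Y, Equiv.Perm.sign σ = 1 → ∀ τ ∈ NY, σ * τ * σ⁻¹ ∈ NY := by
    intro σ hσ τ hτ
    obtain ⟨k, hk, hkτ⟩ := hτ
    obtain ⟨a, ha⟩ := heven (Equiv.Perm.ofSubtype σ) (by rw [Equiv.Perm.sign_ofSubtype]; exact hσ)
    have haD : a • D₀ = D₀ := by
      have := congrArg (fun p : Equiv.Perm X => p D₀) ha
      simp only [MulAction.toPerm_apply] at this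
      rw [this]
      exact Equiv.Perm.ofSubtype_apply_of_not_mem σ fun h => h rfl
    refine ⟨a * k * a⁻¹, hconj a haD k hk, ?_⟩
    rw [map_mul, map_mul, map_inv, hkτ, show π a = Equiv.Perm.ofSubtype σ from ha, ← map_inv, ← map_mul,
      ← map_mul]
  let y : (D : X) → D ≠ D₀ → Y := fun D hD => ⟨D, hD⟩
  have hmem : Equiv.swap (y D₁ (hne1 hD₁ hs.1)) (y D₂ (hne1 hD₂ hs.1)) *
      Equiv.swap (y D₂ (hne1 hD₂ hs.1)) (y E hDE.symm) ∈ NY := by
    refine ⟨h * (s₀ * h⁻¹ * s₀⁻¹), mul_mem hhN (hconj s₀ hs0D _ (inv_mem hhN)), ?_⟩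
    have e0 : π (h * (s₀ * h⁻¹ * s₀⁻¹)) = (π h * σ₀ * (π h)⁻¹) * σ₀⁻¹ := by
      rw [map_mul, map_mul, map_mul, map_inv, map_inv, show π s₀ = σ₀ from hs₀]
      group
    rw [e0, map_mul, Equiv.Perm.ofSubtype_swap_eq, Equiv.Perm.ofSubtype_swap_eq, hσ₀]
    have e1 : π h * (Equiv.swap D₁ E * Equiv.swap E F) * (π h)⁻¹ = Equiv.swap D₂ E * Equiv.swap E F := by
      rw [show π h * (Equiv.swap D₁ E * Equiv.swap E F) * (π h)⁻¹ =
          (π h * Equiv.swap D₁ E * (π h)⁻¹) * (π h * Equiv.swap E F * (π h)⁻¹) by group,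
        ← Equiv.swap_apply_apply, ← Equiv.swap_apply_apply]
      show Equiv.swap (h • D₁) (h • E) * Equiv.swap (h • E) (h • F) = _
      rw [hhD, hout E hs.2.1, hout F hs.2.2]
    rw [e1, mul_inv_rev, Equiv.swap_inv, Equiv.swap_inv, mul_assoc, ← mul_assoc (Equiv.swap E F),
      Equiv.swap_mul_self, one_mul]
    show Equiv.swap D₂ E * Equiv.swap D₁ E = Equiv.swap D₁ D₂ * Equiv.swap D₂ E
    rw [Equiv.mul_swap_eq_swap_mul, Equiv.swap_apply_of_ne_of_ne hD12 (hne1 hD₁ hs.2.1),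
      Equiv.swap_apply_right]
  have hall := alternating_le (fun e => hD12 (congrArg Subtype.val e))
    (fun e => (hne1 hD₁ hs.2.1) (congrArg Subtype.val e))
    (fun e => (hne1 hD₂ hs.2.1) (congrArg Subtype.val e)) NY hmem hNYconj
  -- the even part is transitive, so blocks are points
  set A : Subgroup G := (Equiv.Perm.sign.comp π).ker with hA
  have hA1 : A ≠ ⊥ := fun e => by
    obtain ⟨a, ha⟩ := heven σ₀ (by
      rw [hσ₀, map_mul, Equiv.Perm.sign_swap (hne1 hD₁ hs.2.1), Equiv.Perm.sign_swap hEF]; rfl)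
    have haA : a ∈ A := MonoidHom.mem_ker.2 (by
      show Equiv.Perm.sign (π a) = 1
      rw [show π a = σ₀ from ha, hσ₀, map_mul, Equiv.Perm.sign_swap (hne1 hD₁ hs.2.1),
        Equiv.Perm.sign_swap hEF]; rfl)
    rw [e, Subgroup.mem_bot] at haA
    have := congrArg (fun p : Equiv.Perm X => p F) ha
    simp only [MulAction.toPerm_apply, haA, one_smul, hσ₀, Equiv.Perm.mul_apply, Equiv.swap_apply_right] at this
    exact hne1 hD₁ hs.2.2 this.symm
  obtain ⟨t, ht⟩ := htrX D₀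
  obtain ⟨u, hu, huc⟩ := hnt.1.exists_ne c
  obtain ⟨⟨a, ha⟩, hax⟩ := (hqp A (MonoidHom.normal_ker _) hA1).exists_smul_eq (t • c) (t • u)
  have hax : a • t • c = t • u := hax
  have htc : t • c ∈ (D₀ : Set Ω) := ht ▸ Set.smul_mem_smul_set hcC
  have haD : a • D₀ = D₀ := huniq _ _ (t • u) (hax ▸ Set.smul_mem_smul_set htc)
    (ht ▸ Set.smul_mem_smul_set hu)
  have hp : ∀ D : X, D ≠ D₀ ↔ π a D ≠ D₀ := fun D => by
    show D ≠ D₀ ↔ a • D ≠ D₀
    conv_rhs => rw [← haD]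
    exact (smul_left_cancel_iff a).not.symm
  have hp2 : ∀ D : X, π a D ≠ D → D ≠ D₀ := fun D hD e => hD (by subst e; exact haD)
  have hmemA : (π a).subtypePerm (fun D => (hp D).symm) ∈ alternatingGroup Y := by
    rw [Equiv.Perm.mem_alternatingGroup]
    refine (Equiv.Perm.sign_subtypePerm (π a) (fun D => (hp D).symm) hp2).trans ?_
    exact MonoidHom.mem_ker.1 ha
  obtain ⟨k, hk, hkτ⟩ := hall hmemA
  have hkτ : π k = π a := hkτ.trans (Equiv.Perm.ofSubtype_subtypePerm _ hp2)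
  have hak : k = a := by
    refine (inv_mul_eq_one.1 (hkerbot (k⁻¹ * a) fun D => ?_))
    have := congrArg (fun p : Equiv.Perm X => p D) hkτ
    rw [mul_smul, show a • D = k • D from this.symm, inv_smul_smul]
  refine huc (smul_left_cancel t ?_)
  rw [← hax, ← hak]
  exact (mem_fixingSubgroup_iff G).1 hk _ htc

end Cfsg.Lib.Recog.MarggrafQuasi
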