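import Mathlib

/-!
# The element orders of `PGL(2, q)`, `q` odd
-/

set_option autoImplicit false
set_option linter.unusedSectionVars false
set_option linter.style.haveILetI false

namespace Cfsg.Lib.Recog

open Matrix Polynomial
open scoped MatrixGroups

variable {F : Type*} [Field F] [Fintype F]

local notation "GL2" => Matrix.GeneralLinearGroup (Fin 2) F

theorem pgl_mk_eq_one_iff (g : GL2) :
    (QuotientGroup.mk g : GL2 ⧸ Subgroup.center GL2) = 1 ↔
      ∃ c : F, (g : Matrix (Fin 2) (Fin 2) F) = c • 1 := by
  rw [QuotientGroup.eq_one_iff, Matrix.GeneralLinearGroup.center_eq_range_scalar, MonoidHom.mem_range]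
  constructor
  · rintro ⟨u, rfl⟩
    exact ⟨u, by simp [Matrix.smul_one_eq_diagonal]⟩
  · rintro ⟨c, hc⟩
    have hc0 : c ≠ 0 := by
      rintro rfl
      rw [zero_smul] at hc
      exact g.ne_zero hc
    exact ⟨Units.mk0 c hc0, Units.ext (by simp [hc, Matrix.smul_one_eq_diagonal])⟩

theorem pgl_two_exponents (p : ℕ) [Fact p.Prime] [CharP F p] (x : GL2 ⧸ Subgroup.center GL2) :
    x ^ p = 1 ∨ x ^ (Fintype.card F - 1) = 1 ∨ x ^ (Fintype.card F + 1) = 1 := by
  classical
  obtain ⟨g, rfl⟩ := QuotientGroup.mk_surjective x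
  simp only [← QuotientGroup.mk_pow, pgl_mk_eq_one_iff, Units.val_pow_eq_pow_val]
  set q := Fintype.card F with hq
  set M : Matrix (Fin 2) (Fin 2) F := (g : Matrix (Fin 2) (Fin 2) F) with hM
  set f : F[X] := M.charpoly with hf
  have hfM : aeval M f = 0 := Matrix.aeval_self_charpoly M
  have hmon : f.Monic := Matrix.charpoly_monic M
  have hdeg : f.natDegree = 2 := by rw [hf, Matrix.charpoly_natDegree_eq_dim, Fintype.card_fin]
  have h0 : f.coeff 0 ≠ 0 := by
    have h := Matrix.det_eq_sign_charpoly_coeff M
    intro h0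
    rw [← hf, h0, mul_zero] at h
    exact (Matrix.GeneralLinearGroup.det g).ne_zero (by simpa using h)
  by_cases hroot : ∃ a, f.IsRoot a
  · obtain ⟨a, ha⟩ := hroot
    obtain ⟨h, hh⟩ := dvd_iff_isRoot.2 ha
    have hhm : h.Monic := (monic_X_sub_C a).of_mul_monic_left (hh ▸ hmon)
    have hhd : h.natDegree = 1 := by
      have := (monic_X_sub_C a).natDegree_mul hhm
      rw [← hh, hdeg, natDegree_X_sub_C] at this
      omega
    have hb : h = X - C (-h.coeff 0) := by
      rw [map_neg, sub_neg_eq_add]; exact hhm.eq_X_add_C hhd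
    set b := -h.coeff 0
    rw [hb] at hh
    have hab : a * b ≠ 0 := fun e => h0 (by rw [hh]; simp [coeff_zero_eq_eval_zero, e])
    by_cases hne : a = b
    · left
      refine ⟨a ^ p, ?_⟩
      have hnil : (M - algebraMap F _ a) ^ 2 = 0 := by
        have h2 := hfM
        rw [hh, ← hne, ← pow_two, map_pow, map_sub, aeval_X, aeval_C] at h2
        exact h2
      have hp0 : (M - algebraMap F _ a) ^ p = 0 := pow_eq_zero_of_le (Fact.out : p.Prime).two_le hnil
      haveI : CharP (Matrix (Fin 2) (Fin 2) F) p := Matrix.charP p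
      rw [sub_pow_char_of_commute _ (Algebra.commute_algebraMap_right a M), sub_eq_zero,
        ← map_pow, Algebra.algebraMap_eq_smul_one] at hp0
      exact hp0
    · right; left
      refine ⟨1, ?_⟩
      have hd : f ∣ X ^ (q - 1) - 1 := by
        rw [hh]
        refine IsCoprime.mul_dvd (isCoprime_X_sub_C_of_isUnit_sub (sub_ne_zero.2 hne).isUnit) ?_ ?_
        all_goals
          refine dvd_iff_isRoot.2 ?_
          simp only [IsRoot, eval_sub, eval_pow, eval_X, eval_one, sub_eq_zero]
        · exact FiniteField.pow_card_sub_one_eq_one a (left_ne_zero_of_mul hab)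
        · exact FiniteField.pow_card_sub_one_eq_one b (right_ne_zero_of_mul hab)
      have h2 := aeval_eq_zero_of_dvd_aeval_eq_zero hd hfM
      simpa [sub_eq_zero] using h2
  · right; right
    push Not at hroot
    haveI : Fact (Irreducible f) := ⟨(hmon.irreducible_iff_roots_eq_zero_of_degree_le_three
      (by omega) (by omega)).2 (Multiset.eq_zero_of_forall_notMem fun a ha =>
        hroot a (isRoot_of_mem_roots ha))⟩
    obtain ⟨n, hn⟩ : ∃ n : ℕ, q = p ^ n := let ⟨n, _, hn⟩ := FiniteField.card F p; ⟨n, hn⟩
    set K := AdjoinRoot f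
    haveI : CharP K p := charP_of_injective_algebraMap (algebraMap F K).injective p
    set r := AdjoinRoot.root f
    set t := -f.coeff 1
    set d := f.coeff 0
    have hfeq : f = X ^ 2 - C t * X + C d := by
      conv_lhs => rw [f.as_sum_range_C_mul_X_pow, hdeg]
      simp [Finset.sum_range_succ, t, d, show f.coeff 2 = 1 from hdeg ▸ hmon]
      ring
    have hr : r ^ 2 = algebraMap F K t * r - algebraMap F K d := by
      have h := congrArg (AdjoinRoot.mk f) hfeq
      rw [AdjoinRoot.mk_self] at h
      simp only [map_add, map_sub, map_mul, map_pow, AdjoinRoot.mk_X, AdjoinRoot.mk_C,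
        ← AdjoinRoot.algebraMap_eq] at h
      linear_combination -h
    have hrq : (r ^ q) ^ 2 = algebraMap F K t * r ^ q - algebraMap F K d := by
      rw [← pow_mul, mul_comm, pow_mul, hr, hn, sub_pow_char_pow, mul_pow, ← map_pow, ← map_pow, ← hn,
        hq, FiniteField.pow_card, FiniteField.pow_card]
    have hsplit : (r ^ q - r) * (r ^ q + r - algebraMap F K t) = 0 := by linear_combination hrq - hr
    rcases mul_eq_zero.1 hsplit with h | h
    · -- then the root is in the base field
      exfalso
      classical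
      have hmem : ∃ a : F, algebraMap F K a = r := by
        by_contra hno
        push Not at hno
        have hsub : insert r ((Finset.univ : Finset F).image (algebraMap F K)) ⊆
            (X ^ q - X : K[X]).roots.toFinset := by
          intro y hy
          rw [Multiset.mem_toFinset, mem_roots (FiniteField.X_pow_card_sub_X_ne_zero K Fintype.one_lt_card)]
          simp only [IsRoot, eval_sub, eval_pow, eval_X, sub_eq_zero]
          rcases Finset.mem_insert.mp hy with rfl | hy
          · exact sub_eq_zero.1 h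
          · obtain ⟨a, -, rfl⟩ := Finset.mem_image.mp hy
            rw [← map_pow, FiniteField.pow_card]
        have h1 := (Finset.card_le_card hsub).trans (Multiset.toFinset_card_le _)
        rw [Finset.card_insert_of_notMem (by
            intro hm
            obtain ⟨a, -, ha⟩ := Finset.mem_image.mp hm
            exact hno a ha),
          Finset.card_image_of_injective _ (algebraMap F K).injective, Finset.card_univ, ← hq] at h1
        have h2 := h1.trans (card_roots' _)
        rw [FiniteField.X_pow_card_sub_X_natDegree_eq K Fintype.one_lt_card] at h2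
        omega
      obtain ⟨a, ha⟩ := hmem
      refine hroot a ?_
      rw [IsRoot, hfeq]
      apply (algebraMap F K).injective
      simp only [eval_add, eval_sub, eval_mul, eval_pow, eval_X, eval_C, map_add, map_sub, map_mul,
        map_pow, ha, map_zero]
      linear_combination hr
    · refine ⟨d, ?_⟩
      have hd : f ∣ X ^ (q + 1) - C d := by
        rw [← AdjoinRoot.mk_eq_zero, map_sub, map_pow, AdjoinRoot.mk_X, AdjoinRoot.mk_C,
          ← AdjoinRoot.algebraMap_eq, pow_succ]
        linear_combination r * h - hr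
      have h2 := aeval_eq_zero_of_dvd_aeval_eq_zero hd hfM
      simpa [sub_eq_zero, Algebra.algebraMap_eq_smul_one] using h2

theorem exists_pgl_two_orderOf (p : ℕ) [Fact p.Prime] [CharP F p] (hp : p ≠ 2) :
    (∃ x : GL2 ⧸ Subgroup.center GL2, orderOf x = p) ∧
    (∃ x : GL2 ⧸ Subgroup.center GL2, orderOf x = Fintype.card F - 1) ∧
    (∃ x : GL2 ⧸ Subgroup.center GL2, orderOf x = Fintype.card F + 1) := by
  classical
  refine ⟨?_, ?_, ?_⟩
  · let g : GL2 := Matrix.GeneralLinearGroup.mkOfDetNeZero !![1, 1; 0, 1] (by simp [Matrix.det_fin_two])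
    have hg : ∀ n : ℕ, ((g ^ n : GL2) : Matrix (Fin 2) (Fin 2) F) = !![1, (n : F); 0, 1] := by
      intro n
      induction n with
      | zero => simp [Matrix.one_fin_two]
      | succ n ih =>
        rw [pow_succ, Units.val_mul, ih]
        ext i j
        fin_cases i <;> fin_cases j <;>
          simp [g, Matrix.GeneralLinearGroup.mkOfDetNeZero, Matrix.mul_apply, Fin.sum_univ_two, add_comm]
    refine ⟨QuotientGroup.mk g, orderOf_eq_prime ?_ ?_⟩
    · rw [← QuotientGroup.mk_pow, pgl_mk_eq_one_iff, hg, CharP.cast_eq_zero]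
      exact ⟨1, by simp [Matrix.one_fin_two]⟩
    · rw [Ne, pgl_mk_eq_one_iff]
      rintro ⟨c, hc⟩
      have h1 := hg 1
      rw [pow_one, hc] at h1
      simpa using congrFun (congrFun h1 0) 1
  · obtain ⟨u, hu⟩ := IsCyclic.exists_ofOrder_eq_natCard (α := Fˣ)
    have hu' : orderOf u = Fintype.card F - 1 := by
      rw [hu, Nat.card_eq_fintype_card, Fintype.card_units]
    let g : GL2 := Matrix.GeneralLinearGroup.mkOfDetNeZero (Matrix.diagonal ![(u : F), 1])
      (by simp [Matrix.det_diagonal, Fin.prod_univ_two])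
    have hg : ∀ n : ℕ, ((g ^ n : GL2) : Matrix (Fin 2) (Fin 2) F) = Matrix.diagonal ![(u : F) ^ n, 1] := by
      intro n
      rw [Units.val_pow_eq_pow_val]
      show (Matrix.diagonal ![(u : F), 1]) ^ n = _
      rw [Matrix.diagonal_pow]
      congr 1
      funext i
      fin_cases i <;> simp
    refine ⟨QuotientGroup.mk g, ?_⟩
    rw [← hu', orderOf_eq_orderOf_iff]
    intro n
    rw [← QuotientGroup.mk_pow, pgl_mk_eq_one_iff, hg, Units.ext_iff, Units.val_pow_eq_pow_val]
    constructor
    · rintro ⟨c, hc⟩
      have h1 := congrFun (congrFun hc 1) 1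
      have h2 := congrFun (congrFun hc 0) 0
      simp at h1 h2
      rw [h2, ← h1, Units.val_one]
    · intro h
      refine ⟨1, ?_⟩
      rw [h, Units.val_one, one_smul, ← Matrix.diagonal_one]
      congr 1
      funext i
      fin_cases i <;> simp
  · obtain ⟨ν, hν⟩ := FiniteField.exists_nonsquare (F := F)
      (by rw [ringChar.eq F p]; exact hp)
    have hirr : Irreducible (X ^ 2 - C ν : F[X]) :=
      X_pow_sub_C_irreducible_of_prime Nat.prime_two fun b hb => hν ⟨b, by rw [← pow_two, hb]⟩
    haveI : Fact (Irreducible (X ^ 2 - C ν : F[X])) := ⟨hirr⟩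
    set K := AdjoinRoot (X ^ 2 - C ν : F[X])
    let pb := AdjoinRoot.powerBasis' (monic_X_pow_sub_C ν two_ne_zero)
    have hdim : pb.dim = 2 := by simp [pb]
    let bas : Module.Basis (Fin 2) F K := pb.basis.reindex (finCongr hdim)
    let φ : K →ₐ[F] Matrix (Fin 2) (Fin 2) F := Algebra.leftMulMatrix bas
    have hφ : Function.Injective φ := Algebra.leftMulMatrix_injective bas
    haveI : Module.Finite F K := Module.Finite.of_basis bas
    haveI : Finite K := Module.finite_of_finite F
    obtain ⟨u, hu⟩ := IsCyclic.exists_ofOrder_eq_natCard (α := Kˣ)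
    have hK : Nat.card K = Fintype.card F ^ 2 := by
      rw [Module.natCard_eq_pow_finrank (K := F), Nat.card_eq_fintype_card,
        Module.finrank_eq_card_basis bas, Fintype.card_fin]
    rw [Nat.card_units, hK] at hu
    let g : GL2 := Units.map (φ : K →* Matrix (Fin 2) (Fin 2) F) u
    refine ⟨QuotientGroup.mk g, ?_⟩
    set q := Fintype.card F
    have hq1 : 1 < q := Fintype.one_lt_card
    have hfac : q ^ 2 - 1 = (q + 1) * (q - 1) := by
      have := Nat.sq_sub_sq q 1; rwa [one_pow] at this
    apply Nat.dvd_antisymm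
    · apply orderOf_dvd_of_pow_eq_one
      rw [← QuotientGroup.mk_pow, pgl_mk_eq_one_iff]
      have hu1 : ((u : K) ^ (q + 1)) ^ (q - 1) = 1 := by
        rw [← pow_mul, ← hfac, ← hu, ← Units.val_pow_eq_pow_val, pow_orderOf_eq_one, Units.val_one]
      obtain ⟨c, hc⟩ : ∃ c : F, algebraMap F K c = (u : K) ^ (q + 1) := by
        by_contra hno
        push Not at hno
        have hsub : insert ((u : K) ^ (q + 1)) ((Finset.univ : Finset F).image (algebraMap F K)) ⊆
            (X ^ q - X : K[X]).roots.toFinset := by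
          intro y hy
          rw [Multiset.mem_toFinset, mem_roots (FiniteField.X_pow_card_sub_X_ne_zero K hq1)]
          simp only [IsRoot, eval_sub, eval_pow, eval_X, sub_eq_zero]
          rcases Finset.mem_insert.mp hy with rfl | hy
          · calc ((u : K) ^ (q + 1)) ^ q = ((u : K) ^ (q + 1)) ^ (q - 1) * (u : K) ^ (q + 1) := by
                  rw [← pow_succ, Nat.sub_add_cancel hq1.le]
              _ = _ := by rw [hu1, one_mul]
          · obtain ⟨a, -, rfl⟩ := Finset.mem_image.mp hy
            rw [← map_pow, FiniteField.pow_card]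
        have h1 := (Finset.card_le_card hsub).trans (Multiset.toFinset_card_le _)
        rw [Finset.card_insert_of_notMem (by
            intro hm
            obtain ⟨a, -, ha⟩ := Finset.mem_image.mp hm
            exact hno a ha),
          Finset.card_image_of_injective _ (algebraMap F K).injective, Finset.card_univ] at h1
        have h2 := h1.trans (card_roots' _)
        rw [FiniteField.X_pow_card_sub_X_natDegree_eq K hq1] at h2
        omega
      refine ⟨c, ?_⟩
      rw [Units.val_pow_eq_pow_val]
      show (φ (u : K)) ^ (q + 1) = _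
      rw [← map_pow, ← hc, AlgHom.commutes, Algebra.algebraMap_eq_smul_one]
    · set n := orderOf (QuotientGroup.mk g : GL2 ⧸ Subgroup.center GL2)
      have hn : (QuotientGroup.mk g : GL2 ⧸ Subgroup.center GL2) ^ n = 1 := pow_orderOf_eq_one _
      rw [← QuotientGroup.mk_pow, pgl_mk_eq_one_iff, Units.val_pow_eq_pow_val] at hn
      obtain ⟨c, hc⟩ := hn
      change (φ (u : K)) ^ n = _ at hc
      rw [← map_pow, ← Algebra.algebraMap_eq_smul_one, ← AlgHom.commutes φ] at hc
      have hc' := hφ hc
      have hc0 : c ≠ 0 := by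
        rintro rfl
        rw [map_zero] at hc'
        exact u.ne_zero (eq_zero_of_pow_eq_zero hc')
      have h1 : u ^ (n * (q - 1)) = 1 := Units.ext (by
        rw [Units.val_pow_eq_pow_val, pow_mul, hc', ← map_pow,
          FiniteField.pow_card_sub_one_eq_one c hc0, map_one, Units.val_one])
      have h2 := orderOf_dvd_of_pow_eq_one h1
      rw [hu, hfac] at h2
      exact Nat.dvd_of_mul_dvd_mul_right (by omega) h2

/-- The element orders of `PGL(2, q)`, `q` odd. -/
theorem pgl_two_spectrum (p : ℕ) [Fact p.Prime] [CharP F p] (hp : p ≠ 2) :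
    Set.range (orderOf : GL2 ⧸ Subgroup.center GL2 → ℕ) =
      {m : ℕ | m ∣ p ∨ m ∣ Fintype.card F - 1 ∨ m ∣ Fintype.card F + 1} := by
  ext m
  constructor
  · rintro ⟨x, rfl⟩
    rcases pgl_two_exponents p x with h | h | h
    · exact Or.inl (orderOf_dvd_of_pow_eq_one h)
    · exact Or.inr (Or.inl (orderOf_dvd_of_pow_eq_one h))
    · exact Or.inr (Or.inr (orderOf_dvd_of_pow_eq_one h))
  · intro hm
    obtain ⟨⟨x₁, h₁⟩, ⟨x₂, h₂⟩, ⟨x₃, h₃⟩⟩ := exists_pgl_two_orderOf (F := F) p hp
    suffices hbig : ∃ x : GL2 ⧸ Subgroup.center GL2, m ∣ orderOf x by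
      obtain ⟨x, hx⟩ := hbig
      exact ⟨x ^ (orderOf x / m), orderOf_pow_orderOf_div (orderOf_pos x).ne' hx⟩
    rcases hm with h | h | h
    · exact ⟨x₁, h₁ ▸ h⟩
    · exact ⟨x₂, h₂ ▸ h⟩
    · exact ⟨x₃, h₃ ▸ h⟩

end Cfsg.Lib.Recog
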