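import Cfsg.Agent.S3993
import Cfsg.Agent.S4377
import Cfsg.Agent.Lib.Small.SimpleOrder

/-!
# Counting elements of each order

Elementary restrictions on the numbers of elements of given orders.
-/

set_option autoImplicit false
set_option linter.style.haveILetI false
set_option linter.unusedSectionVars false

namespace Cfsg.Lib.Recog.SameOrderCounts

open Subgroup
open scoped Function

universe u

/-- The number of elements of order `m`. -/
noncomputable def cnt (G : Type u) [Group G] (m : ℕ) : ℕ := Nat.card {g : G // orderOf g = m}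

variable {G : Type u} [Group G] [Finite G]

theorem cnt_ne_zero_iff {m : ℕ} : cnt G m ≠ 0 ↔ ∃ g : G, orderOf g = m := by
  rw [cnt, Nat.card_ne_zero, nonempty_subtype]
  exact ⟨fun h => h.1, fun h => ⟨h, inferInstance⟩⟩

theorem cnt_self (g : G) : cnt G (orderOf g) ≠ 0 := cnt_ne_zero_iff.mpr ⟨g, rfl⟩

theorem cnt_one : cnt G 1 = 1 :=
  Nat.card_eq_one_iff_unique.mpr ⟨⟨fun x y => Subtype.ext
    ((orderOf_eq_one_iff.mp x.2).trans (orderOf_eq_one_iff.mp y.2).symm)⟩, ⟨⟨1, orderOf_one⟩⟩⟩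

theorem cnt_zero : cnt G 0 = 0 := by
  by_contra h
  obtain ⟨g, hg⟩ := cnt_ne_zero_iff.mp h
  exact (orderOf_pos g).ne' hg

theorem totient_dvd (m : ℕ) : m.totient ∣ cnt G m := Cfsg.Agent.S3993.totient_dvd_card_orderOf_eq m

theorem dvd_card {m : ℕ} (h : cnt G m ≠ 0) : m ∣ Nat.card G := by
  obtain ⟨g, rfl⟩ := cnt_ne_zero_iff.mp h
  exact orderOf_dvd_natCard g

theorem cnt_ne_zero_of_dvd {d m : ℕ} (hd : d ∣ m) (h : cnt G m ≠ 0) : cnt G d ≠ 0 := by
  obtain ⟨g, rfl⟩ := cnt_ne_zero_iff.mp h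
  exact cnt_ne_zero_iff.mpr ⟨g ^ (orderOf g / d), orderOf_pow_orderOf_div (orderOf_pos g).ne' hd⟩

theorem cnt_eq_zero_of_dvd {d m : ℕ} (hd : d ∣ m) (h : cnt G d = 0) : cnt G m = 0 :=
  by_contra fun h' => cnt_ne_zero_of_dvd hd h' h

theorem not_dvd_orderOf {d : ℕ} (h : cnt G d = 0) (g : G) : ¬ d ∣ orderOf g := fun hd =>
  cnt_ne_zero_of_dvd hd (cnt_self g) h

/-- Frobenius' theorem, in terms of the counts. -/
theorem dvd_sum {m : ℕ} (hm : m ∣ Nat.card G) : m ∣ ∑ d ∈ m.divisors, cnt G d :=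
  (Cfsg.Agent.S4377.key G (Nat.pos_of_dvd_of_pos hm Nat.card_pos)) ▸ Cfsg.Agent.S3993.result m hm

theorem dvd_sum_of_ne {m : ℕ} (h : cnt G m ≠ 0) : m ∣ ∑ d ∈ m.divisors, cnt G d := dvd_sum (dvd_card h)

theorem cnt_prime {p : ℕ} (hp : p.Prime) (h : p ∣ Nat.card G) : cnt G p ≠ 0 := by
  haveI := Fact.mk hp
  exact cnt_ne_zero_iff.mpr (exists_prime_orderOf_dvd_card' p h)

theorem prime_dvd_succ {p : ℕ} (hp : p.Prime) (h : cnt G p ≠ 0) : p ∣ 1 + cnt G p := by
  have h1 := dvd_sum_of_ne h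
  rwa [Nat.Prime.sum_divisors hp, cnt_one, add_comm] at h1

theorem card_eq_sum (D : Finset ℕ) (h : ∀ g : G, orderOf g ∈ D) : Nat.card G = ∑ m ∈ D, cnt G m := by
  classical
  haveI := Fintype.ofFinite G
  rw [Nat.card_eq_fintype_card, ← Finset.card_univ,
    Finset.card_eq_sum_card_fiberwise (f := fun g : G => orderOf g) (t := D) fun g _ => h g]
  refine Finset.sum_congr rfl fun m _ => ?_
  rw [cnt, Nat.card_eq_fintype_card, Fintype.card_subtype]

theorem sum_le_card (N : Subgroup G) (D : Finset ℕ) (h : ∀ g : G, orderOf g ∈ D → g ∈ N) :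
    ∑ m ∈ D, cnt G m ≤ Nat.card N := by
  classical
  haveI := Fintype.ofFinite G
  haveI := Fintype.ofFinite N
  have h1 : ∑ m ∈ D, cnt G m = (Finset.univ.filter fun g : G => orderOf g ∈ D).card := by
    rw [Finset.card_eq_sum_card_fiberwise (f := fun g : G => orderOf g) (t := D)
      (s := Finset.univ.filter fun g : G => orderOf g ∈ D)
      fun g hg => (Finset.mem_filter.mp (Finset.mem_coe.mp hg)).2]
    refine Finset.sum_congr rfl fun m hm => ?_
    rw [cnt, Nat.card_eq_fintype_card, Fintype.card_subtype, Finset.filter_filter]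
    refine congrArg Finset.card (Finset.filter_congr fun g _ => ?_)
    exact ⟨fun e => ⟨e.symm ▸ hm, e⟩, fun e => e.2⟩
  rw [h1, Nat.card_eq_fintype_card, Fintype.card_subtype (fun g => g ∈ N) |>.trans rfl]
  exact Finset.card_le_card fun g hg => Finset.mem_filter.mpr ⟨Finset.mem_univ g, h g (Finset.mem_filter.mp hg).2⟩

/-- A number divides `N` when each of its primes does so to a sufficient power. -/
theorem dvd_of_bounds {m N : ℕ} (h : ∀ p : ℕ, p.Prime → p ∣ m → ∃ k, p ^ k ∣ N ∧ ¬ p ^ (k + 1) ∣ m) :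
    m ∣ N := by
  rw [Nat.dvd_iff_prime_pow_dvd_dvd]
  intro p j hp hj
  rcases Nat.eq_zero_or_pos j with rfl | hj0
  · simp
  obtain ⟨k, hk, hk'⟩ := h p hp ((dvd_pow_self p hj0.ne').trans hj)
  refine (pow_dvd_pow p ?_).trans hk
  by_contra hlt
  exact hk' ((pow_dvd_pow p (by omega)).trans hj)

/-- Without elements of order `p ^ (k + 1)`, the order of a Sylow subgroup divides a sum of counts. -/
theorem sylow_dvd_sum {p k : ℕ} [hp : Fact p.Prime] (hk : cnt G (p ^ (k + 1)) = 0) (P : Sylow p G) :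
    Nat.card (P : Subgroup G) ∣ ∑ i ∈ Finset.range (k + 1), cnt G (p ^ i) := by
  obtain ⟨c, hc⟩ := IsPGroup.iff_card.mp P.isPGroup'
  have hz : ∀ i, k + 1 ≤ i → cnt G (p ^ i) = 0 := fun i hi => cnt_eq_zero_of_dvd (pow_dvd_pow p hi) hk
  have h1 := dvd_sum (G := G) (hc ▸ card_subgroup_dvd_card (P : Subgroup G))
  rw [Nat.sum_divisors_prime_pow hp.out] at h1
  have h2 : ∀ i, c + 1 ≤ i → cnt G (p ^ i) = 0 := fun i hi => by
    by_contra h
    have h3 : p ^ (c + 1) ∣ Nat.card G := (pow_dvd_pow p hi).trans (dvd_card h)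
    have h4 := P.pow_dvd_card_of_pow_dvd_card h3
    rw [hc, Nat.pow_dvd_pow_iff_le_right hp.out.one_lt] at h4
    omega
  rw [hc]
  have e : ∑ i ∈ Finset.range (c + 1), cnt G (p ^ i) = ∑ i ∈ Finset.range (k + 1), cnt G (p ^ i) := by
    rcases le_total c k with hle | hle
    · exact Finset.sum_subset (Finset.range_mono (by omega)) fun i _ hi =>
        h2 i (not_lt.mp (fun hlt => hi (Finset.mem_range.mpr hlt)))
    · exact (Finset.sum_subset (Finset.range_mono (by omega)) fun i _ hi =>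
        hz i (not_lt.mp (fun hlt => hi (Finset.mem_range.mpr hlt)))).symm
  exact e ▸ h1

/-- Cyclic Sylow subgroups force many elements of the largest order. -/
theorem cyclic_bound {p k : ℕ} [hp : Fact p.Prime] {x₀ : G} (hx₀ : orderOf x₀ = p ^ (k + 1))
    (P₀ : Sylow p G) (hP₀ : Nat.card (P₀ : Subgroup G) = p ^ (k + 1)) :
    p ^ k * cnt G p ≤ cnt G (p ^ (k + 1)) := by
  classical
  have hp2 := hp.out.two_le
  have hroot : ∀ y : G, orderOf y = p → ∃ x : G, orderOf x = p ^ (k + 1) ∧ x ^ p ^ k = y := by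
    intro y hy
    obtain ⟨Q, hQ⟩ := (IsPGroup.of_card (G := ↥(zpowers x₀)) (p := p) (n := k + 1)
      (by rw [Nat.card_zpowers, hx₀])).exists_le_sylow
    obtain ⟨R, hR⟩ := (IsPGroup.of_card (G := ↥(zpowers y)) (p := p) (n := 1)
      (by rw [Nat.card_zpowers, hy, pow_one])).exists_le_sylow
    have hQc : zpowers x₀ = (Q : Subgroup G) := eq_of_le_of_card_ge hQ (by
      rw [Q.card_eq_multiplicity, ← P₀.card_eq_multiplicity, hP₀, Nat.card_zpowers, hx₀])
    obtain ⟨g, hg⟩ := MulAction.exists_smul_eq G Q R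
    have hyR : y ∈ (R : Subgroup G) := hR (mem_zpowers y)
    rw [← hg, Sylow.coe_subgroup_smul] at hyR
    obtain ⟨z, hz, hzy⟩ := hyR
    rw [← hQc] at hz
    have hzp := mem_powers_iff_mem_zpowers.mpr hz
    obtain ⟨n, hn⟩ := hzp
    change x₀ ^ n = z at hn
    have hzg : g * z * g⁻¹ = y := by
      rw [← hzy]
      simp [ConjAct.smul_def]
    have hzo : orderOf z = p := by
      rw [← hy, ← hzg, ← MulAut.conj_apply, MulEquiv.orderOf_eq]
    have hn0 : n ≠ 0 := by
      rintro rfl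
      rw [pow_zero] at hn
      rw [← hn, orderOf_one] at hzo
      exact hp.out.ne_one hzo.symm
    rw [← hn, orderOf_pow' x₀ hn0, hx₀] at hzo
    have hgd : Nat.gcd (p ^ (k + 1)) n ∣ p ^ (k + 1) := Nat.gcd_dvd_left _ _
    have hmul : p ^ (k + 1) = Nat.gcd (p ^ (k + 1)) n * p := by
      have h := Nat.mul_div_cancel' hgd
      rw [hzo] at h
      exact h.symm
    have hgk : Nat.gcd (p ^ (k + 1)) n = p ^ k :=
      Nat.eq_of_mul_eq_mul_right hp.out.pos (hmul.symm.trans (pow_succ p k))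
    obtain ⟨j, hj⟩ : p ^ k ∣ n := hgk ▸ Nat.gcd_dvd_right _ _
    have hpj : ¬ p ∣ j := fun ⟨i, hi⟩ => by
      have : p ^ (k + 1) ∣ Nat.gcd (p ^ (k + 1)) n := Nat.dvd_gcd dvd_rfl ⟨i, by rw [hj, hi, pow_succ]; ring⟩
      rw [hgk, Nat.pow_dvd_pow_iff_le_right hp.out.one_lt] at this
      omega
    refine ⟨g * x₀ ^ j * g⁻¹, ?_, ?_⟩
    · rw [← MulAut.conj_apply, MulEquiv.orderOf_eq, Nat.Coprime.orderOf_pow, hx₀]
      rw [hx₀]
      exact ((hp.out.coprime_iff_not_dvd).mpr hpj).pow_left _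
    · rw [← MulAut.conj_apply, ← map_pow, ← pow_mul, mul_comm j, ← hj, hn, MulAut.conj_apply, ← hzy]
      simp [ConjAct.smul_def]
  choose r hr1 hr2 using hroot
  let f : {g : G // orderOf g = p} × Fin (p ^ k) → {g : G // orderOf g = p ^ (k + 1)} := fun a =>
    ⟨r a.1.1 a.1.2 ^ (1 + p * (a.2 : ℕ)), by
      rw [Nat.Coprime.orderOf_pow, hr1 _ a.1.2]
      rw [hr1 _ a.1.2]
      refine ((hp.out.coprime_iff_not_dvd).mpr fun h => ?_).pow_left _
      have := (Nat.dvd_add_left (dvd_mul_right p _)).mp h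
      exact hp.out.not_dvd_one this⟩
  have hf : Function.Injective f := by
    rintro ⟨⟨y, hy⟩, i⟩ ⟨⟨y', hy'⟩, i'⟩ e
    have e' : r y hy ^ (1 + p * (i : ℕ)) = r y' hy' ^ (1 + p * (i' : ℕ)) := congrArg Subtype.val e
    have hyy : y = y' := by
      have h1 : ∀ (z : G) (hz : orderOf z = p) (j : ℕ), (r z hz ^ (1 + p * j)) ^ p ^ k = z := fun z hz j => by
        rw [← pow_mul, mul_comm, pow_mul, hr2, pow_add, pow_one, pow_mul]
        rw [show z ^ p = 1 from hz ▸ pow_orderOf_eq_one z, one_pow, mul_one]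
      rw [← h1 y hy i, ← h1 y' hy' i', e']
    subst hyy
    have hlt : ∀ j : Fin (p ^ k), 1 + p * (j : ℕ) < p ^ (k + 1) := fun j => by
      have h1 : p * ((j : ℕ) + 1) ≤ p * p ^ k := Nat.mul_le_mul_left p j.2
      rw [← pow_succ', mul_add, mul_one] at h1
      omega
    have := pow_injOn_Iio_orderOf (x := r y hy) (by rw [hr1, Set.mem_Iio]; exact hlt i)
      (by rw [hr1, Set.mem_Iio]; exact hlt i') e'
    have hii : (i : ℕ) = i' := Nat.eq_of_mul_eq_mul_left hp.out.pos (by omega)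
    exact Prod.ext rfl (Fin.ext hii)
  have := Nat.card_le_card_of_injective f hf
  rw [Nat.card_prod, Nat.card_fin] at this
  rw [mul_comm]
  exact this

/-- With Sylow subgroups of order `p`, the elements of order `p * q` are equidistributed. -/
theorem cnt_dvd_cnt_mul {p q : ℕ} [hp : Fact p.Prime] (hq : q.Prime) (hpq : p ≠ q)
    (hP : ∀ P : Sylow p G, Nat.card (P : Subgroup G) = p) : cnt G p ∣ cnt G (p * q) := by
  classical
  haveI := Fintype.ofFinite G
  have hco : Nat.Coprime p q := (Nat.coprime_primes hp.out hq).mpr hpq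
  let A : G → Type u := fun y => {g : G // orderOf g = p * q ∧ g ^ q = y}
  have hle : ∀ y y' : G, orderOf y = p → orderOf y' = p → Nat.card (A y) ≤ Nat.card (A y') := by
    intro y y' hy hy'
    obtain ⟨P, hPy⟩ := Cfsg.Lib.Small.exists_sylow_eq_zpowers hP hy
    obtain ⟨P', hPy'⟩ := Cfsg.Lib.Small.exists_sylow_eq_zpowers hP hy'
    obtain ⟨c, hc⟩ := MulAction.exists_smul_eq G P P'
    have hmem : y' ∈ (P' : Subgroup G) := hPy' ▸ mem_zpowers y'
    rw [← hc, Sylow.coe_subgroup_smul, hPy] at hmem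
    obtain ⟨z, hz, hzy⟩ := hmem
    obtain ⟨j, hj⟩ := mem_powers_iff_mem_zpowers.mpr hz
    change y ^ j = z at hj
    have hcy : c * y ^ j * c⁻¹ = y' := by rw [hj, ← hzy]; simp
    obtain ⟨e, he1, he2⟩ := Nat.chineseRemainder hco j 1
    have hey : y ^ e = y ^ j := pow_eq_pow_iff_modEq.mpr (hy ▸ he1)
    have hpe : Nat.Coprime (p * q) e := by
      refine Nat.Coprime.mul_left ((hp.out.coprime_iff_not_dvd).mpr fun h => ?_)
        ((hq.coprime_iff_not_dvd).mpr fun h => ?_)
      · have h0 : y' = 1 := by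
          rw [← hcy, ← hey, orderOf_dvd_iff_pow_eq_one.mp (hy.symm ▸ h)]
          group
        rw [h0, orderOf_one] at hy'
        exact hp.out.ne_one hy'.symm
      · have := Nat.ModEq.dvd_iff he2 (dvd_refl q)
        exact hq.not_dvd_one (this.mp h)
    refine Nat.card_le_card_of_injective (fun g : A y => (⟨c * g.1 ^ e * c⁻¹, ?_, ?_⟩ : A y')) fun g h hgh => ?_
    · rw [← MulAut.conj_apply, MulEquiv.orderOf_eq, Nat.Coprime.orderOf_pow (g.2.1.symm ▸ hpe), g.2.1]
    · rw [← MulAut.conj_apply, ← map_pow, ← pow_mul]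
      rw [show e * q = q * e from mul_comm e q, pow_mul, g.2.2, hey, MulAut.conj_apply, hcy]
    · have h1 : g.1 ^ e = h.1 ^ e := (MulAut.conj c).injective (congrArg Subtype.val hgh)
      obtain ⟨d, hd⟩ := Nat.exists_mul_mod_eq_one_of_coprime hpe.symm
        (by have := hp.out.two_le; have := hq.two_le; nlinarith)
      refine Subtype.ext ?_
      have key : ∀ u : A y, (u.1 ^ e) ^ d = u.1 := fun u => by
        rw [← pow_mul, ← pow_mod_orderOf, u.2.1, hd.2, pow_one]
      rw [← key g, ← key h, h1]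
  by_cases h0 : cnt G p = 0
  · rw [cnt_eq_zero_of_dvd (dvd_mul_right p q) h0]
    exact dvd_zero _
  obtain ⟨y₀, hy₀⟩ := cnt_ne_zero_iff.mp h0
  refine ⟨Nat.card (A y₀), ?_⟩
  let f : (Σ y : {y : G // orderOf y = p}, A y.1) → {g : G // orderOf g = p * q} := fun a => ⟨a.2.1, a.2.2.1⟩
  have hf : Function.Bijective f := by
    refine ⟨?_, fun g => ?_⟩
    · rintro ⟨⟨y, hy⟩, g, hg⟩ ⟨⟨y', hy'⟩, g', hg'⟩ e
      have e' : g = g' := congrArg Subtype.val e
      subst e'
      obtain rfl : y = y' := hg.2.symm.trans hg'.2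
      rfl
    · refine ⟨⟨⟨g.1 ^ q, ?_⟩, ⟨g.1, g.2, rfl⟩⟩, rfl⟩
      rw [orderOf_pow_of_dvd hq.ne_zero (g.2.symm ▸ dvd_mul_left q p), g.2, Nat.mul_div_cancel _ hq.pos]
  calc cnt G (p * q) = Nat.card (Σ y : {y : G // orderOf y = p}, A y.1) := (Nat.card_eq_of_bijective f hf).symm
    _ = ∑ y : {y : G // orderOf y = p}, Nat.card (A y.1) := Nat.card_sigma
    _ = ∑ _y : {y : G // orderOf y = p}, Nat.card (A y₀) :=
      Finset.sum_congr rfl fun y _ => le_antisymm (hle _ _ y.2 hy₀) (hle _ _ hy₀ y.2)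
    _ = cnt G p * Nat.card (A y₀) := by
      rw [Finset.sum_const, Finset.card_univ, smul_eq_mul, cnt, ← Nat.card_eq_fintype_card]

/-- An element of order coprime to the index of a normal subgroup lies in it. -/
theorem mem_of_coprime {N : Subgroup G} [N.Normal] {g : G} (h : (orderOf g).Coprime N.index) : g ∈ N := by
  rw [← QuotientGroup.eq_one_iff, ← orderOf_eq_one_iff]
  refine Nat.eq_one_of_dvd_coprimes h (orderOf_map_dvd (QuotientGroup.mk' N) g) ?_
  rw [Subgroup.index_eq_card]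
  exact orderOf_dvd_natCard _

/-- A self-centralizing element of order `p` on a normal subgroup of order prime to `p`. -/
theorem fpf_counts {p : ℕ} [hp : Fact p.Prime] {y : G} (hy : orderOf y = p)
    (hC : centralizer ({y} : Set G) ≤ zpowers y) (N : Subgroup G) [N.Normal] (hN : ¬ p ∣ Nat.card N) :
    Nat.card N % p = 1 ∧ ∀ m, m ≠ 1 → p ∣ cnt N m := by
  classical
  set A := zpowers y
  have hA : IsPGroup p A := IsPGroup.of_card (n := 1) (by rw [Nat.card_zpowers, hy, pow_one])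
  have hone : ∀ n : N, (n : G) ∈ centralizer ({y} : Set G) → n = 1 := fun n hn => by
    have h1 : orderOf n ∣ p := by
      rw [← Subgroup.orderOf_coe]
      have := Subgroup.orderOf_dvd_natCard (zpowers y) (hC hn)
      rwa [Nat.card_zpowers, hy] at this
    rw [← orderOf_eq_one_iff]
    exact ((Nat.dvd_prime hp.out).mp h1).resolve_right fun e => hN (e ▸ orderOf_dvd_natCard n)
  have hfix : ∀ n : N, y * (n : G) * y⁻¹ = n → n = 1 := fun n h =>
    hone n (mem_centralizer_singleton_iff.mpr (mul_inv_eq_iff_eq_mul.mp h).symm)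
  let act : MulAction A N :=
    { smul := fun a g => ⟨(a : G) * g * (a : G)⁻¹, (inferInstance : N.Normal).conj_mem _ g.2 _⟩
      one_smul := fun g => Subtype.ext (show (1 : G) * g * (1 : G)⁻¹ = g by group)
      mul_smul := fun a b g => Subtype.ext (by
        show ((a * b : A) : G) * g * ((a * b : A) : G)⁻¹ = (a : G) * ((b : G) * g * (b : G)⁻¹) * (a : G)⁻¹
        rw [Subgroup.coe_mul]; group) }
  constructor
  · have h := hA.card_modEq_card_fixedPoints N
    have h1 : Nat.card (MulAction.fixedPoints A N) = 1 := by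
      refine Nat.card_eq_one_iff_unique.mpr ⟨⟨fun u v => Subtype.ext ?_⟩, ⟨⟨1, fun a => Subtype.ext ?_⟩⟩⟩
      · have hu := hfix u.1 (congrArg Subtype.val (u.2 ⟨y, mem_zpowers y⟩))
        have hv := hfix v.1 (congrArg Subtype.val (v.2 ⟨y, mem_zpowers y⟩))
        rw [hu, hv]
      · show (a : G) * ((1 : N) : G) * (a : G)⁻¹ = ((1 : N) : G)
        simp
    rw [h1] at h
    exact Eq.trans h (Nat.mod_eq_of_lt hp.out.one_lt)
  · intro m hm
    let actm : MulAction A {n : N // orderOf n = m} :=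
      { smul := fun a g => ⟨a • g.1, by
          show orderOf (⟨(a : G) * g.1 * (a : G)⁻¹, _⟩ : N) = m
          rw [Subgroup.orderOf_mk, ← MulAut.conj_apply, MulEquiv.orderOf_eq, Subgroup.orderOf_coe, g.2]⟩
        one_smul := fun g => Subtype.ext (one_smul A g.1)
        mul_smul := fun a b g => Subtype.ext (mul_smul a b g.1) }
    have h := hA.card_modEq_card_fixedPoints {n : N // orderOf n = m}
    have : IsEmpty (MulAction.fixedPoints A {n : N // orderOf n = m}) := by
      refine ⟨fun g => hm ?_⟩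
      have := hfix g.1.1 (congrArg Subtype.val (congrArg Subtype.val (g.2 ⟨y, mem_zpowers y⟩)))
      rw [← g.1.2, this, orderOf_one]
    rw [Nat.card_of_isEmpty (α := MulAction.fixedPoints A {n : N // orderOf n = m})] at h
    exact Nat.modEq_zero_iff_dvd.mp h

/-- An element of prime order `p` is self-centralizing when no element has order `p * q`. -/
theorem centralizer_le {p : ℕ} [hp : Fact p.Prime] (hP : ∀ P : Sylow p G, Nat.card (P : Subgroup G) = p)
    {y : G} (hy : orderOf y = p)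
    (h : ∀ q : ℕ, q.Prime → q ≠ p → q ∣ Nat.card G → cnt G (p * q) = 0) :
    centralizer ({y} : Set G) ≤ zpowers y := by
  set C := centralizer ({y} : Set G)
  have hyC : y ∈ C := mem_centralizer_singleton_iff.mpr rfl
  have hle : zpowers y ≤ C := zpowers_le.mpr hyC
  have hCp : IsPGroup p C := by
    refine IsPGroup.iff_card.mpr ⟨(Nat.card C).primeFactorsList.length,
      Nat.eq_prime_pow_of_unique_prime_dvd Nat.card_pos.ne' ?_⟩
    intro q hq hqC
    by_contra hne
    haveI := Fact.mk hq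
    obtain ⟨t, ht⟩ := exists_prime_orderOf_dvd_card' (G := C) q hqC
    rw [← Subgroup.orderOf_coe] at ht
    refine (?_ : cnt G (p * q) ≠ 0) (h q hq hne (hqC.trans (card_subgroup_dvd_card C)))
    refine cnt_ne_zero_iff.mpr ⟨y * t, ?_⟩
    have hcomm : Commute y (t : G) := (mem_centralizer_singleton_iff.mp t.2).symm
    rw [hcomm.orderOf_mul_eq_mul_orderOf_of_coprime (by
      rw [hy, ht]; exact (Nat.coprime_primes hp.out hq).mpr (Ne.symm hne)), hy, ht]
  obtain ⟨P, hPC⟩ := hCp.exists_le_sylow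
  rw [eq_of_le_of_card_ge hle ?_]
  refine (Subgroup.card_le_of_le hPC).trans (le_of_eq ?_)
  rw [hP P, Nat.card_zpowers, hy]

end Cfsg.Lib.Recog.SameOrderCounts
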