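import Cfsg.Agent.S0144
import Mathlib.LinearAlgebra.Matrix.Charpoly.Coeff
import Mathlib.LinearAlgebra.Matrix.SpecialLinearGroup
import Mathlib.GroupTheory.SemidirectProduct
import Mathlib.Algebra.Quaternion
import Mathlib.Algebra.QuadraticAlgebra.Defs
import Mathlib.GroupTheory.Solvable
import Mathlib.Tactic.NormNum.Prime
import Mathlib.Tactic.NoncommRing

/-!
# A solvable group with the spectrum of `PSL(3,3)`

The element orders of `SL(3,3)` follow from the nine possible characteristic polynomials.  The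
binary octahedral group, realised among the unit quaternions over `F₁₃(√2)`, acts without fixed
points on the quaternion algebra, and the semidirect product has the same element orders.
-/

set_option autoImplicit false
set_option linter.style.haveILetI false

namespace Cfsg.Lib.Recog.LThreeThree

/-- The set of element orders. -/
def orders : List ℕ := [1, 2, 3, 4, 6, 8, 13]

theorem mem_orders_of_pow {M : Type*} [Monoid M] {x : M} (h : x ^ 6 = 1 ∨ x ^ 8 = 1 ∨ x ^ 13 = 1) :
    orderOf x ∈ orders := by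
  rcases h with h | h | h <;> have hd := orderOf_dvd_of_pow_eq_one h <;>
    have hle := Nat.le_of_dvd (by norm_num) hd <;>
    interval_cases orderOf x <;> simp_all [orders]

/-- Multiplication by a root of `X ^ 3 = t X ^ 2 - s X + 1` on coefficient triples. -/
def step (t s : ZMod 3) (v : ZMod 3 × ZMod 3 × ZMod 3) : ZMod 3 × ZMod 3 × ZMod 3 :=
  (v.1 * t + v.2.1, v.2.2 - v.1 * s, v.1)

theorem step_cases : ∀ t s : ZMod 3, (step t s)^[6] (0, 0, 1) = (0, 0, 1) ∨
    (step t s)^[8] (0, 0, 1) = (0, 0, 1) ∨ (step t s)^[13] (0, 0, 1) = (0, 0, 1) := by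
  decide +kernel

open Matrix in
theorem orderOf_mem (g : SpecialLinearGroup (Fin 3) (ZMod 3)) : orderOf g ∈ orders := by
  set A : Matrix (Fin 3) (Fin 3) (ZMod 3) := g.1
  set t : ZMod 3 := A 0 0 + A 1 1 + A 2 2
  set s : ZMod 3 := A 0 0 * A 1 1 - A 0 1 * A 1 0 + A 0 0 * A 2 2 - A 0 2 * A 2 0 + A 1 1 * A 2 2 -
    A 1 2 * A 2 1
  have hdet : A.det = 1 := g.2
  rw [Matrix.det_fin_three] at hdet
  have hCH : A * A * A = t • (A * A) - s • A + 1 := by
    ext i j
    simp only [Matrix.add_apply, Matrix.sub_apply, Matrix.smul_apply, Matrix.mul_apply,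
      Fin.sum_univ_three, smul_eq_mul, Matrix.one_apply, t, s]
    fin_cases i <;> fin_cases j <;> simp only [Fin.isValue, Fin.zero_eta, Fin.mk_one, Fin.reduceFinMk,
      Fin.reduceEq, if_true, if_false] <;> first | linear_combination hdet | ring
  let val : ZMod 3 × ZMod 3 × ZMod 3 → Matrix (Fin 3) (Fin 3) (ZMod 3) :=
    fun v => v.1 • (A * A) + v.2.1 • A + v.2.2 • 1
  have hstep : ∀ v, A * val v = val (step t s v) := by
    intro v
    simp only [val, step, mul_add, Matrix.mul_smul, mul_one, ← mul_assoc, hCH]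
    module
  have hpow : ∀ k : ℕ, val ((step t s)^[k] (0, 0, 1)) = A ^ k := by
    intro k
    induction k with
    | zero => simp [val]
    | succ k ih => rw [Function.iterate_succ_apply', ← hstep, ih, pow_succ']
  have hone : ∀ k : ℕ, (step t s)^[k] (0, 0, 1) = (0, 0, 1) → g ^ k = 1 := by
    intro k hk
    refine Subtype.ext ?_
    rw [SpecialLinearGroup.coe_pow, SpecialLinearGroup.coe_one]
    show A ^ k = 1
    rw [← hpow, hk]
    simp [val]
  exact mem_orders_of_pow ((step_cases t s).imp (hone 6) (Or.imp (hone 8) (hone 13)))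

open Matrix in
theorem range_orderOf_SL :
    Set.range (orderOf : SpecialLinearGroup (Fin 3) (ZMod 3) → ℕ) = {n | n ∈ orders} := by
  ext n
  refine ⟨fun ⟨g, hg⟩ => hg ▸ orderOf_mem g, fun hn => ?_⟩
  let a : SpecialLinearGroup (Fin 3) (ZMod 3) := ⟨!![0, 1, 0; 1, 1, 0; 0, 0, 2], by decide +kernel⟩
  let b : SpecialLinearGroup (Fin 3) (ZMod 3) := ⟨!![0, 0, 1; 1, 0, 1; 0, 1, 0], by decide +kernel⟩
  let c : SpecialLinearGroup (Fin 3) (ZMod 3) := ⟨!![2, 1, 0; 0, 2, 0; 0, 0, 1], by decide +kernel⟩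
  have ha : orderOf a = 8 := orderOf_eq_prime_pow (p := 2) (n := 2) (by decide +kernel) (by decide +kernel)
  have hb : orderOf b = 13 := by
    haveI : Fact (Nat.Prime 13) := ⟨by norm_num⟩
    exact orderOf_eq_prime (Subtype.ext (by decide +kernel))
      fun h => absurd (congrArg Subtype.val h) (by decide +kernel)
  have hc : orderOf c = 6 := (orderOf_eq_iff (by norm_num)).2 ⟨by decide +kernel, fun m hm hm0 => by
    interval_cases m <;> decide +kernel⟩
  simp only [orders, List.mem_cons, List.not_mem_nil, or_false] at hn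
  rcases hn with rfl | rfl | rfl | rfl | rfl | rfl | rfl
  · exact ⟨1, orderOf_one⟩
  · exact ⟨a ^ 4, by rw [orderOf_pow, ha]; rfl⟩
  · exact ⟨c ^ 2, by rw [orderOf_pow, hc]; rfl⟩
  · exact ⟨a ^ 2, by rw [orderOf_pow, ha]; rfl⟩
  · exact ⟨c, hc⟩
  · exact ⟨a, ha⟩
  · exact ⟨b, hb⟩

/-- `F₁₃(√2)`. -/
abbrev R : Type := QuadraticAlgebra (ZMod 13) 2 0

/-- The quaternion algebra over `F₁₃(√2)`. -/
abbrev Q : Type := Quaternion R

instance decEqQuaternionThirteen : DecidableEq Q := fun x y =>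
  decidable_of_iff (x.re = y.re ∧ x.imI = y.imI ∧ x.imJ = y.imJ ∧ x.imK = y.imK)
    ⟨fun ⟨a, b, c, d⟩ => Quaternion.ext _ _ a b c d, fun h => h ▸ ⟨rfl, rfl, rfl, rfl⟩⟩

/-- `±1`. -/
def signs : List R := [1, -1]

/-- `1 / √2`. -/
def rt : R := ⟨0, 7⟩

/-- The binary octahedral group. -/
def elts : List Q :=
  signs.flatMap (fun s => [⟨s, 0, 0, 0⟩, ⟨0, s, 0, 0⟩, ⟨0, 0, s, 0⟩, ⟨0, 0, 0, s⟩]) ++
    signs.flatMap (fun a => signs.flatMap fun b => signs.flatMap fun c => signs.map fun d =>
      ⟨7 * a, 7 * b, 7 * c, 7 * d⟩) ++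
    signs.flatMap (fun a => signs.flatMap fun b => [⟨rt * a, rt * b, 0, 0⟩, ⟨rt * a, 0, rt * b, 0⟩,
      ⟨rt * a, 0, 0, rt * b⟩, ⟨0, rt * a, rt * b, 0⟩, ⟨0, rt * a, 0, rt * b⟩, ⟨0, 0, rt * a, rt * b⟩])

theorem elts_length : elts.length = 48 ∧ elts.Nodup := by decide +kernel

theorem elts_mul : ∀ x ∈ elts, ∀ y ∈ elts, x * y ∈ elts := by decide +kernel

theorem elts_star : ∀ x ∈ elts, star x * x = 1 ∧ x * star x = 1 ∧ star x ∈ elts := by decide +kernel

theorem elts_order : ∀ x ∈ elts, x ^ 6 = 1 ∨ x ^ 8 = 1 := by decide +kernel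

theorem elts_re : ∀ x ∈ elts, x ≠ 1 → ∃ c ∈ ([1, 2, 3, 4, 5, 6, 7, 8, 9, 10, 11, 12] : List (ZMod 13)).flatMap
    (fun a => [(⟨a, 0⟩ : R), ⟨0, a⟩]) ++ ([(1 : ZMod 13), 2, 3, 4, 5, 6, 7, 8, 9, 10, 11, 12].flatMap
      fun a => [1, 2, 3, 4, 5, 6, 7, 8, 9, 10, 11, 12].map fun b => (⟨a, b⟩ : R)),
    (2 - (x.re + x.re)) * c = 1 := by decide +kernel

theorem one_mem_elts : (1 : Q) ∈ elts := by decide +kernel

/-- An element of order eight. -/
def qEight : Q := ⟨rt, rt, 0, 0⟩

/-- An element of order six. -/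
def qSix : Q := ⟨7, 7, 7, 7⟩

theorem q_mem : qEight ∈ elts ∧ qSix ∈ elts := by decide +kernel

/-- The binary octahedral group inside the unit group. -/
def K : Subgroup Qˣ where
  carrier := {u | (u : Q) ∈ elts}
  one_mem' := one_mem_elts
  mul_mem' := fun {a b} ha hb => elts_mul _ ha _ hb
  inv_mem' := fun {a} ha => by
    show ((a⁻¹ : Qˣ) : Q) ∈ elts
    rw [← left_inv_eq_right_inv (elts_star _ ha).1 (Units.mul_inv a)]
    exact (elts_star _ ha).2.2

/-- Left multiplication. -/
def φ : K →* MulAut (Multiplicative Q) where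
  toFun k := AddEquiv.toMultiplicative
    { toFun := fun v => ((k : Qˣ) : Q) * v
      invFun := fun v => (((k : Qˣ)⁻¹ : Qˣ) : Q) * v
      left_inv := fun v => Units.inv_mul_cancel_left _ v
      right_inv := fun v => Units.mul_inv_cancel_left _ v
      map_add' := fun _ _ => mul_add _ _ _ }
  map_one' := MulEquiv.ext fun v => one_mul (Multiplicative.toAdd v)
  map_mul' := fun _ _ => MulEquiv.ext fun v => mul_assoc _ _ (Multiplicative.toAdd v)

/-- The solvable group. -/
abbrev H : Type := Multiplicative Q ⋊[φ] K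

noncomputable instance finiteH : Finite H :=
  haveI : Finite R := Finite.of_equiv _ (QuadraticAlgebra.equivProd 2 0).symm
  haveI : Finite Q := Finite.of_equiv _ (QuaternionAlgebra.equivTuple (-1 : R) 0 (-1)).symm
  haveI : Finite K := Finite.of_injective (fun k : K => ((k : Qˣ) : Q))
    fun _ _ h => Subtype.ext (Units.ext h)
  Finite.of_equiv _ SemidirectProduct.equivProd.symm

theorem card_K : Nat.card K = 48 := by
  classical
  let e : K ≃ {x : Q // x ∈ elts.toFinset} :=
    { toFun := fun k => ⟨((k : Qˣ) : Q), List.mem_toFinset.2 k.2⟩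
      invFun := fun x => ⟨⟨x.1, star x.1, (elts_star _ (List.mem_toFinset.1 x.2)).2.1,
        (elts_star _ (List.mem_toFinset.1 x.2)).1⟩, List.mem_toFinset.1 x.2⟩
      left_inv := fun k => Subtype.ext (Units.ext rfl)
      right_inv := fun _ => rfl }
  rw [Nat.card_congr e, Nat.card_eq_fintype_card, Fintype.card_coe,
    List.toFinset_card_of_nodup elts_length.2, elts_length.1]

theorem isSolvable_H : Group.IsSolvable H := by
  haveI : Finite K := Nat.finite_of_card_ne_zero (by rw [card_K]; norm_num)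
  haveI : Group.IsSolvable K := Cfsg.Agent.S0144.result 2 3 4 1 Nat.prime_two Nat.prime_three
    (by rw [card_K]; norm_num)
  exact Group.isSolvable_of_ker_le_range SemidirectProduct.inl SemidirectProduct.rightHom
    SemidirectProduct.range_inl_eq_ker_rightHom.ge

theorem inl_pow_thirteen (v : Multiplicative Q) : v ^ 13 = 1 := by
  refine Multiplicative.toAdd.injective ?_
  show (13 : ℕ) • Multiplicative.toAdd v = 0
  rw [nsmul_eq_mul, show ((13 : ℕ) : Q) = 0 by decide +kernel, zero_mul]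

/-- The kernel of `k - 1` is trivial. -/
theorem fpf {k : K} (hk : k ≠ 1) {v : Q} (h : ((k : Qˣ) : Q) * v = v) : v = 0 := by
  set x : Q := ((k : Qˣ) : Q)
  have hne : x ≠ 1 := fun e => hk (Subtype.ext (Units.ext e))
  obtain ⟨c, -, hc⟩ := elts_re x k.2 hne
  have h0 : (x - 1) * v = 0 := by rw [sub_mul, one_mul, h, sub_self]
  have h1 : (star x - 1) * (x - 1) = ((2 - (x.re + x.re) : R) : Q) := by
    have e : (star x - 1) * (x - 1) = (star x * x + 1) - (star x + x) := by
      rw [sub_mul, mul_sub, mul_one, one_mul]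
      abel
    rw [e, (elts_star x k.2).1, Quaternion.star_add_self', two_mul, show (2 : R) = 1 + 1 from one_add_one_eq_two.symm,
      Quaternion.coe_sub, Quaternion.coe_add, Quaternion.coe_add, Quaternion.coe_one]
  have h2 : ((c : R) : Q) * (((2 - (x.re + x.re) : R) : Q) * v) = 0 := by
    rw [← h1, mul_assoc, h0, mul_zero, mul_zero]
  rw [← mul_assoc, ← Quaternion.coe_mul, mul_comm, hc, Quaternion.coe_one, one_mul] at h2
  exact h2

theorem orderOf_H (x : H) : orderOf x ∈ orders := by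
  obtain ⟨v, k⟩ := x
  refine mem_orders_of_pow ?_
  by_cases hk : k = 1
  · refine Or.inr (Or.inr ?_)
    have : (⟨v, k⟩ : H) = SemidirectProduct.inl v := by rw [hk]; rfl
    rw [this, ← map_pow, inl_pow_thirteen, map_one]
  · suffices ∀ m : ℕ, ((k : Qˣ) : Q) ^ m = 1 → (⟨v, k⟩ : H) ^ m = 1 from
      (elts_order _ k.2).elim (fun h => Or.inl (this 6 h)) fun h => Or.inr (Or.inl (this 8 h))
    intro m hm
    have hkm : k ^ m = 1 := Subtype.ext (Units.ext (by simpa using hm))
    set y := (⟨v, k⟩ : H) ^ m with hy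
    have hyr : y.right = 1 := by
      have := map_pow SemidirectProduct.rightHom (⟨v, k⟩ : H) m
      exact this.trans hkm
    have hcomm : y * ⟨v, k⟩ = ⟨v, k⟩ * y := (Commute.self_pow _ m).symm.eq
    have hl := congrArg SemidirectProduct.left hcomm
    rw [SemidirectProduct.mul_left, SemidirectProduct.mul_left, hyr, map_one, MulAut.one_apply,
      mul_comm y.left v] at hl
    have hl' := congrArg Multiplicative.toAdd (mul_left_cancel hl)
    have := fpf hk (v := Multiplicative.toAdd y.left) hl'.symm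
    refine SemidirectProduct.ext ?_ ?_
    · exact Multiplicative.toAdd.injective this
    · exact hyr

theorem range_orderOf_H : Set.range (orderOf : H → ℕ) = {n | n ∈ orders} := by
  ext n
  refine ⟨fun ⟨g, hg⟩ => hg ▸ orderOf_H g, fun hn => ?_⟩
  let a : K := ⟨⟨⟨rt, rt, 0, 0⟩, ⟨rt, -rt, 0, 0⟩, by decide +kernel, by decide +kernel⟩,
    q_mem.1⟩
  let c : K := ⟨⟨⟨7, 7, 7, 7⟩, ⟨7, -7, -7, -7⟩, by decide +kernel, by decide +kernel⟩,
    q_mem.2⟩
  have hinr : ∀ k : K, orderOf (SemidirectProduct.inr k : H) = orderOf ((k : Qˣ) : Q) := fun k => by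
    rw [orderOf_injective _ SemidirectProduct.inr_injective, orderOf_units, Subgroup.orderOf_coe]
  have ha : orderOf (SemidirectProduct.inr a : H) = 8 := by
    rw [hinr]
    exact orderOf_eq_prime_pow (p := 2) (n := 2) (by decide +kernel) (by decide +kernel)
  have hc : orderOf (SemidirectProduct.inr c : H) = 6 := by
    rw [hinr]
    exact (orderOf_eq_iff (by norm_num)).2 ⟨by decide +kernel, fun m hm hm0 => by
      interval_cases m <;> decide +kernel⟩
  have hb : orderOf (SemidirectProduct.inl (Multiplicative.ofAdd (1 : Q)) : H) = 13 := by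
    haveI : Fact (Nat.Prime 13) := ⟨by norm_num⟩
    rw [orderOf_injective _ SemidirectProduct.inl_injective]
    exact orderOf_eq_prime (inl_pow_thirteen _) fun h =>
      absurd (congrArg Multiplicative.toAdd h) (show (1 : Q) ≠ 0 by decide +kernel)
  simp only [orders, List.mem_cons, List.not_mem_nil, or_false] at hn
  rcases hn with rfl | rfl | rfl | rfl | rfl | rfl | rfl
  · exact ⟨1, orderOf_one⟩
  · exact ⟨_, by rw [orderOf_pow' _ (show 4 ≠ 0 by norm_num), ha]; rfl⟩
  · exact ⟨_, by rw [orderOf_pow' _ (show 2 ≠ 0 by norm_num), hc]; rfl⟩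
  · exact ⟨_, by rw [orderOf_pow' _ (show 2 ≠ 0 by norm_num), ha]; rfl⟩
  · exact ⟨_, hc⟩
  · exact ⟨_, ha⟩
  · exact ⟨_, hb⟩

end Cfsg.Lib.Recog.LThreeThree
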