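import Cfsg.Agent.Lib.Recog.TwoSymFourModel
import Cfsg.Agent.Lib.Recog.NineSC.AltConj
import Cfsg.Agent.Lib.ZStar.Main
import Cfsg.Agent.S0111
import Cfsg.Agent.S3035
import Cfsg.Agent.Lib.Dickson.Solvable
import Mathlib.GroupTheory.FixedPointFree

/-!
# Groups with an involution centralizer `2 × S₄`
-/

set_option autoImplicit false
set_option linter.style.haveILetI false
set_option linter.unusedSectionVars false

namespace Cfsg.Lib.Recog.TwoSymFour

open Subgroup Equiv
open scoped Pointwise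

universe u

variable {G : Type u} [Group G] [Finite G]

/-- The hypotheses. -/
structure Setup (t : G) where
  e : centralizer ({t} : Set G) ≃* W
  ht : orderOf t = 2
  hsyl : Nat.card G = 48 * (centralizer ({t} : Set G)).index
  hodd : ¬ 2 ∣ (centralizer ({t} : Set G)).index
  h2 : ∀ S : Sylow 2 G,
    centralizer ((⁅(S : Subgroup G), (S : Subgroup G)⁆ : Subgroup G) : Set G) = (S : Subgroup G)

namespace Setup

variable {t : G} (d : Setup t)
include d

/-- The model map. -/
def emb : W →* G := (centralizer ({t} : Set G)).subtype.comp d.e.symm.toMonoidHom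

theorem emb_injective : Function.Injective d.emb :=
  (centralizer ({t} : Set G)).subtype_injective.comp d.e.symm.injective

theorem emb_comm (w : W) : d.emb w * t = t * d.emb w :=
  mem_centralizer_singleton_iff.mp (d.e.symm w).2

theorem exists_emb {x : G} (hx : x * t = t * x) : ∃ w, d.emb w = x :=
  ⟨d.e ⟨x, mem_centralizer_singleton_iff.mpr hx⟩, by simp [emb]⟩

theorem t_ne : t ≠ 1 := fun h => by have := d.ht; rw [h, orderOf_one] at this; omega

theorem emb_c : d.emb c = t := by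
  obtain ⟨w, hw⟩ := d.exists_emb (x := t) rfl
  have hc : ∀ k : W, k * w = w * k := fun k => d.emb_injective (by
    rw [map_mul, map_mul, hw]; exact d.emb_comm k)
  rcases central_eq w hc with rfl | rfl
  · rw [map_one] at hw; exact absurd hw.symm d.t_ne
  · exact hw

/-- The image of `z0`. -/
def z : G := d.emb z0

theorem z_ne : d.z ≠ 1 := fun h => by
  have h' : z0 = 1 := d.emb_injective (h.trans d.emb.map_one.symm)
  exact absurd h' (by decide +kernel)

theorem z_ne_t : d.z ≠ t := fun h => by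
  have h' : z0 = c := d.emb_injective (h.trans d.emb_c.symm)
  exact absurd h' (by decide +kernel)

theorem z_mul : d.z * d.z = 1 := by
  rw [z, ← map_mul, show z0 * z0 = 1 by decide +kernel, map_one]

/-- The Sylow subgroup. -/
def T : Subgroup G := T0.map d.emb

omit d in
theorem card_T0 : Nat.card T0 = 16 := by
  have hd : Nat.card (delta.range : Subgroup (Perm (Fin 4))) = 8 := by
    have hi : Function.Injective delta := fun a b => delta_injective a b
    rw [← Nat.card_congr (MonoidHom.ofInjective hi).toEquiv, DihedralGroup.nat_card]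
  rw [T0, Nat.card_congr (Subgroup.prodEquiv _ _).toEquiv, Nat.card_prod, hd]
  simp

theorem exists_sylow : ∃ S : Sylow 2 G, (S : Subgroup G) = d.T := by
  haveI : Fact (Nat.Prime 2) := ⟨Nat.prime_two⟩
  have hT : Nat.card d.T = 16 := by
    rw [T, Nat.card_congr (T0.equivMapOfInjective _ d.emb_injective).toEquiv.symm, card_T0]
  refine ⟨Sylow.ofCard d.T ?_, rfl⟩
  rw [hT, d.hsyl, Nat.factorization_mul (by norm_num) index_ne_zero_of_finite, Finsupp.add_apply,
    Nat.factorization_eq_zero_of_not_dvd d.hodd, add_zero, show (48 : ℕ) = 2 ^ 4 * 3 by norm_num,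
    Nat.factorization_mul (by norm_num) (by norm_num), Finsupp.add_apply,
    Nat.factorization_eq_zero_of_not_dvd (show ¬ 2 ∣ 3 by norm_num), add_zero,
    Nat.prime_two.factorization_pow, Finsupp.single_eq_same]
  norm_num

theorem z_mem_derived : d.z ∈ ⁅d.T, d.T⁆ := by
  obtain ⟨a, ha, b, hb, h⟩ := z0_eq
  rw [z, ← h, ← commutatorElement_def, map_commutatorElement]
  exact commutator_mem_commutator (mem_map_of_mem _ (mem_T0.2 ha)) (mem_map_of_mem _ (mem_T0.2 hb))

theorem derived_le : ⁅d.T, d.T⁆ ≤ zpowers d.z := by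
  rw [commutator_le]
  rintro _ ⟨a, ha, rfl⟩ _ ⟨b, hb, rfl⟩
  rw [← map_commutatorElement]
  rcases comm_T a (mem_T0.1 ha) b (mem_T0.1 hb) with h | h <;> rw [commutatorElement_def, h]
  · rw [map_one]; exact one_mem _
  · exact mem_zpowers _

/-- The centralizer of `z` is the Sylow subgroup. -/
theorem centralizer_z : centralizer ({d.z} : Set G) = d.T := by
  obtain ⟨S, hS⟩ := d.exists_sylow
  refine le_antisymm (fun x hx => ?_) ?_
  · rw [← hS, ← d.h2 S, hS, mem_centralizer_iff]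
    intro y hy
    obtain ⟨k, rfl⟩ := d.derived_le hy
    exact (Commute.zpow_right (mem_centralizer_singleton_iff.1 hx : Commute x d.z) k).eq.symm
  · rintro _ ⟨w, hw, rfl⟩
    rw [mem_centralizer_singleton_iff, z, ← map_mul, ← map_mul, z0_comm w (mem_T0.1 hw)]

/-- The normalizer of the Sylow subgroup is itself. -/
theorem normalizer_T_le {n : G} (hn : n ∈ normalizer (d.T : Set G)) : n ∈ d.T := by
  have h1 : n * d.z * n⁻¹ ∈ ⁅d.T, d.T⁆ := by
    have hmap : d.T.map (MulAut.conj n).toMonoidHom = d.T := mem_normalizer_iff_map_conj_eq.1 hn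
    have := mem_map_of_mem (MulAut.conj n).toMonoidHom d.z_mem_derived
    rwa [map_commutator, hmap] at this
  have h2 : n * d.z * n⁻¹ = d.z := by
    obtain ⟨k, hk⟩ := d.derived_le h1
    beta_reduce at hk
    have hne : n * d.z * n⁻¹ ≠ 1 := fun h => d.z_ne (by rwa [conj_eq_one_iff] at h)
    rcases Int.even_or_odd k with ⟨i, rfl⟩ | ⟨i, rfl⟩
    · rw [← two_mul, zpow_mul, zpow_two, d.z_mul, one_zpow] at hk
      exact absurd hk.symm hne
    · rw [zpow_add_one, zpow_mul, zpow_two, d.z_mul, one_zpow, one_mul] at hk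
      exact hk.symm
  rw [← d.centralizer_z, mem_centralizer_singleton_iff]
  exact mul_inv_eq_iff_eq_mul.1 h2

/-- Conjugate central elements of the Sylow subgroup are equal. -/
theorem central_conj_eq {x y : W} (hx : InT x) (hy : InT y) (hxc : ∀ k, InT k → k * x = x * k)
    (hyc : ∀ k, InT k → k * y = y * k) {g : G} (h : g * d.emb x * g⁻¹ = d.emb y) : x = y := by
  haveI : Fact (Nat.Prime 2) := ⟨Nat.prime_two⟩
  obtain ⟨S, hS⟩ := d.exists_sylow
  have hc : ∀ v : W, (∀ k, InT k → k * v = v * k) → d.emb v ∈ centralizer ((S : Subgroup G) : Set G) := by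
    intro v hv
    rw [hS, mem_centralizer_iff]
    rintro _ ⟨k, hk, rfl⟩
    rw [← map_mul, ← map_mul, hv k (mem_T0.1 hk)]
  obtain ⟨n, hn, hn'⟩ := Sylow.conj_eq_normalizer_conj_of_mem_centralizer S (d.emb x) g⁻¹ (hc x hxc)
    (by rw [inv_inv, h]; exact hc y hyc)
  rw [inv_inv, h] at hn'
  obtain ⟨k, hk, rfl⟩ := d.normalizer_T_le (n := n) (by rw [← hS]; exact hn)
  apply d.emb_injective
  rw [hn', ← map_inv, ← map_mul, ← map_mul, mul_assoc, ← hxc k (mem_T0.1 hk), inv_mul_cancel_left]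

theorem not_conj_z {g : G} : g * d.z * g⁻¹ ≠ t := fun h => d.z_ne_t (by
  rw [z, d.central_conj_eq (x := z0) (y := c) (by decide +kernel) (by decide +kernel)
    (fun k hk => (z0_comm k hk).symm) (fun k _ => (c_comm k).symm) (h.trans d.emb_c.symm), d.emb_c])

theorem not_conj_cz {g : G} : g * d.emb (c * z0) * g⁻¹ ≠ t := fun h => by
  have := d.central_conj_eq (x := c * z0) (y := c) (by decide +kernel) (by decide +kernel)
    (fun k hk => by rw [← mul_assoc, ← c_comm k, mul_assoc, ← z0_comm k hk, mul_assoc])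
    (fun k _ => (c_comm k).symm) (h.trans d.emb_c.symm)
  exact absurd this (by decide +kernel)

theorem emb_conj {r w : W} (h : Cl r w) : ∃ g : G, d.emb w = g * d.emb r * g⁻¹ := by
  obtain ⟨k, rfl⟩ := h
  exact ⟨d.emb k, by simp⟩

/-- The two classes of transpositions are not both fused to `t`. -/
theorem not_both {g g' : G} (h : g * d.emb s0 * g⁻¹ = t) (h' : g' * d.emb (c * s0) * g'⁻¹ = t) :
    False := by
  have hzs : d.z * d.emb s0 = d.emb s0 * d.z := by
    rw [z, ← map_mul, ← map_mul, show z0 * s0 = s0 * z0 by decide +kernel]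
  have haux : g * d.z * g⁻¹ * (g * d.emb s0 * g⁻¹) = g * d.emb s0 * g⁻¹ * (g * d.z * g⁻¹) := by
    calc g * d.z * g⁻¹ * (g * d.emb s0 * g⁻¹) = g * (d.z * d.emb s0) * g⁻¹ := by group
      _ = g * (d.emb s0 * d.z) * g⁻¹ := by rw [hzs]
      _ = _ := by group
  rw [h] at haux
  obtain ⟨w, hw⟩ := d.exists_emb (x := g * d.z * g⁻¹) haux
  have hww : w * w = 1 := d.emb_injective (by
    rw [map_mul, hw, map_one]
    calc g * d.z * g⁻¹ * (g * d.z * g⁻¹) = g * (d.z * d.z) * g⁻¹ := by group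
      _ = 1 := by rw [d.z_mul, mul_one, mul_inv_cancel])
  have hzw : d.z = g⁻¹ * d.emb w * g := by rw [hw]; group
  rcases involutions w hww with rfl | rfl | hk | hk | hk | hk
  · rw [map_one] at hw
    exact d.z_ne (by rwa [eq_comm, conj_eq_one_iff] at hw)
  · exact d.not_conj_z (hw.symm.trans d.emb_c)
  · obtain ⟨k, hk⟩ := hk
    set n := (d.emb k)⁻¹ * g with hn
    have hnz : n * d.z * n⁻¹ = d.z := by
      rw [hn, show (d.emb k)⁻¹ * g * d.z * ((d.emb k)⁻¹ * g)⁻¹ = (d.emb k)⁻¹ * (g * d.z * g⁻¹) * d.emb k by group,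
        ← hw, ← hk]
      simp [z, mul_assoc]
    have hnT : n ∈ d.T := by
      rw [← d.centralizer_z, mem_centralizer_singleton_iff]; exact mul_inv_eq_iff_eq_mul.1 hnz
    obtain ⟨u, -, hu⟩ := hnT
    have h1 : n * d.emb s0 * n⁻¹ = t := by
      rw [hn, show (d.emb k)⁻¹ * g * d.emb s0 * ((d.emb k)⁻¹ * g)⁻¹ = (d.emb k)⁻¹ * (g * d.emb s0 * g⁻¹) * d.emb k by group,
        h, mul_assoc, ← d.emb_comm k, inv_mul_cancel_left]
    rw [← hu, ← map_inv, ← map_mul, ← map_mul] at h1
    have h3 := d.emb_injective (h1.trans d.emb_c.symm)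
    rw [mul_inv_eq_iff_eq_mul, c_comm] at h3
    exact absurd (mul_left_cancel h3) (by decide +kernel)
  · obtain ⟨g₁, hg₁⟩ := d.emb_conj hk
    rw [hg₁] at hzw
    have heq : g⁻¹ * g₁ * d.emb (c * z0) * (g⁻¹ * g₁)⁻¹ = d.emb z0 := by
      rw [show d.emb z0 = d.z from rfl, hzw]; group
    have := d.central_conj_eq (x := c * z0) (y := z0) (by decide +kernel) (by decide +kernel)
      (fun k hk => by rw [← mul_assoc, ← c_comm k, mul_assoc, ← z0_comm k hk, mul_assoc])
      (fun k hk => (z0_comm k hk).symm) heq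
    exact absurd this (by decide +kernel)
  · obtain ⟨g₁, hg₁⟩ := d.emb_conj hk
    rw [hg₁] at hzw
    refine d.not_conj_z (g := g * g₁⁻¹ * g) (Eq.trans ?_ h)
    rw [hzw]; group
  · obtain ⟨g₁, hg₁⟩ := d.emb_conj hk
    rw [hg₁] at hzw
    refine d.not_conj_z (g := g' * g₁⁻¹ * g) (Eq.trans ?_ h')
    rw [hzw]; group

/-- A normal subgroup of index two avoiding `t`. -/
theorem exists_index_two : ∃ M : Subgroup G, M.Normal ∧ M.index = 2 ∧ t ∉ M := by
  obtain ⟨S, hS⟩ := d.exists_sylow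
  have main : ∀ χ : W →* ℤˣ, χ c = -1 → Fintype.card {w : W // InT w ∧ χ w = 1} = 8 →
      (∀ w : W, InT w → χ w = 1 → w * w = 1 → ∀ g : G, g * t * g⁻¹ ≠ d.emb w) →
      ∃ M : Subgroup G, M.Normal ∧ M.index = 2 ∧ t ∉ M := by
    intro χ hc hcard hno
    set Q := (T0 ⊓ χ.ker).map d.emb with hQ
    have hidx : Q.relIndex (S : Subgroup G) = 2 := by
      rw [hS, T, hQ, relIndex_map_map_of_injective _ _ d.emb_injective]
      have h8 : Nat.card ↥(T0 ⊓ χ.ker) = 8 := by
        rw [← hcard, ← Nat.card_eq_fintype_card]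
        exact Nat.card_congr (Equiv.subtypeEquivRight fun w => by simp [mem_T0, MonoidHom.mem_ker])
      have h := card_mul_index ((T0 ⊓ χ.ker).subgroupOf T0)
      rw [Nat.card_congr (subgroupOfEquivOfLe (inf_le_left : T0 ⊓ χ.ker ≤ T0)).toEquiv, h8, card_T0] at h
      rw [relIndex]
      omega
    have htQ : t ∉ Q := by
      rintro ⟨w, hw, he⟩
      obtain rfl := d.emb_injective (he.trans d.emb_c.symm)
      have h1 : χ c = 1 := hw.2
      rw [hc] at h1
      exact absurd h1 (by decide)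
    have htS : t ∈ (S : Subgroup G) := by
      have h1 : d.emb c ∈ d.T := mem_map_of_mem _ (mem_T0.2 (by decide +kernel))
      rw [hS]; rwa [d.emb_c] at h1
    rcases Cfsg.Agent.S0111.result S Q (by rw [hS]; exact map_mono inf_le_left) hidx t d.ht htS htQ with
      h | ⟨g, w, hw, he⟩
    · exact h
    · exfalso
      refine hno w (mem_T0.1 hw.1) hw.2 (d.emb_injective ?_) g he.symm
      rw [map_mul, he, map_one, conj_mul, ← pow_two, ← d.ht, pow_orderOf_eq_one, mul_one, mul_inv_cancel]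
  by_cases hs : ∃ g : G, g * d.emb s0 * g⁻¹ = t
  · obtain ⟨g₀, hg₀⟩ := hs
    refine main chi1 chi1_c chi1_card fun w _ hw hww g he => ?_
    rcases chi1_inv w hww hw with rfl | hk | hk
    · rw [map_one, conj_eq_one_iff] at he; exact d.t_ne he
    · obtain ⟨g₁, hg₁⟩ := d.emb_conj hk
      exact d.not_conj_z (g := g⁻¹ * g₁) (Eq.trans (b := g⁻¹ * d.emb w * g) (by rw [hg₁, z]; group) (by rw [← he]; group))
    · obtain ⟨g₁, hg₁⟩ := d.emb_conj hk
      exact d.not_both hg₀ (g' := g⁻¹ * g₁)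
        (Eq.trans (b := g⁻¹ * d.emb w * g) (by rw [hg₁]; group) (by rw [← he]; group))
  · refine main chi0 chi0_c chi0_card fun w _ hw hww g he => ?_
    rcases chi0_inv w hww hw with rfl | hk | hk
    · rw [map_one, conj_eq_one_iff] at he; exact d.t_ne he
    · obtain ⟨g₁, hg₁⟩ := d.emb_conj hk
      exact d.not_conj_z (g := g⁻¹ * g₁) (Eq.trans (b := g⁻¹ * d.emb w * g) (by rw [hg₁, z]; group) (by rw [← he]; group))
    · obtain ⟨g₁, hg₁⟩ := d.emb_conj hk
      exact hs ⟨g⁻¹ * g₁, Eq.trans (b := g⁻¹ * d.emb w * g) (by rw [hg₁]; group) (by rw [← he]; group)⟩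

/-- The odd core is trivial. -/
theorem oddCore_eq_bot : oddCore G = ⊥ := by
  set O := oddCore G with hO
  haveI : O.Normal := by rw [hO]; infer_instance
  have hodd : Odd (Nat.card O) := ZStar.odd_card_oddCore
  have hord : ∀ x ∈ O, Odd (orderOf x) := fun x hx =>
    hodd.of_dvd_nat (orderOf_dvd_natCard O hx)
  have hfix : ∀ x ∈ O, x * d.z = d.z * x → x = 1 := by
    intro x hx hc
    have hxT : x ∈ d.T := by rw [← d.centralizer_z, mem_centralizer_singleton_iff]; exact hc
    obtain ⟨S, hS⟩ := d.exists_sylow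
    rw [← hS] at hxT
    obtain ⟨k, hk⟩ := S.2 ⟨x, hxT⟩
    have h2 : orderOf x ∣ 2 ^ k := orderOf_dvd_of_pow_eq_one (congrArg Subtype.val hk)
    obtain ⟨i, -, hi⟩ := (Nat.dvd_prime_pow Nat.prime_two).1 h2
    rcases i with _ | i
    · exact orderOf_eq_one_iff.1 (by rw [hi, pow_zero])
    · exact absurd (hord x hx) (by rw [hi, pow_succ']; simp [parity_simps])
  let φ : O →* O := (MulAut.conjNormal d.z).toMonoidHom
  have hφv : ∀ x : O, (φ x : G) = d.z * x * d.z⁻¹ := fun x => MulAut.conjNormal_apply _ _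
  have hzi : d.z⁻¹ = d.z := inv_eq_of_mul_eq_one_right d.z_mul
  have hinv : (φ : O → O) = fun x => x⁻¹ := by
    refine MonoidHom.FixedPointFree.coe_eq_inv_of_involutive (fun x hx => ?_) fun x => ?_
    · refine Subtype.ext (hfix _ x.2 ?_)
      have := congrArg Subtype.val hx
      rw [hφv] at this
      exact (mul_inv_eq_iff_eq_mul.1 this).symm
    · refine Subtype.ext ?_
      rw [hφv, hφv, hzi]
      calc d.z * (d.z * (x : G) * d.z) * d.z = d.z * d.z * x * (d.z * d.z) := by group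
        _ = x := by rw [d.z_mul, one_mul, mul_one]
  have hz : ∀ x ∈ O, d.z * x * d.z⁻¹ = x⁻¹ := fun x hx => by
    rw [← hφv ⟨x, hx⟩, show φ ⟨x, hx⟩ = (⟨x, hx⟩ : O)⁻¹ from congrFun hinv _]; rfl
  have hzk : ∀ k : G, ∀ x ∈ O, (k * d.z * k⁻¹) * x * (k * d.z * k⁻¹)⁻¹ = x⁻¹ := by
    intro k x hx
    have hx' : k⁻¹ * x * k ∈ O := by simpa using Normal.conj_mem (inferInstance : O.Normal) x hx k⁻¹
    calc (k * d.z * k⁻¹) * x * (k * d.z * k⁻¹)⁻¹ = k * (d.z * (k⁻¹ * x * k) * d.z⁻¹) * k⁻¹ := by group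
      _ = k * (k⁻¹ * x * k)⁻¹ * k⁻¹ := by rw [hz _ hx']
      _ = x⁻¹ := by group
  rw [eq_bot_iff]
  intro x hx
  obtain ⟨k, hk⟩ := conj_z0
  have hk' : d.z * (d.emb k * d.z * (d.emb k)⁻¹) = d.emb k * d.emb k * d.z * (d.emb k * d.emb k)⁻¹ := by
    rw [z, ← map_inv, ← map_mul, ← map_mul, ← map_mul, hk, map_mul, map_mul, map_inv, map_mul]
  have h1 : x = x⁻¹ := by
    have hxi : x⁻¹ ∈ O := inv_mem hx
    have h2 := hzk (d.emb k * d.emb k) x hx
    rw [← hk', show d.z * (d.emb k * d.z * (d.emb k)⁻¹) * x * (d.z * (d.emb k * d.z * (d.emb k)⁻¹))⁻¹ =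
      d.z * ((d.emb k * d.z * (d.emb k)⁻¹) * x * (d.emb k * d.z * (d.emb k)⁻¹)⁻¹) * d.z⁻¹ by group,
      hzk _ x hx, hz _ hxi, inv_inv] at h2
    exact h2
  have h2 : orderOf x ∣ 2 := orderOf_dvd_of_pow_eq_one (by rw [pow_two]; nth_rewrite 1 [h1]; exact inv_mul_cancel x)
  rcases (Nat.dvd_prime Nat.prime_two).1 h2 with h | h
  · exact mem_bot.2 (orderOf_eq_one_iff.1 h)
  · exact absurd (hord x hx) (by rw [h]; decide)

/-- The class of `t` is large unless `t` is central. -/
theorem central_or_class_large :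
    centralizer ({t} : Set G) = ⊤ ∨ 8 ≤ (centralizer ({t} : Set G)).index := by
  by_cases hiso : IsIsolatedInvolution t
  · left
    rw [eq_top_iff]
    exact fun g _ => mem_centralizer_singleton_iff.2
      (mem_center_iff.1 (ZStar.mem_center_of_isolated d.oddCore_eq_bot hiso) g)
  right
  have hex : ∃ a : Multiplicative (ZMod 2), ∃ g : G, d.emb (a, sigma) = g * t * g⁻¹ := by
    unfold IsIsolatedInvolution at hiso
    push Not at hiso
    obtain ⟨g, hg, hne⟩ := hiso d.ht
    obtain ⟨w, hw⟩ := d.exists_emb hg.eq.symm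
    have hww : w * w = 1 := d.emb_injective (by
      rw [map_mul, hw, map_one, conj_mul, ← pow_two, ← d.ht, pow_orderOf_eq_one, mul_one, mul_inv_cancel])
    rcases involutions w hww with rfl | rfl | hk | hk | hk | hk
    · rw [map_one, eq_comm, conj_eq_one_iff] at hw; exact absurd hw d.t_ne
    · exact absurd (hw.symm.trans d.emb_c) hne
    · obtain ⟨g₁, hg₁⟩ := d.emb_conj hk
      exact absurd (show g⁻¹ * g₁ * d.z * (g⁻¹ * g₁)⁻¹ = t by
        rw [show g⁻¹ * g₁ * d.z * (g⁻¹ * g₁)⁻¹ = g⁻¹ * (g₁ * d.emb z0 * g₁⁻¹) * g by rw [z]; group, ← hg₁, hw]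
        group) d.not_conj_z
    · obtain ⟨g₁, hg₁⟩ := d.emb_conj hk
      exact absurd (show g⁻¹ * g₁ * d.emb (c * z0) * (g⁻¹ * g₁)⁻¹ = t by
        rw [show g⁻¹ * g₁ * d.emb (c * z0) * (g⁻¹ * g₁)⁻¹ = g⁻¹ * (g₁ * d.emb (c * z0) * g₁⁻¹) * g by group,
          ← hg₁, hw]
        group) d.not_conj_cz
    · obtain ⟨g₁, hg₁⟩ := d.emb_conj hk
      refine ⟨1, g₁⁻¹ * g, ?_⟩
      rw [show d.emb (1, sigma) = g₁⁻¹ * (g₁ * d.emb s0 * g₁⁻¹) * g₁ by rw [s0]; group, ← hg₁, hw]
      group
    · obtain ⟨g₁, hg₁⟩ := d.emb_conj hk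
      refine ⟨Multiplicative.ofAdd 1, g₁⁻¹ * g, ?_⟩
      rw [show d.emb (Multiplicative.ofAdd 1, sigma) = g₁⁻¹ * (g₁ * d.emb (c * s0) * g₁⁻¹) * g₁ by
        rw [show c * s0 = (Multiplicative.ofAdd 1, sigma) by decide +kernel]; group, ← hg₁, hw]
      group
  obtain ⟨a, g₀, hg₀⟩ := hex
  set X : Set G := {x | ∃ g : G, g * t * g⁻¹ = x} with hX
  have hXc : X.ncard = (centralizer ({t} : Set G)).index := by
    have h1 : X = MulAction.orbit (ConjAct G) t := by
      ext x
      simp only [hX, Set.mem_setOf_eq, MulAction.mem_orbit_iff, ConjAct.smul_def]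
      exact ⟨fun ⟨g, hg⟩ => ⟨ConjAct.toConjAct g, by simpa using hg⟩, fun ⟨g, hg⟩ => ⟨ConjAct.ofConjAct g, hg⟩⟩
    rw [h1, ← MulAction.index_stabilizer, ConjAct.stabilizer_eq_centralizer]
    rfl
  rw [← hXc]
  by_contra hlt
  push Not at hlt
  let f : Option (Fin 6) → G := fun o => o.elim t fun i => d.emb (a, six i)
  have hf : Function.Injective f := by
    rintro (_ | i) (_ | j) h
    · rfl
    · have h' : c = (a, six j) := d.emb_injective (d.emb_c.trans h)
      exact absurd (congrArg Prod.snd h').symm (six_ne j)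
    · have h' : (a, six i) = c := d.emb_injective (h.trans d.emb_c.symm)
      exact absurd (congrArg Prod.snd h') (six_ne i)
    · exact congrArg some (six_injective (congrArg Prod.snd (d.emb_injective h)))
  have hfX : Set.range f ⊆ X := by
    rintro _ ⟨_ | i, rfl⟩
    · exact ⟨1, by simp [f]⟩
    · obtain ⟨k, hk⟩ := six_conj a i
      refine ⟨d.emb k * g₀, ?_⟩
      show _ = d.emb (a, six i)
      rw [← hk, map_mul, map_mul, show ((a, six 0) : W) = (a, sigma) from rfl, hg₀, map_inv]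
      group
  have heq : Set.range f = X := Set.eq_of_subset_of_ncard_le hfX (by
    rw [← Nat.card_coe_set_eq (Set.range f), Nat.card_range_of_injective hf, Finite.card_option, Nat.card_fin]
    omega) (Set.toFinite _)
  have hcomm : ∀ x ∈ X, x * t = t * x := by
    rw [← heq]
    rintro _ ⟨_ | i, rfl⟩
    · rfl
    · exact d.emb_comm _
  obtain ⟨g, hg⟩ := hfX ⟨some 0, rfl⟩
  obtain ⟨g', hg'⟩ := hfX ⟨some 1, rfl⟩
  have h1 := hcomm (g⁻¹ * f (some 1) * g) ⟨g⁻¹ * g', by rw [← hg']; group⟩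
  have h2 : f (some 1) * f (some 0) = f (some 0) * f (some 1) := by
    rw [← hg]
    calc f (some 1) * (g * t * g⁻¹) = g * ((g⁻¹ * f (some 1) * g) * t) * g⁻¹ := by group
      _ = g * (t * (g⁻¹ * f (some 1) * g)) * g⁻¹ := by rw [h1]
      _ = _ := by group
  exact six_not_comm a (d.emb_injective ((map_mul _ _ _).trans (h2.symm.trans (map_mul _ _ _).symm)))

end Setup

end Cfsg.Lib.Recog.TwoSymFour
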