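import Mathlib.GroupTheory.SpecificGroups.Dihedral
import Mathlib.GroupTheory.SpecificGroups.Alternating
import Mathlib.Data.ZMod.Basic
import Mathlib.GroupTheory.Perm.Fin

/-!
# Finite facts about `2 × S₄` and `A₆`
-/

set_option autoImplicit false

namespace Cfsg.Lib.Recog.TwoSymFour

open Equiv

/-- The group `2 × S₄`. -/
abbrev W := Multiplicative (ZMod 2) × Perm (Fin 4)

/-- The central involution. -/
def c : W := (Multiplicative.ofAdd 1, 1)

/-- The four-cycle. -/
def rho : Perm (Fin 4) := finRotate 4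

/-- A transposition inverting the four-cycle. -/
def sigma : Perm (Fin 4) := swap 0 2

/-- The underlying function of the embedding of the dihedral group of order eight. -/
def deltaFun : DihedralGroup 4 → Perm (Fin 4)
  | DihedralGroup.r i => rho ^ i.val
  | DihedralGroup.sr i => sigma * rho ^ i.val

theorem deltaFun_mul : ∀ a b, deltaFun (a * b) = deltaFun a * deltaFun b := by decide +kernel

/-- The embedding of the dihedral group of order eight. -/
def delta : DihedralGroup 4 →* Perm (Fin 4) := MonoidHom.mk' deltaFun deltaFun_mul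

theorem delta_injective : ∀ a b, delta a = delta b → a = b := by decide +kernel

/-- The noncentral involution of the four group centralized by the dihedral group. -/
def z0 : W := (1, rho * rho)

/-- A transposition. -/
def s0 : W := (1, sigma)

/-- The Sylow subgroup `2 × D₈`. -/
def T0 : Subgroup W := (⊤ : Subgroup (Multiplicative (ZMod 2))).prod delta.range

/-- Membership in the Sylow subgroup. -/
def InT (w : W) : Prop := ∃ d, delta d = w.2

instance : DecidablePred InT := fun _ => inferInstanceAs (Decidable (∃ _, _))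

theorem mem_T0 {w : W} : w ∈ T0 ↔ InT w := by
  unfold T0 InT
  simp [Subgroup.mem_prod]

theorem card_W : Nat.card W = 48 := by
  simp; rfl

theorem central_eq : ∀ w : W, (∀ k : W, k * w = w * k) → w = 1 ∨ w = c := by decide +kernel

theorem c_comm : ∀ w : W, c * w = w * c := by decide +kernel

theorem z0_comm : ∀ w : W, InT w → z0 * w = w * z0 := by decide +kernel

theorem comm_T : ∀ a : W, InT a → ∀ b : W, InT b →
    a * b * a⁻¹ * b⁻¹ = 1 ∨ a * b * a⁻¹ * b⁻¹ = z0 := by decide +kernel

theorem z0_eq : ∃ a : W, InT a ∧ ∃ b : W, InT b ∧ a * b * a⁻¹ * b⁻¹ = z0 := by decide +kernel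

theorem z0_fact : ∃ a : W, a * a = z0 := by decide +kernel

theorem centre_T : ∀ w : W, InT w → (∀ k : W, InT k → k * w = w * k) →
    w = 1 ∨ w = c ∨ w = z0 ∨ w = c * z0 := by decide +kernel

/-- `w` is a conjugate of `r`. -/
def Cl (r w : W) : Prop := ∃ k : W, k * r * k⁻¹ = w

instance (r w : W) : Decidable (Cl r w) := inferInstanceAs (Decidable (∃ _, _))

/-- The involutions up to conjugacy. -/
theorem involutions : ∀ w : W, w * w = 1 → w = 1 ∨ w = c ∨ Cl z0 w ∨
    Cl (c * z0) w ∨ Cl s0 w ∨ Cl (c * s0) w := by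
  decide +kernel

/-- The character killing exactly the first maximal subgroup. -/
def chi0 : W →* ℤˣ :=
  (MonoidHom.mk' (fun a : Multiplicative (ZMod 2) => if a = 1 then 1 else -1) (by decide)).comp
    (MonoidHom.fst _ _)

/-- The twisted character. -/
def chi1 : W →* ℤˣ := chi0 * Perm.sign.comp (MonoidHom.snd _ _)

theorem chi0_c : chi0 c = -1 := by decide +kernel

theorem chi1_c : chi1 c = -1 := by decide +kernel

theorem chi0_card : Fintype.card {w : W // InT w ∧ chi0 w = 1} = 8 := by decide +kernel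

theorem chi1_card : Fintype.card {w : W // InT w ∧ chi1 w = 1} = 8 := by decide +kernel

theorem chi0_inv : ∀ w : W, w * w = 1 → chi0 w = 1 →
    w = 1 ∨ Cl z0 w ∨ Cl s0 w := by decide +kernel

theorem chi1_inv : ∀ w : W, w * w = 1 → chi1 w = 1 →
    w = 1 ∨ Cl z0 w ∨ Cl (c * s0) w := by decide +kernel

theorem order_dvd : ∀ w : W, w ^ 12 = 1 := by decide +kernel

theorem odd_normal : ∀ w : W, w ^ 3 = 1 → w ≠ 1 →
    ∃ k : W, k * w * k⁻¹ * w⁻¹ ≠ 1 ∧ (k * w * k⁻¹ * w⁻¹) * (k * w * k⁻¹ * w⁻¹) = 1 := by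
  decide +kernel

theorem conj_z0 : ∃ k : W, z0 * (k * z0 * k⁻¹) = (k * k) * z0 * (k * k)⁻¹ := by decide +kernel

/-- Six conjugates of a transposition. -/
def six : Fin 6 → Perm (Fin 4) :=
  ![swap 0 2, swap 0 1, swap 0 3, swap 1 2, swap 1 3, swap 2 3]

theorem six_injective : Function.Injective six := by decide +kernel

theorem six_ne : ∀ i, six i ≠ 1 := by decide +kernel

theorem six_conj : ∀ (a : Multiplicative (ZMod 2)) (i : Fin 6),
    ∃ k : W, k * (a, six 0) * k⁻¹ = (a, six i) := by decide +kernel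

theorem six_not_comm : ∀ a : Multiplicative (ZMod 2),
    ((a, six 0) : W) * (a, six 1) ≠ (a, six 1) * (a, six 0) := by decide +kernel

theorem three_cycle_four : ∃ p : Perm (Fin 4), p ^ 3 = 1 ∧ p ≠ 1 := by decide +kernel

theorem centralizer_alt_six : ∀ σ : Perm (Fin 6),
    σ * (swap 0 1 * swap 1 2) = (swap 0 1 * swap 1 2) * σ →
    σ * (swap 1 2 * swap 2 3 * (swap 3 4 * swap 4 5)) = (swap 1 2 * swap 2 3 * (swap 3 4 * swap 4 5)) * σ →
    σ = 1 := by decide +kernel

theorem double_three_std : ∃ d τ : Perm (Fin 6), d ^ 3 = 1 ∧ d.support.card = 6 ∧ Perm.sign τ = -1 ∧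
    τ * d = d * τ :=
  ⟨swap 0 1 * swap 1 2 * (swap 3 4 * swap 4 5), swap 0 3 * swap 1 4 * swap 2 5, by decide +kernel⟩

end Cfsg.Lib.Recog.TwoSymFour
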