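import Mathlib.Data.Nat.Choose.Factorization
import Mathlib.Data.Nat.Choose.Lucas
import Mathlib.Data.Nat.Prime.Factorial
import Mathlib.NumberTheory.PrimeCounting
import Mathlib.Tactic

/-!
# A weak form of Sylvester's theorem

For `1 ≤ k ≤ m/2` the binomial coefficient `C(m, k)` has a prime factor `p` with `k < p` or `m < p²`.
-/

set_option autoImplicit false

set_option linter.style.haveILetI false

namespace Cfsg.Lib.WeakSylvester

open Finset

/-- A prime `r` with `k < r` or `m < r²` dividing `C(m, k)` has `m % r < k % r`. -/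
theorem mod_lt_mod_of_dvd_choose {m k r : ℕ} (hr : r.Prime) (hkm : k ≤ m) (h : k < r ∨ m < r * r)
    (hd : r ∣ m.choose k) : m % r < k % r := by
  haveI := Fact.mk hr
  by_contra hc
  push Not at hc
  have h1 := Choose.choose_modEq_choose_mod_mul_choose_div_nat (n := m) (k := k) (p := r)
  have h2 : ¬ r ∣ (m % r).choose (k % r) := fun hh => by
    have hA : (m % r).factorial = (m % r).choose (k % r) * (k % r).factorial * (m % r - k % r).factorial :=
      (Nat.choose_mul_factorial_mul_factorial hc).symm
    have : r ∣ (m % r).factorial := by rw [hA]; exact (hh.mul_right _).mul_right _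
    exact absurd (hr.dvd_factorial.1 this) (Nat.not_le.2 (Nat.mod_lt _ hr.pos))
  have h3 : ¬ r ∣ (m / r).choose (k / r) := by
    rcases h with h | h
    · rw [Nat.div_eq_of_lt h, Nat.choose_zero_right]
      exact hr.not_dvd_one
    · have hlt : m / r < r := Nat.div_lt_of_lt_mul h
      have hle : k / r ≤ m / r := Nat.div_le_div_right hkm
      intro hh
      have : r ∣ (m / r).factorial := by
        rw [← Nat.choose_mul_factorial_mul_factorial hle]; exact (hh.mul_right _).mul_right _
      exact absurd (hr.dvd_factorial.1 this) (Nat.not_le.2 hlt)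
  exact (hr.dvd_mul.not.2 (not_or.2 ⟨h2, h3⟩)) ((h1.dvd_iff dvd_rfl).1 hd)

theorem card_primesLE_le_half {t : ℕ} (ht : 8 ≤ t) : 2 * (Nat.primesLE t).card ≤ t := by
  classical
  have hsub : Nat.primesLE t ⊆ insert 2 ((((Finset.range ((t + 1) / 2)).image fun i => 2 * i + 1).erase 1).erase 9) ∧
      (9 ≤ t ∨ t = 8) := by
    refine ⟨fun p hp => ?_, by omega⟩
    rw [Nat.mem_primesLE] at hp
    rw [Finset.mem_insert]
    rcases hp.2.eq_two_or_odd with h | h
    · exact Or.inl h
    · right
      simp only [Finset.mem_erase, Finset.mem_image, Finset.mem_range]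
      refine ⟨fun h9 => ?_, fun h1 => hp.2.one_lt.ne' h1, p / 2, by omega, by omega⟩
      rw [h9] at hp
      exact absurd hp.2 (by norm_num)
  rcases hsub.2 with h9 | rfl
  · have := (Finset.card_le_card hsub.1).trans (Finset.card_insert_le _ _)
    rw [Finset.card_erase_of_mem, Finset.card_erase_of_mem, Finset.card_image_of_injective, Finset.card_range] at this
    · omega
    · intro a b h; simp only at h; omega
    · simp only [Finset.mem_image, Finset.mem_range]; exact ⟨0, by omega, rfl⟩
    · simp only [Finset.mem_erase, Finset.mem_image, Finset.mem_range]; exact ⟨by omega, 4, by omega, rfl⟩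
  · decide +kernel

theorem pow_mul_factorial_lt {m : ℕ} : ∀ t : ℕ, 2 ≤ t → t < m → m ^ t * t.factorial < t ^ t * m.descFactorial t := by
  intro t ht htm
  rw [Nat.descFactorial_eq_prod_range, ← Finset.prod_range_add_one_eq_factorial, ← Finset.prod_range_reflect (fun x => x + 1)]
  rw [show m ^ t = ∏ _i ∈ Finset.range t, m by simp, show t ^ t = ∏ _i ∈ Finset.range t, t by simp,
    ← Finset.prod_mul_distrib, ← Finset.prod_mul_distrib]
  refine Finset.prod_lt_prod (fun i hi => ?_) (fun i hi => ?_) ⟨1, Finset.mem_range.2 (by omega), ?_⟩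
  · rw [Finset.mem_range] at hi
    exact Nat.mul_pos (by omega) (by omega)
  · rw [Finset.mem_range] at hi
    obtain ⟨a, rfl⟩ : ∃ a, t = i + 1 + a := ⟨t - i - 1, by omega⟩
    obtain ⟨b, rfl⟩ : ∃ b, m = i + 1 + a + b := ⟨m - (i + 1 + a), by omega⟩
    rw [show i + 1 + a - 1 - i + 1 = a + 1 by omega, show i + 1 + a + b - i = a + b + 1 by omega]
    nlinarith
  · obtain ⟨a, rfl⟩ : ∃ a, t = 2 + a := ⟨t - 2, by omega⟩
    obtain ⟨b, rfl⟩ : ∃ b, m = 2 + a + 1 + b := ⟨m - (2 + a + 1), by omega⟩
    rw [show 2 + a - 1 - 1 + 1 = a + 1 by omega, show 2 + a + 1 + b - 1 = a + b + 2 by omega]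
    nlinarith

theorem choose_mono {m s : ℕ} : ∀ k : ℕ, s ≤ k → 2 * k ≤ m → m.choose s ≤ m.choose k := by
  intro k hsk
  induction k, hsk using Nat.le_induction with
  | base => exact fun _ => le_rfl
  | succ j hj ih => exact fun h => (ih (by omega)).trans (Nat.choose_le_succ_of_lt_half_left (by omega))

theorem choose_le_pow {m k t : ℕ} (hm : 1 ≤ m) (hkm : k ≤ m) (h : ∀ p, p.Prime → p ∣ m.choose k → p ≤ t) :
    m.choose k ≤ m ^ (Nat.primesLE t).card := by
  classical
  have hC : m.choose k ≠ 0 := (Nat.choose_pos hkm).ne'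
  conv_lhs => rw [← Nat.prod_factorization_pow_eq_self hC]
  rw [Finsupp.prod]
  refine (Finset.prod_le_pow_card _ _ m fun p _ => Nat.pow_factorization_choose_le hm).trans
    (Nat.pow_le_pow_right hm (Finset.card_le_card fun p hp => ?_))
  rw [Nat.support_factorization, Nat.mem_primeFactors] at hp
  exact Nat.mem_primesLE.2 ⟨h p hp.1 hp.2.1, hp.1⟩

set_option maxRecDepth 100000 in
theorem small : ∀ m < 94, ∀ k < min (m / 2 + 1) (if m < 64 then 48 else 8), 0 < k →
    ∃ p ∈ [2, 3, 5, 7, 11, 13, 17, 19, 23, 29, 31, 37, 41, 43, 47, 53, 59, 61, 67, 71, 73, 79, 83, 89],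
      (k < p ∨ m < p * p) ∧ m % p < k % p := by decide +kernel

/-- For `1 ≤ k ≤ m/2`, some prime `p` with `k < p` or `m < p²` divides `C(m, k)`. -/
theorem exists_prime_dvd_choose {m k : ℕ} (hk : 1 ≤ k) (hkm : 2 * k ≤ m) :
    ∃ p, p.Prime ∧ p ∣ m.choose k ∧ (k < p ∨ m < p * p) := by
  classical
  by_cases hsmall : m < 64 ∨ (m < 94 ∧ k < 8)
  · obtain ⟨p, hpl, h1, h2⟩ := small m (by omega) k
      (by rcases hsmall with h | h
          · rw [if_pos h]; omega
          · split <;> omega) (by omega)
    have hp : p.Prime := by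
      simp only [List.mem_cons, List.not_mem_nil, or_false] at hpl
      rcases hpl with h | h | h | h | h | h | h | h | h | h | h | h | h | h | h | h | h | h | h | h | h | h | h | h <;>
        subst h <;> norm_num
    haveI := Fact.mk hp
    refine ⟨p, hp, ?_, h1⟩
    have h3 := Choose.choose_modEq_choose_mod_mul_choose_div_nat (n := m) (k := k) (p := p)
    rw [Nat.choose_eq_zero_of_lt h2, zero_mul] at h3
    exact Nat.modEq_zero_iff_dvd.1 h3
  by_contra hno
  push Not at hno
  set t := min k (Nat.sqrt m) with ht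
  have hts : t * t ≤ m := (Nat.mul_le_mul (min_le_right _ _) (min_le_right _ _)).trans (Nat.sqrt_le m)
  have hle : ∀ p, p.Prime → p ∣ m.choose k → p ≤ t := fun p hp hd =>
    le_min (hno p hp hd).1 (Nat.le_sqrt.2 (hno p hp hd).2)
  have hub := choose_le_pow (by omega) (by omega) hle
  have hlb := choose_mono (m := m) (s := t) k (min_le_left _ _) hkm
  by_cases h8 : t < 8
  · -- here `k < 8` and `m ≥ 94`
    have hkt : t = k := by
      rcases min_choice k (Nat.sqrt m) with h | h
      · exact ht.trans h
      · exfalso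
        have h8' : Nat.sqrt m < 8 := by rw [← h]; exact h8
        have := Nat.sqrt_lt.1 h8'
        omega
    rw [hkt] at h8 hle hub
    have hm94 : 94 ≤ m := by
      by_contra hh
      exact hsmall (Or.inr ⟨by omega, h8⟩)
    by_cases hk1 : k = 1
    · subst hk1
      rw [Nat.choose_one_right] at hle
      have := hle m.minFac (Nat.minFac_prime (by omega)) (Nat.minFac_dvd m)
      have := (Nat.minFac_prime (n := m) (by omega)).two_le
      omega
    have hl := pow_mul_factorial_lt k (by omega) (by omega) (m := m)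
    rw [Nat.descFactorial_eq_factorial_mul_choose, ← mul_assoc, mul_comm (k ^ k) k.factorial, mul_assoc,
      mul_comm (m ^ k)] at hl
    have hl' := Nat.lt_of_mul_lt_mul_left hl
    have hl2 := hl'.trans_le (Nat.mul_le_mul_left _ hub)
    interval_cases k
    · omega
    · have h := hub
      rw [Nat.choose_two_right, show (Nat.primesLE 2).card = 1 by decide +kernel, pow_one] at h
      have h5 : 94 * (m - 1) / 2 ≤ m * (m - 1) / 2 := Nat.div_le_div_right (Nat.mul_le_mul_right _ hm94)
      omega
    · rw [show (Nat.primesLE 3).card = 2 by decide +kernel, pow_succ m 2, mul_comm (3 ^ 3)] at hl2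
      have := Nat.lt_of_mul_lt_mul_left hl2
      omega
    · rw [show (Nat.primesLE 4).card = 2 by decide +kernel, show (4:ℕ) = 2 + 2 from rfl, pow_add m 2 2] at hl2
      have h5 := Nat.lt_of_mul_lt_mul_right hl2
      norm_num at h5
      nlinarith
    · rw [show (Nat.primesLE 5).card = 3 by decide +kernel, pow_add m 3 2, mul_comm _ (m ^ 3)] at hl2
      have h5 := Nat.lt_of_mul_lt_mul_left hl2
      nlinarith
    · rw [show (Nat.primesLE 6).card = 3 by decide +kernel, pow_add m 3 3] at hl2
      have h5 := Nat.lt_of_mul_lt_mul_right hl2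
      have h6 : 94 ^ 3 ≤ m ^ 3 := Nat.pow_le_pow_left hm94 3
      omega
    · rw [show (Nat.primesLE 7).card = 4 by decide +kernel, pow_add m 4 3, mul_comm _ (m ^ 4)] at hl2
      have h5 := Nat.lt_of_mul_lt_mul_left hl2
      have h6 : 94 ^ 3 ≤ m ^ 3 := Nat.pow_le_pow_left hm94 3
      omega
  · push Not at h8
    have hlt : t < m := by nlinarith
    have hl := pow_mul_factorial_lt t (by omega) hlt (m := m)
    rw [Nat.descFactorial_eq_factorial_mul_choose, ← mul_assoc, mul_comm (t ^ t) t.factorial, mul_assoc,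
      mul_comm (m ^ t)] at hl
    have hl' := Nat.lt_of_mul_lt_mul_left hl
    have hl2 := hl'.trans_le (Nat.mul_le_mul_left _ (hlb.trans hub))
    have hpi := card_primesLE_le_half h8
    set c := (Nat.primesLE t).card
    have h1 : (m ^ t) * (m ^ t) < (t ^ t * m ^ c) * (t ^ t * m ^ c) := Nat.mul_self_lt_mul_self hl2
    have h2 : (t ^ t * m ^ c) * (t ^ t * m ^ c) ≤ m ^ t * m ^ t := by
      calc (t ^ t * m ^ c) * (t ^ t * m ^ c) = (t * t) ^ t * m ^ (2 * c) := by rw [mul_pow, two_mul, pow_add]; ring
        _ ≤ m ^ t * m ^ t := Nat.mul_le_mul (Nat.pow_le_pow_left hts t) (Nat.pow_le_pow_right (by omega) hpi)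
    omega

end Cfsg.Lib.WeakSylvester
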